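import Groth.Agent.CohCmpLib.UnitFibre
import Groth.Agent.PicPnLib.BaseChange
import Groth.Agent.PnCohLib.Global
import Groth.Agent.PnCohLib.HypSec
import Groth.Agent.QCohLib.Push
import Groth.Agent.MiscFlat6.TensorGG
import Groth.Agent.AmpleDevLib.Pull

/-!
# The fibres of projective space over a point of the base, in coordinates
-/

set_option autoImplicit false
set_option linter.style.haveILetI false
set_option maxHeartbeats 1000000
universe u

open CategoryTheory CategoryTheory.Limits AlgebraicGeometry TopologicalSpace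
open KFlatLib (pb)

noncomputable section

namespace QuotSchLib

/-- Direct image along an isomorphism as an equivalence. -/
def pushEquiv {Y Z : Scheme.{u}} (e : Y ≅ Z) : Z.Modules ≌ Y.Modules :=
  CategoryTheory.Equivalence.mk (Scheme.Modules.pushforward e.inv) (Scheme.Modules.pushforward e.hom)
    ((Scheme.Modules.pushforwardId Z).symm ≪≫ Scheme.Modules.pushforwardCongr e.inv_hom_id.symm ≪≫
      (Scheme.Modules.pushforwardComp e.inv e.hom).symm)
    (Scheme.Modules.pushforwardComp e.hom e.inv ≪≫ Scheme.Modules.pushforwardCongr e.hom_inv_id ≪≫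
      Scheme.Modules.pushforwardId Y)

/-- Pullback along an isomorphism is direct image along its inverse. -/
def pullbackIsoPush {Y Z : Scheme.{u}} (e : Y ≅ Z) :
    Scheme.Modules.pullback e.hom ≅ Scheme.Modules.pushforward e.inv :=
  (Scheme.Modules.pullbackPushforwardAdjunction e.hom).leftAdjointUniq (pushEquiv e).toAdjunction

theorem subsingleton_HH_pullback_iso {Y Z : Scheme.{u}} (e : Y ≅ Z) (M : Z.Modules) [Coh.IsQCoh M] (p : ℕ) :
    Subsingleton (Coh.HH Y ((Scheme.Modules.pullback e.hom).obj M) p) ↔ Subsingleton (Coh.HH Z M p) := by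
  obtain ⟨E⟩ := QCohLib.nonempty_HH_push e.inv M p
  refine ⟨fun h => ?_, fun h => ?_⟩
  · haveI := SerreVanLib.subsingleton_HH_of_iso ((pullbackIsoPush e).app M).symm p h
    exact E.toEquiv.subsingleton
  · exact SerreVanLib.subsingleton_HH_of_iso ((pullbackIsoPush e).app M) p E.symm.toEquiv.subsingleton

variable {n : ℕ} {T : Scheme.{u}}

/-- Projective space over the residue field, mapped onto the fibre. -/
def fibJ (n : ℕ) (T : Scheme.{u}) (t : T) : CohB1.ProjSpace n (T.residueField t) ⟶ CohB1.ProjSpaceOver n T :=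
  (PicPnLib.exists_square n (T.residueField t) (T.fromSpecResidueField t)).choose

theorem isPullback_fibJ (t : T) :
    IsPullback (fibJ n T t) (CohB1.ProjSpace.toSpec n (T.residueField t)) (CohB1.ProjSpaceOver.toBase n T)
      (T.fromSpecResidueField t) :=
  (PicPnLib.exists_square n (T.residueField t) (T.fromSpecResidueField t)).choose_spec.1

theorem nonempty_fibJ_twist (t : T) (d : ℤ) :
    Nonempty (pb (fibJ n T t) (Twist.twistOver n T d) ≅ Twist.twistProjSpace n (T.residueField t) d) :=
  (PicPnLib.exists_square n (T.residueField t) (T.fromSpecResidueField t)).choose_spec.2 d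

/-- The restriction of a twist to a fibre is the twist of the restriction. -/
theorem nonempty_fibJ_tensor (t : T) (Q : (CohB1.ProjSpaceOver n T).Modules) (d : ℤ) :
    Nonempty (pb (fibJ n T t) (CohB1.tensorMod Q (Twist.twistOver n T d)) ≅
      CohB1.tensorMod (pb (fibJ n T t) Q) (Twist.twistProjSpace n (T.residueField t) d)) := by
  obtain ⟨e⟩ := nonempty_fibJ_twist (n := n) t d
  have hθ := KFlatLib.isIso_pullθ (fibJ n T t) Q (Twist.twistOver n T d)
  exact ⟨@asIso _ _ _ _ (KFlatLib.pullθ (fibJ n T t) Q (Twist.twistOver n T d)) hθ ≪≫ HilbPolyLib.congrRight _ e⟩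

/-- Cohomology of the restriction to any model of the fibre. -/
theorem subsingleton_HH_fibre_iff (t : T) {X' : Scheme.{u}} {g' : X' ⟶ CohB1.ProjSpaceOver n T}
    {f' : X' ⟶ Spec (T.residueField t)}
    (H : IsPullback g' f' (CohB1.ProjSpaceOver.toBase n T) (T.fromSpecResidueField t))
    (M : (CohB1.ProjSpaceOver n T).Modules) [Coh.IsQCoh M] (p : ℕ) :
    Subsingleton (Coh.HH X' (pb g' M) p) ↔
      Subsingleton (Coh.HH (CohB1.ProjSpace n (T.residueField t)) (pb (fibJ n T t) M) p) := by
  let e : CohB1.ProjSpace n (T.residueField t) ≅ X' := (isPullback_fibJ (n := n) t).isoIsPullback _ _ H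
  have he : e.hom ≫ g' = fibJ n T t := (isPullback_fibJ (n := n) t).isoIsPullback_hom_fst _ _ H
  haveI : Coh.IsQCoh (pb g' M) := KFlatLib.isQCoh_pullback g' M
  let i : (Scheme.Modules.pullback e.hom).obj (pb g' M) ≅ pb (fibJ n T t) M :=
    (Scheme.Modules.pullbackComp e.hom g').app M ≪≫ (Scheme.Modules.pullbackCongr he).app M
  rw [← subsingleton_HH_pullback_iso e (pb g' M) p]
  exact ⟨fun h => SerreVanLib.subsingleton_HH_of_iso i.symm p h,
    fun h => SerreVanLib.subsingleton_HH_of_iso i p h⟩

/-- Restrictions to the fibres are `m`-regular. -/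
def RegFam (Q : (CohB1.ProjSpaceOver n T).Modules) (m : ℤ) : Prop :=
  ∀ t : T, Curv2.IsMRegular (T.residueField t) n (pb (fibJ n T t) Q) m

theorem subsingleton_fiberH_iff (t : T) (M : (CohB1.ProjSpaceOver n T).Modules) [Coh.IsQCoh M] (p : ℕ) :
    Subsingleton (CohIII.fiberH (CohB1.ProjSpaceOver.toBase n T) M t p) ↔
      Subsingleton (Coh.HH (CohB1.ProjSpace n (T.residueField t)) (pb (fibJ n T t) M) p) :=
  subsingleton_HH_fibre_iff t (IsPullback.of_hasPullback _ _) M p

theorem isQCoh_twist (Q : (CohB1.ProjSpaceOver n T).Modules) [Coh.IsQCoh Q] (d : ℤ) :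
    Coh.IsQCoh (CohB1.tensorMod Q (Twist.twistOver n T d)) :=
  MiscFlat6.isQCoh_tensor (PicPnLib.twistOver_inv n T d)

theorem RegFam.subsingleton_fiberH {Q : (CohB1.ProjSpaceOver n T).Modules} [Coh.IsQCoh Q] {m : ℤ}
    (h : RegFam Q m) (d : ℤ) (hd : m - 1 ≤ d) (t : T) (p : ℕ) (hp : 1 ≤ p) :
    Subsingleton (CohIII.fiberH (CohB1.ProjSpaceOver.toBase n T) (CohB1.tensorMod Q (Twist.twistOver n T d)) t p) := by
  haveI := isQCoh_twist Q d
  rw [subsingleton_fiberH_iff]
  obtain ⟨e⟩ := nonempty_fibJ_tensor t Q d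
  refine SerreVanLib.subsingleton_HH_of_iso e p ?_
  exact PnCohLib.vanishing_ge _ _ (KFlatLib.isQCoh_pullback (fibJ n T t) Q) m (h t) p hp _ (by omega)

end QuotSchLib
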