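import Groth.Agent.RankLocusLib.Epi
import Groth.Agent.RankLocusLib.Local
import Groth.Agent.LocSuppLib.LocFree
import Groth.Agent.RpushLib.Ab
import Groth.Agent.ProjFormLib.Frame

/-!
# The zero locus of a homomorphism to a locally free module
-/

set_option autoImplicit false
set_option linter.style.haveILetI false
set_option maxHeartbeats 1000000
universe u

open CategoryTheory CategoryTheory.Limits AlgebraicGeometry TopologicalSpace Opposite

noncomputable section

namespace QuotSchLib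

/-- An epimorphism between locally free modules of the same rank is invertible. -/
theorem isIso_of_epi_rank {r : ℕ} {X : Scheme.{u}} {A B : X.Modules} (hA : FlatMod.IsFinLocFreeOfRank r A)
    (hB : FlatMod.IsFinLocFreeOfRank r B) (φ : A ⟶ B) [Epi φ] : IsIso φ := by
  haveI : Coh.IsQCoh A := (LocSuppLib.isCoh_of_isFinLocFree fun x => let ⟨U, h⟩ := hA x; ⟨U, r, h⟩).1
  haveI : Coh.IsQCoh B := (LocSuppLib.isCoh_of_isFinLocFree fun x => let ⟨U, h⟩ := hB x; ⟨U, r, h⟩).1
  refine RpushLib.isIso_of_bijective_basis φ (B := {V : X.Opens | IsAffineOpen V ∧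
    RankLocusLib.FreeAlong r A V.ι ∧ RankLocusLib.FreeAlong r B V.ι}) ?_ fun V hV => ?_
  · refine Opens.isBasis_iff_nbhd.mpr fun {O z} hz => ?_
    obtain ⟨U₁, h₁, e₁⟩ := hA z
    obtain ⟨U₂, h₂, e₂⟩ := hB z
    obtain ⟨V, hV, hzV, hle⟩ := exists_isAffineOpen_mem_and_subset (X := X) (x := z) (U := O ⊓ (U₁ ⊓ U₂)) ⟨hz, h₁, h₂⟩
    have hle' : V ≤ O ⊓ (U₁ ⊓ U₂) := hle
    have f₁ := RankLocusLib.freeAlong_comp ((RankLocusLib.freeAlong_restrict_iff A U₁).2 e₁)
      (X.homOfLE (hle'.trans (inf_le_right.trans inf_le_left)))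
    have f₂ := RankLocusLib.freeAlong_comp ((RankLocusLib.freeAlong_restrict_iff B U₂).2 e₂)
      (X.homOfLE (hle'.trans (inf_le_right.trans inf_le_right)))
    rw [Scheme.homOfLE_ι] at f₁ f₂
    exact ⟨V, ⟨hV, f₁, f₂⟩, hzV, hle'.trans inf_le_left⟩
  · obtain ⟨hV, f₁, f₂⟩ := hV
    obtain ⟨a⟩ := RankLocusLib.nonempty_basis_of_freeAlong A f₁
    obtain ⟨b⟩ := RankLocusLib.nonempty_basis_of_freeAlong B f₂
    let l : Γ(A, V) →ₗ[Γ(X, V)] Γ(B, V) :=
      { toFun := φ.app V, map_add' := map_add _, map_smul' := fun c m => QCohLib.app_smul φ V c m }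
    have hl : Function.Surjective l := FormalLib.app_surjective_of_epi _ φ hV
    let E := a.equivFun.toLinearMap ∘ₗ (b.equivFun.trans a.equivFun.symm).toLinearMap ∘ₗ l ∘ₗ a.equivFun.symm.toLinearMap
    have hE : Function.Injective E := OrzechProperty.injective_of_surjective_endomorphism E
      (a.equivFun.surjective.comp ((b.equivFun.trans a.equivFun.symm).surjective.comp (hl.comp a.equivFun.symm.surjective)))
    refine ⟨fun x y h => ?_, hl⟩
    refine a.equivFun.injective (hE ?_)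
    simp only [E, LinearMap.comp_apply, LinearEquiv.coe_coe, LinearEquiv.symm_apply_apply]
    rw [show l x = l y from h]

variable {X : Scheme.{u}} {A B : X.Modules}

/-- Vanishing of the pulled back homomorphism, for a target of constant rank, as a rank condition. -/
theorem locFreeAlong_coker_iff {r : ℕ} (hB : FlatMod.IsFinLocFreeOfRank r B) (φ : A ⟶ B) {T : Scheme.{u}}
    (f : T ⟶ X) :
    RankLocusLib.LocFreeAlong r (cokernel φ) f ↔ (Scheme.Modules.pullback f).map φ = 0 := by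
  have : (Scheme.Modules.pullback f).IsLeftAdjoint := ⟨_, ⟨Scheme.Modules.pullbackPushforwardAdjunction f⟩⟩
  have hfB : FlatMod.IsFinLocFreeOfRank r ((Scheme.Modules.pullback f).obj B) :=
    (RankLocusLib.isFinLocFreeOfRank_pullback_iff B f).2 (by
      intro t
      obtain ⟨U, hU, e⟩ := hB (f t)
      refine ⟨f ⁻¹ᵁ U, hU, ?_⟩
      rw [← morphismRestrict_ι]
      exact RankLocusLib.freeAlong_comp ((RankLocusLib.freeAlong_restrict_iff B U).2 e) _)
  let π' := (Scheme.Modules.pullback f).map (cokernel.π φ)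
  have hzero : (Scheme.Modules.pullback f).map φ ≫ π' = 0 := by
    rw [← Functor.map_comp, cokernel.condition, Functor.map_zero]
  rw [← RankLocusLib.isFinLocFreeOfRank_pullback_iff]
  constructor
  · intro h
    haveI : Epi π' := inferInstanceAs (Epi ((Scheme.Modules.pullback f).map (cokernel.π φ)))
    haveI := isIso_of_epi_rank hfB h π'
    rw [← cancel_mono π', hzero, zero_comp]
  · intro h
    haveI : IsIso π' := by
      have hc : cokernel.π ((Scheme.Modules.pullback f).map φ) ≫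
          (PreservesCokernel.iso (Scheme.Modules.pullback f) φ).inv = π' :=
        by rw [PreservesCokernel.iso_inv]; exact π_comp_cokernelComparison _ _
      haveI : IsIso (cokernel.π ((Scheme.Modules.pullback f).map φ)) :=
        ⟨cokernel.desc _ (𝟙 _) (by rw [Category.comp_id]; exact h), cokernel.π_desc _ _ _, by
          rw [← cancel_epi (cokernel.π ((Scheme.Modules.pullback f).map φ)), cokernel.π_desc_assoc,
            Category.id_comp, Category.comp_id]⟩
      rw [← hc]; infer_instance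
    intro t
    obtain ⟨U, hU, ⟨e⟩⟩ := hfB t
    exact ⟨U, hU, ⟨(Scheme.Modules.restrictFunctor U.ι).mapIso (asIso π').symm ≪≫ e⟩⟩

/-- The zero locus of a homomorphism into a module of constant rank. -/
theorem exists_zero_locus_rank [Coh.IsQCoh A] {r : ℕ} (hB : FlatMod.IsFinLocFreeOfRank r B) (φ : A ⟶ B) :
    ∃ (Z : Scheme.{u}) (i : Z ⟶ X), IsClosedImmersion i ∧
      ∀ (T : Scheme.{u}) (f : T ⟶ X), (∃ g : T ⟶ Z, g ≫ i = f) ↔ (Scheme.Modules.pullback f).map φ = 0 := by
  have hBc := LocSuppLib.isCoh_of_isFinLocFree fun x => let ⟨U, h⟩ := hB x; ⟨U, r, h⟩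
  haveI := hBc.1
  haveI : Coh.IsQCoh (cokernel φ) := QCohLib.isQCoh_cokernel φ
  have hFT : CohB1.IsFT (cokernel φ) := QCohLib.isFT_of_epi (cokernel.π φ) hBc.2
  obtain ⟨Z, i, -, hu, hcl⟩ := RankLocusLib.exists_immersion (cokernel φ) r hFT
  refine ⟨Z, i, hcl (RankLocusLib.genLocus_eq_top _ fun s => ?_), fun T f => (hu T f).trans (locFreeAlong_coker_iff hB φ f)⟩
  obtain ⟨U, hU, ⟨e⟩⟩ := hB s
  haveI : Epi ((Scheme.Modules.restrictFunctor U.ι).map (cokernel.π φ)) := inferInstance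
  exact ⟨U, hU, e.inv ≫ (Scheme.Modules.restrictFunctor U.ι).map (cokernel.π φ), epi_comp _ _⟩

/-- Vanishing of a pulled back homomorphism along a composite. -/
theorem pullback_comp_map_eq_zero_iff (φ : A ⟶ B) {T T' : Scheme.{u}} (g : T' ⟶ T) (f : T ⟶ X) :
    (Scheme.Modules.pullback g).map ((Scheme.Modules.pullback f).map φ) = 0 ↔
      (Scheme.Modules.pullback (g ≫ f)).map φ = 0 := by
  have h := (Scheme.Modules.pullbackComp g f).hom.naturality φ
  rw [Functor.comp_map] at h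
  constructor <;> intro h0
  · rw [← cancel_epi ((Scheme.Modules.pullbackComp g f).hom.app A), comp_zero, ← h, h0, zero_comp]
  · rw [← cancel_mono ((Scheme.Modules.pullbackComp g f).hom.app B), zero_comp, h, h0, comp_zero]

/-- Vanishing is local on the source. -/
theorem eq_zero_of_nhds {T : Scheme.{u}} {P Q : T.Modules} (ψ : P ⟶ Q)
    (h : ∀ t : T, ∃ V : T.Opens, t ∈ V ∧ (Scheme.Modules.pullback V.ι).map ψ = 0) : ψ = 0 := by
  refine Scheme.Modules.hom_ext _ _ fun U => ?_
  refine ConcreteCategory.hom_ext _ _ fun s => ?_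
  show ψ.app U s = (0 : Γ(Q, U))
  refine ProjFormLib.section_ext _ _ fun t ht => ?_
  obtain ⟨V, htV, hV⟩ := h t
  have hr : (Scheme.Modules.restrictFunctor V.ι).map ψ = 0 := by
    rw [← cancel_mono ((Scheme.Modules.restrictFunctorIsoPullback V.ι).hom.app Q), zero_comp,
      (Scheme.Modules.restrictFunctorIsoPullback V.ι).hom.naturality ψ, hV, comp_zero]
  have hle : V.ι ''ᵁ (V.ι ⁻¹ᵁ U) ≤ U := V.ι.image_preimage_le U
  have ht' : t ∈ V.ι ''ᵁ (V.ι ⁻¹ᵁ U) := ⟨⟨t, htV⟩, ht, rfl⟩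
  rw [← ProjFormLib.ger_res Q hle t ht', ← ProjFormLib.ger_res Q hle t ht' (0 : Γ(Q, U))]
  refine congrArg (ProjFormLib.ger Q t ht') ?_
  refine (QCohLib.app_map ψ _ s).symm.trans ?_
  refine Eq.trans ?_ (map_zero (Q.presheaf.map (homOfLE hle).op).hom).symm
  exact congr(Scheme.Modules.Hom.app $hr (V.ι ⁻¹ᵁ U) (P.presheaf.map (homOfLE hle).op s))

/-- The zero locus of a homomorphism into a finite locally free module. -/
theorem exists_zero_locus [Coh.IsQCoh A] (hB : FlatMod.IsFinLocFree B) (φ : A ⟶ B) :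
    ∃ (Z : Scheme.{u}) (i : Z ⟶ X), IsClosedImmersion i ∧
      ∀ (T : Scheme.{u}) (f : T ⟶ X), (∃ g : T ⟶ Z, g ≫ i = f) ↔ (Scheme.Modules.pullback f).map φ = 0 := by
  let P : ∀ T : Scheme.{u}, (T ⟶ X) → Prop := fun T f => (Scheme.Modules.pullback f).map φ = 0
  have hlocal : ∀ x : X, ∃ (V : X.Opens) (Zl : Scheme.{u}) (il : Zl ⟶ (V : Scheme.{u})), x ∈ V ∧
      IsClosedImmersion il ∧
      ∀ (T : Scheme.{u}) (g : T ⟶ (V : Scheme.{u})), P T (g ≫ V.ι) ↔ ∃ l : T ⟶ Zl, l ≫ il = g := fun x => by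
    obtain ⟨V, r, hx, ⟨e⟩⟩ := hB x
    haveI := KFlatLib.isQCoh_pullback V.ι A
    have hr : FlatMod.IsFinLocFreeOfRank r ((Scheme.Modules.pullback V.ι).obj B) :=
      (RankLocusLib.isFinLocFreeOfRank_pullback_iff B V.ι).2 fun t => ⟨⊤, trivial,
        RankLocusLib.freeAlong_comp ((RankLocusLib.freeAlong_restrict_iff B V).2 ⟨e⟩) _⟩
    obtain ⟨Z, i, hi, hu⟩ := exists_zero_locus_rank hr ((Scheme.Modules.pullback V.ι).map φ)
    refine ⟨V, Z, i, hx, hi, fun T g => ?_⟩
    rw [hu T g]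
    exact (pullback_comp_map_eq_zero_iff φ g V.ι).symm
  obtain ⟨Z, i, hi, hu⟩ := RankLocusLib.exists_immersion_of_local (P := P)
    (fun {T} f V h => (pullback_comp_map_eq_zero_iff φ V.ι f).1 (by rw [h, Functor.map_zero]))
    (fun {T} f h => eq_zero_of_nhds _ fun t => by
      obtain ⟨V, hV, hP⟩ := h t
      exact ⟨V, hV, (pullback_comp_map_eq_zero_iff φ V.ι f).2 hP⟩)
    (fun x => by
      obtain ⟨V, Zl, il, hx, hil, hul⟩ := hlocal x
      exact ⟨V, hx, Zl, il, inferInstance, hul⟩)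
  refine ⟨Z, i, RankLocusLib.property_of_local (P := P) @IsClosedImmersion i hu fun x => ?_, hu⟩
  obtain ⟨V, Zl, il, hx, hil, hul⟩ := hlocal x
  exact ⟨V, Zl, il, hx, inferInstance, hil, hul⟩

end QuotSchLib
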