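import Groth.Agent.QuotSchLib.ZeroLocus
import Groth.Agent.CohGenLib.Compare
import Groth.Agent.RichLib.ModFlatGlobal
import Groth.Agent.RGFlatLib.EtaleFlat
import Groth.Agent.PerfLib.Coherent
import Groth.Agent.ConsLib.ModLoci
import Mathlib.CategoryTheory.Limits.Preserves.Shapes.Products

/-!
# Gluing quotients over a disjoint open cover
-/

set_option autoImplicit false
set_option linter.style.haveILetI false
set_option maxHeartbeats 1000000
universe u

open CategoryTheory CategoryTheory.Limits AlgebraicGeometry TopologicalSpace Opposite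
open KFlatLib (pb)

noncomputable section

namespace QuotSchLib

/-- Vanishing is local on the source. -/
theorem eq_zero_of_cover {Z : Scheme.{u}} {ι : Type u} {V : ι → Scheme.{u}} (j : ∀ i, V i ⟶ Z)
    [∀ i, IsOpenImmersion (j i)] (hU : ∀ z, ∃ i, z ∈ Set.range (j i)) {P Q : Z.Modules} (ψ : P ⟶ Q)
    (h : ∀ i, (Scheme.Modules.pullback (j i)).map ψ = 0) : ψ = 0 := eq_zero_of_nhds _ fun z => by
  obtain ⟨i, hi⟩ := hU z
  refine ⟨(j i).opensRange, hi, ?_⟩
  rw [← Scheme.Hom.isoOpensRange_inv_comp (j i)]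
  exact (pullback_comp_map_eq_zero_iff ψ _ _).1 (by rw [h i, Functor.map_zero])

/-- A projection of a product is an isomorphism when the other factors vanish. -/
theorem isIso_proj_of_isZero {C : Type*} [Category C] [HasZeroMorphisms C] {J : Type*} {F : J → C} {c : Fan F}
    (hc : IsLimit c) (i : J) (h : ∀ j, j ≠ i → IsZero (F j)) : IsIso (c.proj i) := by
  classical
  let s : F i ⟶ c.pt := Fan.IsLimit.lift hc fun j => if hj : i = j then eqToHom (by rw [hj]) else 0
  refine ⟨s, Fan.IsLimit.hom_ext hc _ _ fun j => ?_, ?_⟩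
  · by_cases hj : i = j
    · subst hj
      rw [Category.assoc, Fan.IsLimit.fac, dif_pos rfl, eqToHom_refl, Category.comp_id, Category.id_comp]
    · exact (h j fun e => hj e.symm).eq_of_tgt _ _
  · rw [Fan.IsLimit.fac, dif_pos rfl, eqToHom_refl]

variable {Z : Scheme.{u}}

/-- The sections of a product over an open set meeting one member of a disjoint family. -/
theorem isIso_app_piProj {ι : Type u} {V : ι → Scheme.{u}} (j : ∀ i, V i ⟶ Z) [∀ i, IsOpenImmersion (j i)]
    (hd : ∀ i k, i ≠ k → Disjoint (Set.range (j i)) (Set.range (j k)))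
    (F : ∀ i, (V i).Modules) (i : ι) (W : Z.Opens) (hW : (W : Set Z) ⊆ Set.range (j i)) :
    IsIso ((Pi.π (fun k => (Scheme.Modules.pushforward (j k)).obj (F k)) i).app W) := by
  let G : Z.Modules ⥤ AddCommGrpCat.{u} := Scheme.Modules.toPresheaf Z ⋙ (evaluation _ _).obj (op W)
  let fam := fun k => (Scheme.Modules.pushforward (j k)).obj (F k)
  haveI : PreservesLimitsOfShape (Discrete ι) (Scheme.Modules.toPresheaf Z) := inferInstance
  haveI : PreservesLimitsOfShape (Discrete ι) ((evaluation (TopologicalSpace.Opens Z)ᵒᵖ AddCommGrpCat.{u}).obj (op W)) :=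
    inferInstance
  haveI : PreservesLimitsOfShape (Discrete ι) G := comp_preservesLimitsOfShape _ _
  have hc := isLimitFanMkObjOfIsLimit G fam _ (productIsProduct fam)
  refine isIso_proj_of_isZero hc i fun k hk => ?_
  refine @AddCommGrpCat.isZero_of_subsingleton _ ?_
  have hb : j k ⁻¹ᵁ W = ⊥ := by
    rw [eq_bot_iff]
    intro x hxW
    exact Set.disjoint_left.1 (hd i k hk.symm) (hW hxW) ⟨x, rfl⟩
  show Subsingleton Γ(F k, j k ⁻¹ᵁ W)
  rw [hb]
  exact subsingleton_of_forall_eq 0 fun s => ProjFormLib.section_ext _ _ fun t ht => ht.elim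

/-- **Gluing quotients over a disjoint open cover.** -/
theorem exists_glue_disjoint {ι : Type u} {V : ι → Scheme.{u}} (j : ∀ i, V i ⟶ Z) [∀ i, IsOpenImmersion (j i)]
    (hU : ∀ z, ∃ i, z ∈ Set.range (j i))
    (hd : ∀ i k, i ≠ k → Disjoint (Set.range (j i)) (Set.range (j k))) (A : Z.Modules) (F : ∀ i, (V i).Modules)
    (q : ∀ i, pb (j i) A ⟶ F i) (hq : ∀ i, Epi (q i)) :
    ∃ (FG : Z.Modules) (qG : A ⟶ FG), Epi qG ∧
      ∀ i, ∃ e : pb (j i) FG ≅ F i, (Scheme.Modules.pullback (j i)).map qG ≫ e.hom = q i := by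
  let fam := fun k => (Scheme.Modules.pushforward (j k)).obj (F k)
  let qG : A ⟶ ∏ᶜ fam := Pi.lift fun k => (Scheme.Modules.pullbackPushforwardAdjunction (j k)).homEquiv _ _ (q k)
  have he : ∀ i, ∃ e : pb (j i) (∏ᶜ fam) ≅ F i, (Scheme.Modules.pullback (j i)).map qG ≫ e.hom = q i := fun i => by
    haveI : IsIso ((Scheme.Modules.restrictFunctor (j i)).map (Pi.π fam i)) := by
      haveI : ∀ W, IsIso (((Scheme.Modules.restrictFunctor (j i)).map (Pi.π fam i)).app W) := fun W =>
        isIso_app_piProj j hd F i (j i ''ᵁ W) (Set.image_subset_range _ _)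
      exact Scheme.Modules.Hom.isIso_iff_isIso_app.2 inferInstance
    haveI : IsIso ((Scheme.Modules.pullback (j i)).map (Pi.π fam i)) :=
      (NatIso.isIso_map_iff (Scheme.Modules.restrictFunctorIsoPullback (j i)) _).1 inferInstance
    haveI := CohGenLib.isIso_counit_open (j i)
    refine ⟨asIso ((Scheme.Modules.pullback (j i)).map (Pi.π fam i) ≫
      (Scheme.Modules.pullbackPushforwardAdjunction (j i)).counit.app (F i)), ?_⟩
    rw [asIso_hom, ← Category.assoc, ← Functor.map_comp]
    simp only [qG, Pi.lift_π]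
    exact ((Scheme.Modules.pullbackPushforwardAdjunction (j i)).homEquiv_counit (g := _)).symm.trans
      (Equiv.symm_apply_apply _ _)
  refine ⟨∏ᶜ fam, qG, ?_, he⟩
  refine Preadditive.epi_of_isZero_cokernel qG ((IsZero.iff_id_eq_zero _).2 (eq_zero_of_cover j hU _ fun i => ?_))
  obtain ⟨e, he⟩ := he i
  haveI : (Scheme.Modules.pullback (j i)).IsLeftAdjoint := ⟨_, ⟨Scheme.Modules.pullbackPushforwardAdjunction _⟩⟩
  haveI : Epi ((Scheme.Modules.pullback (j i)).map qG) := by
    haveI := hq i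
    rw [show (Scheme.Modules.pullback (j i)).map qG = q i ≫ e.inv from (Iso.eq_comp_inv e).2 he]
    exact epi_comp _ _
  exact ((isZero_cokernel_of_epi _).of_iso (PreservesCokernel.iso (Scheme.Modules.pullback (j i)) qG)).eq_of_src _ _

/-- Coherence is local on the source. -/
theorem isCoh_of_openImmersions {ι : Type u} {V : ι → Scheme.{u}} (j : ∀ i, V i ⟶ Z) [∀ i, IsOpenImmersion (j i)]
    (hU : ∀ z, ∃ i, z ∈ Set.range (j i)) (M : Z.Modules) (h : ∀ i, Coh.IsCoh (pb (j i) M)) : Coh.IsCoh M :=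
  Groth.Agent.PerfLib.isCoh_of_cover M (fun i => (j i).opensRange)
    (eq_top_iff.2 fun z _ => TopologicalSpace.Opens.mem_iSup.2 (hU z)) fun i =>
    QCohLib.isCoh_of_iso ((Scheme.Modules.pullbackComp _ (j i)).app M ≪≫
      (Scheme.Modules.pullbackCongr (show (j i).isoOpensRange.inv ≫ j i = (j i).opensRange.ι from
        Scheme.Hom.isoOpensRange_inv_comp _)).app M ≪≫
      ((Scheme.Modules.restrictFunctorIsoPullback (j i).opensRange.ι).app M).symm)
      (ConsLib.isCoh_pullback _ (h i))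

/-- Flatness is local on the source. -/
theorem isFlatOver_of_openImmersions {T : Scheme.{u}} (f : Z ⟶ T) {ι : Type u} {V : ι → Scheme.{u}}
    (j : ∀ i, V i ⟶ Z) [∀ i, IsOpenImmersion (j i)] (hU : ∀ z, ∃ i, z ∈ Set.range (j i))
    (M : Z.Modules) (h : ∀ i, FlatMod.IsFlatOver (j i ≫ f) (pb (j i) M)) : FlatMod.IsFlatOver f M := fun z => by
  obtain ⟨i, w, rfl⟩ := hU z
  exact (RichLib.ModFlat.isFlatOverAt_comp_source (j i) f M w).1 (h i w)

end QuotSchLib
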