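import Groth.Agent.QuotSchLib.Src
import Groth.Agent.PnCohLib.FlatCriterion
import Groth.Agent.MiscFlat6.TensorGG
import Groth.Agent.VBResLib.GGen
import Groth.Agent.AmpleDevLib.Components
import Groth.Agent.SerreVanLib.Main

/-!
# Presentations by twists over an affine base
-/

set_option autoImplicit false
set_option linter.style.haveILetI false
set_option maxHeartbeats 1000000
universe u

open CategoryTheory CategoryTheory.Limits AlgebraicGeometry TopologicalSpace
open KFlatLib (pb tens)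

noncomputable section

namespace QuotSchLib

variable {n : ℕ} {S : Scheme.{u}}

theorem isAmple_pb_id [IsAffine S] :
    CohB1.IsAmple (pb (𝟙 (CohB1.ProjSpaceOver n S)) (Twist.twistOver n S 1)) := by
  let f := 𝟙 (CohB1.ProjSpaceOver n S) ≫ CohB1.ProjSpaceOver.toBase n S
  haveI : IsProper (CohB1.ProjSpaceOver.toBase n S) := by infer_instance
  have hA := PnCohLib.isAmple_twist_restrict (𝟙 (CohB1.ProjSpaceOver n S)) (isAffineOpen_top S)
  let U := f ⁻¹ᵁ (⊤ : S.Opens)
  have hU : U = ⊤ := rfl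
  haveI hiso : IsIso U.ι := by rw [hU, ← Scheme.topIso_hom]; infer_instance
  let L := pb (𝟙 (CohB1.ProjSpaceOver n S)) (Twist.twistOver n S 1)
  have hL : PicF.IsInvertible L := AmpleDevLib.isInvertible_pb _ (PicPnLib.twistOver_inv n S 1)
  have hLU : PicF.IsInvertible (L.restrict U.ι) := AmpleThLib.restrict_isInvertible hL U.ι
  have h1 : CohB1.IsAmple (pb (inv U.ι) (L.restrict U.ι)) := AmpleDevLib.isAmple_pb (inv U.ι) hLU hA
  let e : pb (inv U.ι) (L.restrict U.ι) ≅ L :=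
    (Scheme.Modules.pullback (inv U.ι)).mapIso ((Scheme.Modules.restrictFunctorIsoPullback U.ι).app L) ≪≫
      (Scheme.Modules.pullbackComp (inv U.ι) U.ι).app L ≪≫
      (Scheme.Modules.pullbackCongr (IsIso.inv_hom_id U.ι)).app L ≪≫ (Scheme.Modules.pullbackId _).app L
  exact AmpleDevLib.isAmple_of_iso (AmpleDevLib.isInvertible_pb _ hLU) hL e h1

theorem exists_epi_untwist {P : Scheme.{u}} (A C F : P.Modules) (hA : (CurvLib.tensorLeft' A).IsEquivalence)
    (i : CohB1.tensorMod C A ≅ Coh.structureModule P) (p : ℕ)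
    (q : FlatMod.freeMod P p ⟶ CohB1.tensorMod F C) [Epi q] :
    ∃ π₀ : CohB1.tensorMod A (FlatMod.freeMod P p) ⟶ F, Epi π₀ := by
  haveI := hA
  let e : (CurvLib.tensorLeft' A).obj (CohB1.tensorMod F C) ≅ F :=
    KFlatLib.tensSwap (CohB1.tensorMod F C) A ≪≫ SerreVanLib.tensorAssoc F C A ≪≫
      HilbPolyLib.congrRight F i ≪≫ PicPnLib.unitRight F
  haveI : (CurvLib.tensorLeft' A).IsLeftAdjoint := Functor.isLeftAdjoint_of_isEquivalence
  have h : Epi ((CurvLib.tensorLeft' A).map q) := (CurvLib.tensorLeft' A).map_epi q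
  exact ⟨_, @epi_comp P.Modules _ _ _ _ _ h e.hom inferInstance⟩

/-- **A coherent module on projective space over an affine base is a quotient of twists.** -/
theorem exists_srcOver_epi [IsAffine S] [IsLocallyNoetherian S] (F : (CohB1.ProjSpaceOver n S).Modules)
    (hF : Coh.IsCoh F) : ∃ (p : ℕ) (ν : ℤ) (π₀ : srcOver S n p ν ⟶ F), Epi π₀ := by
  haveI := isLocallyNoetherian_projSpaceOver n S
  haveI : IsProper (CohB1.ProjSpaceOver.toBase n S) := by infer_instance
  haveI : CompactSpace (CohB1.ProjSpaceOver n S) :=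
    QuasiCompact.compactSpace_of_compactSpace (CohB1.ProjSpaceOver.toBase n S)
  obtain ⟨m, hm⟩ := MiscFlat6.eventually_gg_of_isAmple (isAmple_pb_id (n := n) (S := S)) F hF
  obtain ⟨e₁⟩ := PnCohLib.pow_pullback_twist (𝟙 (CohB1.ProjSpaceOver n S)) m
  let eM := e₁ ≪≫ (Scheme.Modules.pullbackId _).app (Twist.twistOver n S (m : ℤ))
  let L' := pb (𝟙 (CohB1.ProjSpaceOver n S)) (Twist.twistOver n S 1)
  have hinv : PicF.IsInvertible (CohB1.tensorPow L' m) :=
    AmpleThLib.tensorPow_isInvertible (AmpleDevLib.isInvertible_pb _ (PicPnLib.twistOver_inv n S 1)) m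
  obtain ⟨p, q, hq⟩ := VBResLib.exists_epi_free_of_gg (SerreVanLib.isCoh_tensor hF hinv) (hm m le_rfl)
  obtain ⟨e₀⟩ := PicPnLib.twistOver_neg n S (-(m : ℤ))
  obtain ⟨e₂⟩ := PicPnLib.twistOver_add n S (m : ℤ) (-(m : ℤ))
  obtain ⟨e₃⟩ := PicPnLib.twistOver_zero n S
  obtain ⟨π₀, hπ₀⟩ := exists_epi_untwist (Twist.twistOver n S (-(m : ℤ))) (CohB1.tensorPow L' m) F
    (VBP1Lib.isEquivalence_tensor e₀)
    (HilbPolyLib.congrLeft eM _ ≪≫ e₂ ≪≫
      eqToIso (congrArg (Twist.twistOver n S) (add_neg_cancel (m : ℤ))) ≪≫ e₃) p q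
  exact ⟨p, -(m : ℤ), π₀, hπ₀⟩

end QuotSchLib
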