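import Groth.Agent.QuotSchLib.Union
import Groth.Agent.QuotSchLib.Serre
import Groth.Agent.GrassLib.Global
import Groth.Agent.GenFlatStrat.Piece
import Groth.Prelude.Def_Pic13

/-!
# Quotients with finitely many Hilbert polynomials form a bounded family
-/

set_option autoImplicit false
set_option linter.style.haveILetI false
set_option maxHeartbeats 1000000
universe u

open CategoryTheory CategoryTheory.Limits AlgebraicGeometry TopologicalSpace
open KFlatLib (pb)

noncomputable section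

namespace QuotSchLib

variable (k : Type u) [Field k] (n : ℕ)

local notation "Sk" => Spec (CommRingCat.of k)

/-- On the spectrum of a field the fibre is the whole family. -/
theorem chi_point {S : Scheme.{u}} {g : Sk ⟶ S} {j : CohB1.ProjSpace n k ⟶ CohB1.ProjSpaceOver n S}
    (H : IsPullback j (CohB1.ProjSpace.toSpec n k) (CohB1.ProjSpaceOver.toBase n S) g)
    (hj : ∀ d : ℤ, Nonempty (pb j (Twist.twistOver n S d) ≅ Twist.twistProjSpace n k d))
    {F : (CohB1.ProjSpace n k).Modules} (hF : Coh.IsCoh F) (t : Sk) (m : ℤ) :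
    MumfordLib.chi ((Sk).residueField t) (pb (fJ H t) F) m = MumfordLib.chi k F m := by
  let K := (Sk).residueField t
  let ψ : CommRingCat.of k ⟶ K := Spec.preimage ((Sk).fromSpecResidueField t)
  letI : Algebra k K := ψ.hom.toAlgebra
  have hψ : Spec.map (CommRingCat.ofHom (algebraMap k K)) = (Sk).fromSpecResidueField t :=
    Spec.map_preimage _
  have hg : IsPullback (fJ H t) (CohB1.ProjSpace.toSpec n K) (CohB1.ProjSpace.toSpec n k)
      (Spec.map (CommRingCat.ofHom (algebraMap k K))) := by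
    rw [hψ]; exact isPullback_fJ H t
  have hd : ∀ d : ℤ, Nonempty (pb (fJ H t) (Twist.twistProjSpace n k d) ≅ Twist.twistProjSpace n K d) := fun d =>
    ⟨(Scheme.Modules.pullback (fJ H t)).mapIso (hj d).some.symm ≪≫ (nonempty_fJ_twist H t d).some⟩
  unfold MumfordLib.chi FGA.eulerCharLE
  exact Finset.sum_congr rfl fun i _ => by rw [MumfordLib.finrank_field k (fJ H t) hg hd F hF m i]

/-- Euler characteristics of the twists of a coherent module are polynomial. -/
theorem exists_chi_field {F : (CohB1.ProjSpace n k).Modules} (hF : Coh.IsCoh F) :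
    ∃ Ψ : Polynomial ℚ, ∀ m : ℤ, (MumfordLib.chi k F m : ℚ) = Ψ.eval (m : ℚ) := by
  obtain ⟨j, H, hj⟩ := PicPnLib.exists_square n k (𝟙 Sk)
  haveI : IsIso j := H.isIso_fst_of_isIso
  haveI := hF.1
  have hF' : Coh.IsCoh (pb (inv j) F) := ConsLib.isCoh_pullback _ hF
  obtain ⟨t⟩ : Nonempty Sk := inferInstance
  let H' : IsPullback j (CohB1.ProjSpace.toSpec n k) (CohB1.ProjSpaceOver.toBase n Sk) (𝟙 Sk) := H
  refine ⟨polyAt (𝟙 Sk) hF' t, fun m => ?_⟩
  have h1 := chi_fJ_paste (isPullback_projMap (n := n) (𝟙 Sk)) H' (pb (inv j) F) hF' t m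
  let e : pb j (pb (inv j) F) ≅ F := (Scheme.Modules.pullbackComp j (inv j)).app F ≪≫
    (Scheme.Modules.pullbackCongr (IsIso.hom_inv_id j)).app F ≪≫ (Scheme.Modules.pullbackId _).app F
  have hj2 : ∀ d : ℤ, Nonempty (pb (j ≫ FGA.projMap n (𝟙 Sk)) (Twist.twistOver n Sk d) ≅
      Twist.twistProjSpace n k d) := fun d =>
    ⟨((Scheme.Modules.pullbackComp _ _).app _).symm ≪≫
      (Scheme.Modules.pullback j).mapIso (nonempty_projMap_twist (𝟙 Sk) d).some ≪≫ (hj d).some⟩
  have h2 := chi_point k n (H'.paste_horiz (isPullback_projMap (𝟙 Sk))) hj2 hF t m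
  rw [← MumfordLib.chi_congr _ ((Scheme.Modules.pullback (fJ (H'.paste_horiz (isPullback_projMap (n := n) (𝟙 Sk))) t)).mapIso e),
    h1] at h2
  rw [← h2]
  exact polyAt_spec (𝟙 Sk) hF' t m

/-- **Quotients of a coherent module with finitely many Hilbert polynomials form a bounded family.** -/
theorem isBounded_quotients (E : (CohB1.ProjSpace n k).Modules) (hE : Coh.IsCoh E) (s : Finset (Polynomial ℚ)) :
    Pic13.IsBounded k (CohB1.ProjSpace n k) (fun F => Coh.IsCoh F ∧ (∃ p : E ⟶ F, Epi p) ∧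
      ∃ Ψ ∈ s, ∀ m : ℤ, (MumfordLib.chi k F m : ℚ) = Ψ.eval (m : ℚ)) := by
  let S := Sk
  haveI : AlgebraicGeometry.IsNoetherian S := {}
  haveI := isLocallyNoetherian_projSpaceOver n S
  obtain ⟨σ, Hσ, hσtw⟩ := PicPnLib.exists_square n k (𝟙 S)
  haveI : IsIso σ := Hσ.isIso_fst_of_isIso
  let G := pb (inv σ) E
  have hG : Coh.IsCoh G := ConsLib.isCoh_pullback _ hE
  obtain ⟨p, ν, π₀, hπ₀⟩ := exists_srcOver_epi G hG
  haveI := hπ₀
  have hex : ∀ Ψ : Polynomial ℚ, ∃ (Q : Scheme.{u}) (gQ : Q ⟶ S) (FQ : (CohB1.ProjSpaceOver n Q).Modules)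
      (φQ : pb (FGA.projMap n gQ) G ⟶ FQ),
      LocallyOfFiniteType gQ ∧ CompactSpace Q ∧ IsUniversalQuot Ψ gQ FQ φQ := fun Ψ => by
    obtain ⟨Q₁, g₁, F₁, φ₁, hQ₁, ⟨r, c₁, hc₁, hcπ⟩, hU₁⟩ :=
      exists_universal_src (n := n) (GrassSch.exists_isGrass_free S) p ν Ψ
    haveI := hQ₁
    haveI := hc₁
    obtain ⟨Q', c, FQ, φQ, hc, hU⟩ := exists_universal_sub (isCoh_srcOver n p ν) hG.1 π₀ hU₁
    haveI := hc
    haveI : IsProper (CohB1.ProjSpaceOver.toBase r S) := ChowLib.isProper_toBase r S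
    have h : LocallyOfFiniteType g₁ := by rw [← hcπ]; infer_instance
    exact ⟨Q', c ≫ g₁, FQ, φQ, inferInstance, c.isClosedEmbedding.compactSpace, hU⟩
  choose Q gQ FQ φQ hft hcpt hU using hex
  let I : Type u := ULift.{u} {Ψ // Ψ ∈ s}
  let PP : I → Scheme.{u} := fun a => Q a.down.1
  let T := ∐ PP
  let gT : T ⟶ S := Limits.Sigma.desc fun a => gQ a.down.1
  let ι : ∀ a : I, PP a ⟶ T := fun a => Limits.Sigma.ι PP a
  have hι : ∀ a, ι a ≫ gT = gQ a.down.1 := fun a => Limits.Sigma.ι_desc _ a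
  haveI : ∀ a, IsOpenImmersion (ι a) := fun a => inferInstanceAs (IsOpenImmersion (Limits.Sigma.ι PP a))
  haveI hTft : LocallyOfFiniteType gT := by
    refine IsZariskiLocalAtSource.of_openCover (P := @LocallyOfFiniteType) (sigmaOpenCover PP) fun a => ?_
    show LocallyOfFiniteType (ι a ≫ gT)
    rw [hι]
    exact hft _
  haveI : CompactSpace T := by
    haveI : ∀ a, CompactSpace (PP a) := fun a => hcpt _
    exact (sigmaMk PP).compactSpace
  let j : ∀ a : I, CohB1.ProjSpaceOver n (PP a) ⟶ CohB1.ProjSpaceOver n T := fun a => FGA.projMap n (ι a)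
  have hjcov : ∀ z, ∃ a, z ∈ Set.range (j a) := fun z =>
    let ⟨a, x, hx⟩ := (sigmaOpenCover PP).exists_eq (CohB1.ProjSpaceOver.toBase n T z)
    ⟨a, (range_projMap (ι a) z).2 ⟨x, hx⟩⟩
  have hjdis : ∀ a b : I, a ≠ b → Disjoint (Set.range (j a)) (Set.range (j b)) := fun a b hab =>
    Set.disjoint_left.2 fun z ha hb => by
      have h := disjoint_opensRange_sigmaι PP a b hab
      have h' : CohB1.ProjSpaceOver.toBase n T z ∈ (ι a).opensRange ⊓ (ι b).opensRange :=
        ⟨(range_projMap (ι a) z).1 ha, (range_projMap (ι b) z).1 hb⟩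
      rw [disjoint_iff.1 h] at h'
      exact h'
  have hjg : ∀ a, FGA.projMap n (ι a) ≫ FGA.projMap n gT = FGA.projMap n (gQ a.down.1) := fun a =>
    (projMap_comp (ι a) gT).trans (congrArg _ (hι a))
  obtain ⟨FT, φT, -, hres⟩ := exists_glue_disjoint j hjcov hjdis (pb (FGA.projMap n gT) G) (fun a => FQ a.down.1)
    (fun a => ((Scheme.Modules.pullbackComp (j a) _).app G ≪≫ (Scheme.Modules.pullbackCongr (hjg a)).app G).hom ≫
      φQ a.down.1) (fun a => by haveI := (hU a.down.1).2.1; exact epi_comp _ _)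
  choose eP heP using hres
  have hFT : Coh.IsCoh FT :=
    isCoh_of_openImmersions j hjcov FT fun a => QCohLib.isCoh_of_iso (eP a).symm (hU a.down.1).1
  -- the family on the product
  let a₀ : CohB1.ProjSpaceOver n T ⟶ CohB1.ProjSpace n k := FGA.projMap n gT ≫ inv σ
  have hPT : IsPullback a₀ (CohB1.ProjSpaceOver.toBase n T) (CohB1.ProjSpace.toSpec n k) gT := by
    have h1 : IsPullback (inv σ) (CohB1.ProjSpaceOver.toBase n S) (CohB1.ProjSpace.toSpec n k) (𝟙 S) :=
      IsPullback.of_horiz_isIso ⟨by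
        rw [Category.comp_id, IsIso.inv_comp_eq]
        exact ((Category.comp_id _).symm.trans Hσ.w.symm)⟩
    have h2 := (isPullback_projMap (n := n) gT).paste_horiz h1
    rwa [Category.comp_id] at h2
  let β : CohB1.ProjSpaceOver n T ≅ Pic13.prodK k (CohB1.ProjSpace n k) gT := hPT.isoPullback
  have hb1 : β.hom ≫ pullback.fst (CohB1.ProjSpace n k ↘ Sk) gT = a₀ := hPT.isoPullback_hom_fst
  have hb2 : β.hom ≫ pullback.snd (CohB1.ProjSpace n k ↘ Sk) gT = CohB1.ProjSpaceOver.toBase n T :=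
    hPT.isoPullback_hom_snd
  refine ⟨T, gT, hTft, quasiCompact_of_compactSpace gT, pb β.inv FT, ConsLib.isCoh_pullback _ hFT, ?_⟩
  rintro F ⟨hF, ⟨q, hq⟩, Ψ, hΨ, hchi⟩
  haveI := hq
  haveI := hF.1
  let e : pb σ G ≅ E := (Scheme.Modules.pullbackComp σ (inv σ)).app E ≪≫
    (Scheme.Modules.pullbackCongr (IsIso.hom_inv_id σ)).app E ≪≫ (Scheme.Modules.pullbackId _).app E
  let φ : pb σ G ⟶ F := e.hom ≫ q
  haveI : Flat (CohB1.ProjSpace.toSpec n k) := inferInstance
  have hfl : FlatMod.IsFlatOver (CohB1.ProjSpace.toSpec n k) F := fun x => GenFlatStrat.isFlatOverAt_field _ F x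
  have hPF : PolyX Hσ F Ψ := fun z m => by rw [chi_point k n Hσ hσtw hF z m]; exact hchi m
  obtain ⟨u, ⟨hu, v, hv, hvw, eu, -⟩, -⟩ := (hU Ψ).2.2.2.2 S _ (𝟙 S) σ _ Hσ F hF hfl φ (epi_comp _ _) hPF
  let a : I := ⟨⟨Ψ, hΨ⟩⟩
  let t : S ⟶ T := u ≫ ι a
  have ht : t ≫ gT = 𝟙 S := by rw [Category.assoc, hι]; exact hu
  refine ⟨t, ht, ?_⟩
  have hs : Pic13.sliceAt k (CohB1.ProjSpace n k) gT t ht ≫ β.inv = v ≫ j a := by
    rw [Iso.comp_inv_eq]
    apply pullback.hom_ext
    · refine (pullback.lift_fst _ _ _).trans ?_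
      rw [Category.assoc, Category.assoc, hb1, ← Category.assoc (j a)]
      show 𝟙 _ = v ≫ (FGA.projMap n (ι a) ≫ FGA.projMap n gT) ≫ inv σ
      rw [hjg, ← Category.assoc, hv, IsIso.hom_inv_id]
    · refine (pullback.lift_snd _ _ _).trans ?_
      rw [Category.assoc, Category.assoc, hb2]
      show _ = v ≫ FGA.projMap n (ι a) ≫ CohB1.ProjSpaceOver.toBase n T
      rw [(isPullback_projMap (ι a)).w, ← Category.assoc v, hvw, Category.assoc]
      rfl
  exact ⟨(Scheme.Modules.pullbackComp _ β.inv).app FT ≪≫ (Scheme.Modules.pullbackCongr hs).app FT ≪≫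
    ((Scheme.Modules.pullbackComp v (j a)).app FT).symm ≪≫ (Scheme.Modules.pullback v).mapIso (eP a) ≪≫ eu⟩

end QuotSchLib
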