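import Groth.Agent.QuotSchLib.FieldBounded
import Groth.Agent.GenusZeroLib.Mult
import Groth.Agent.S1647
import Groth.Agent.ProjFormLib.Proj
import Groth.Agent.PushLinLib.HH

/-!
# Regular coherent modules with a given Hilbert polynomial are quotients of one module
-/

set_option autoImplicit false
set_option linter.style.haveILetI false
set_option maxHeartbeats 1000000
universe u

open CategoryTheory CategoryTheory.Limits AlgebraicGeometry TopologicalSpace
open KFlatLib (pb)

noncomputable section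

namespace QuotSchLib

variable (k : Type u) [Field k]

theorem exists_unitHom {X : Scheme.{u}} {M : X.Modules} (ψ : Coh.structureModule X ⟶ M) :
    ∃ σ : Γ(M, ⊤), QCohLib.unitHom M σ = ψ := by
  refine ⟨ψ.app ⊤ (1 : Γ(X, ⊤)), ?_⟩
  refine Scheme.Modules.hom_ext _ _ fun V => ConcreteCategory.hom_ext _ _ fun r0 => ?_
  obtain ⟨r, rfl⟩ : ∃ r : Γ(X, V), (show Γ(Coh.structureModule X, V) from r) = r0 := ⟨r0, rfl⟩
  refine (QCohLib.unitHom_app M _ V r).trans ?_
  rw [← QCohLib.app_map]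
  refine (QCohLib.app_smul ψ V r _).symm.trans (congrArg _ ?_)
  show r * X.presheaf.map _ (1 : Γ(X, ⊤)) = r
  rw [map_one]
  exact mul_one r

/-- A globally generated coherent module is generated by a basis of its sections. -/
theorem exists_epi_free_basis {X : Scheme.{u}} [X.Over (Spec (CommRingCat.of k))] [CompactSpace X] {M : X.Modules}
    (hM : Coh.IsCoh M) (hgg : Curv2.IsGloballyGenerated M) (hfin : Module.Finite k (Coh.HH X M 0)) :
    ∃ q : FlatMod.freeMod X (Module.finrank k (Coh.HH X M 0)) ⟶ M, Epi q := by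
  classical
  letI := GenusZeroLib.kmod k M
  haveI := hfin
  let b := Module.finBasis k (Coh.HH X M 0)
  let s : Fin (Module.finrank k (Coh.HH X M 0)) → Γ(M, ⊤) := fun l => GenusZeroLib.e0k k M (b l)
  let q : FlatMod.freeMod X (Module.finrank k (Coh.HH X M 0)) ⟶ M := Sigma.desc fun l => QCohLib.unitHom M (s l)
  refine ⟨q, Preadditive.epi_of_cancel_zero _ fun {N : X.Modules} (π : M ⟶ N) hπ => ?_⟩
  have h0 : ∀ l, π.app ⊤ (s l) = 0 := fun l => by
    have hl : QCohLib.unitHom M (s l) ≫ π = 0 := by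
      have := congrArg (Sigma.ι (fun _ : Fin (Module.finrank k (Coh.HH X M 0)) => Coh.structureModule X) l ≫ ·) hπ
      simpa [q] using this
    have h1 : π.app ⊤ ((QCohLib.unitHom M (s l)).app ⊤ (1 : Γ(X, ⊤))) = 0 :=
      congr(Scheme.Modules.Hom.app $hl ⊤ (1 : Γ(X, ⊤)))
    rw [QCohLib.unitHom_app, one_smul] at h1
    simpa using h1
  have hall : ∀ σ : Γ(M, ⊤), π.app ⊤ σ = 0 := fun σ => by
    obtain ⟨y, rfl⟩ : ∃ y, GenusZeroLib.e0k k M y = σ := ⟨_, (GenusZeroLib.e0k k M).apply_symm_apply σ⟩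
    rw [← b.sum_repr y, map_sum, map_sum]
    refine Finset.sum_eq_zero fun l _ => ?_
    rw [map_smul]
    refine Eq.trans (QCohLib.app_smul π ⊤ (GenusZeroLib.ρ k (b.repr y l)) (s l)) ?_
    rw [h0, smul_zero]
  obtain ⟨m, q', hq'⟩ := VBResLib.exists_epi_free_of_gg hM hgg
  haveI := hq'
  rw [← cancel_epi q', comp_zero]
  refine Sigma.hom_ext _ _ fun i => ?_
  rw [comp_zero]
  obtain ⟨σ, hσ⟩ := exists_unitHom (Sigma.ι (fun _ : Fin m => Coh.structureModule X) i ≫ q')
  rw [← Category.assoc, ← hσ, QCohLib.app_unitHom_app, hall]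
  refine Scheme.Modules.hom_ext _ _ fun V => ConcreteCategory.hom_ext _ _ fun r => ?_
  refine (QCohLib.unitHom_app N 0 V r).trans ?_
  rw [map_zero, smul_zero]
  rfl

/-- **A regular coherent module with Hilbert polynomial `φ` is a quotient of one fixed module.** -/
theorem exists_quot_of_regular (n : ℕ) (m : ℤ) (φ : Polynomial ℚ) :
    ∃ E : (CohB1.ProjSpace n k).Modules, Coh.IsCoh E ∧ ∀ M : (CohB1.ProjSpace n k).Modules, Coh.IsCoh M →
      Curv2.IsMRegular k n M m → (∀ t : ℤ, (MumfordLib.chi k M t : ℚ) = φ.eval (t : ℚ)) →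
        ∃ p : E ⟶ M, Epi p := by
  let P := CohB1.ProjSpace n k
  let O' := Twist.twistProjSpace n k
  let N := ⌊φ.eval (m : ℚ)⌋.toNat
  haveI := MumfordLib.isProper_projSpace (n := n) k
  haveI : CompactSpace P := QuasiCompact.compactSpace_of_compactSpace (P ↘ Spec (CommRingCat.of k))
  haveI := CurvLib.isNoetherian k (X := P)
  refine ⟨srcMod k n N (-m), PnCohLib.isCoh_tensor_free (PicPnLib.twist_inv n k (-m)) N, fun M hM hreg hchi => ?_⟩
  let Mm := CohB1.tensorMod M (O' m)
  have hMm : Coh.IsCoh Mm := MumfordLib.isCoh_tw k hM m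
  have hvan : ∀ i : ℕ, 1 ≤ i → Subsingleton (Coh.HH P Mm i) := fun i hi =>
    PnCohLib.vanishing_ge k M hM.1 m hreg i hi m (by omega)
  have hh0 : Module.finrank k (Coh.HH P Mm 0) = N := by
    have h : MumfordLib.chi k M m = (Module.finrank k (Coh.HH P Mm 0) : ℤ) := by
      unfold MumfordLib.chi FGA.eulerCharLE
      rw [Finset.sum_eq_single 0]
      · simp [Mm, O', P]
      · intro i _ hi
        haveI := hvan i (Nat.one_le_iff_ne_zero.2 hi)
        rw [Module.finrank_zero_of_subsingleton]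
        simp
      · intro h; exact absurd (Finset.mem_range.2 (Nat.succ_pos n)) h
    show _ = ⌊φ.eval (m : ℚ)⌋.toNat
    rw [← hchi m, h, Int.cast_natCast, Int.floor_natCast, Int.toNat_natCast]
  obtain ⟨q, hq⟩ := exists_epi_free_basis k hMm (Groth.Agent.S1647.result k n M hM m hreg)
    (CurvLib.finite_HH (k := k) hMm 0)
  rw [← hh0]
  haveI := hq
  obtain ⟨e₀⟩ := PicPnLib.twist_zero n k
  obtain ⟨e₁⟩ := PicPnLib.twist_add n k m (-m)
  obtain ⟨e₂⟩ := PicPnLib.twist_add n k (-m) m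
  let i₁ : CohB1.tensorMod (O' m) (O' (-m)) ≅ Coh.structureModule P :=
    e₁ ≪≫ eqToIso (congrArg O' (add_neg_cancel m)) ≪≫ e₀
  exact exists_epi_untwist (O' (-m)) (O' m) M
    (VBP1Lib.isEquivalence_tensor (e₂ ≪≫ eqToIso (congrArg O' (neg_add_cancel m)) ≪≫ e₀)) i₁ _ q

end QuotSchLib
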