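import Groth.Agent.QuotSchLib.Repr

/-!
# Presentations by free twisted modules
-/

set_option autoImplicit false
set_option linter.style.haveILetI false
set_option maxHeartbeats 1000000
universe u

open CategoryTheory CategoryTheory.Limits AlgebraicGeometry TopologicalSpace
open KFlatLib (pb tens)

noncomputable section

namespace QuotSchLib

/-- A morphism to a direct image along a closed immersion whose adjunct is an epimorphism is one. -/
theorem epi_adjunct {Z P : Scheme.{u}} (j : Z ⟶ P) [IsClosedImmersion j] {G : P.Modules} {M : Z.Modules}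
    (a : pb j G ⟶ M) [Epi a] :
    Epi ((Scheme.Modules.pullbackPushforwardAdjunction j).homEquiv _ _ a) := by
  let adj := Scheme.Modules.pullbackPushforwardAdjunction j
  let b := adj.homEquiv _ _ a
  haveI := CycKSuppLib.isIso_counit j M
  haveI : Epi ((Scheme.Modules.pullback j).map b) := by
    have h : (Scheme.Modules.pullback j).map b ≫ adj.counit.app M = a :=
      (adj.homEquiv_counit (g := b)).symm.trans ((adj.homEquiv _ _).symm_apply_apply a)
    haveI : IsIso (adj.counit.app M) := CycKSuppLib.isIso_counit j M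
    rw [show (Scheme.Modules.pullback j).map b = a ≫ inv (adj.counit.app M) from (IsIso.eq_comp_inv _).2 h]
    exact epi_comp _ _
  haveI : (Scheme.Modules.pullback j).IsLeftAdjoint := ⟨_, ⟨adj⟩⟩
  refine Preadditive.epi_of_isZero_cokernel b ?_
  have hk : CycKSuppLib.Kil j (cokernel b) := (CycKSuppLib.kil_push j M).of_epi (cokernel.π b)
  haveI := DevissLib.isIso_unit_of_killed j hk.killed
  have hz : IsZero ((Scheme.Modules.pullback j).obj (cokernel b)) :=
    (isZero_cokernel_of_epi _).of_iso (PreservesCokernel.iso (Scheme.Modules.pullback j) b)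
  exact ((Scheme.Modules.pushforward j).map_isZero hz).of_iso (asIso (adj.unit.app (cokernel b)))

variable {n : ℕ} {S : Scheme.{u}}

/-- The free twisted module is a sum of copies of the twist. -/
theorem nonempty_srcOver_sigma (p : ℕ) (ν : ℤ) :
    Nonempty (srcOver S n p ν ≅ ∐ fun _ : Fin p => Twist.twistOver n S ν) := by
  obtain ⟨e⟩ := PicPnLib.twistOver_neg n S ν
  haveI : (CurvLib.tensorLeft' (Twist.twistOver n S ν)).IsEquivalence := VBP1Lib.isEquivalence_tensor e
  exact ⟨PreservesCoproduct.iso (CurvLib.tensorLeft' (Twist.twistOver n S ν)) _ ≪≫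
    Sigma.mapIso fun _ => PicPnLib.unitRight _⟩

/-- A presentation on the closed subscheme gives one on projective space. -/
theorem exists_src_epi {X : Scheme.{u}} (i : X ⟶ CohB1.ProjSpaceOver n S) [IsClosedImmersion i] (E : X.Modules)
    (p : ℕ) (ν : ℤ) (q : (∐ fun _ : Fin p => (Scheme.Modules.pullback i).obj (Twist.twistOver n S ν)) ⟶ E)
    [Epi q] : ∃ π₀ : srcOver S n p ν ⟶ iE i E, Epi π₀ := by
  obtain ⟨e⟩ := nonempty_srcOver_sigma (S := S) (n := n) p ν
  haveI : (Scheme.Modules.pullback i).IsLeftAdjoint := ⟨_, ⟨Scheme.Modules.pullbackPushforwardAdjunction i⟩⟩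
  let a : pb i (∐ fun _ : Fin p => Twist.twistOver n S ν) ⟶ E :=
    (PreservesCoproduct.iso (Scheme.Modules.pullback i) _).hom ≫ q
  haveI : Epi a := epi_comp _ _
  haveI := epi_adjunct i a
  exact ⟨e.hom ≫ (Scheme.Modules.pullbackPushforwardAdjunction i).homEquiv _ _ a, epi_comp _ _⟩

end QuotSchLib
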