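import Groth.Agent.QuotSchLib.ReprAll
import Groth.Agent.QuotSchLib.Src
import Groth.Agent.DevissLib.AnnIdeal
import Groth.Agent.IntMultLib.Cartier
import Groth.Agent.CohCmpLib.UnitFibre

/-!
# Closed subschemes as quotients of the structure sheaf
-/

set_option autoImplicit false
set_option linter.style.haveILetI false
set_option maxHeartbeats 1000000
universe u

open CategoryTheory CategoryTheory.Limits AlgebraicGeometry TopologicalSpace Opposite
open KFlatLib (pb)

noncomputable section

namespace QuotSchLib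

section Ideal

variable {Y : Scheme.{u}}

/-- A morphism vanishing on affine opens vanishes. -/
theorem hom_zero_of_affines {M N : Y.Modules} (ψ : M ⟶ N)
    (h : ∀ (U : Y.affineOpens) (s : Γ(M, U.1)), ψ.app U.1 s = 0) : ψ = 0 := by
  refine Scheme.Modules.hom_ext _ _ fun W => ConcreteCategory.hom_ext _ _ fun s => ?_
  show ψ.app W s = (0 : Γ(N, W))
  refine ProjFormLib.section_ext _ _ fun t ht => ?_
  obtain ⟨V, hV, htV, hVW⟩ := Opens.isBasis_iff_nbhd.mp Y.isBasis_affineOpens ht
  rw [← ProjFormLib.ger_res N hVW t htV, ← ProjFormLib.ger_res N hVW t htV (0 : Γ(N, W))]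
  refine congrArg (ProjFormLib.ger N t htV) ?_
  refine (QCohLib.app_map ψ (homOfLE hVW) s).symm.trans ((h ⟨V, hV⟩ _).trans ?_)
  exact (map_zero (N.presheaf.map (homOfLE hVW).op).hom).symm

/-- Quotients with the same relations on affine opens define the same submodule. -/
theorem kernelSubobject_eq_of_affines {A M₁ M₂ : Y.Modules} (q₁ : A ⟶ M₁) [Epi q₁] (q₂ : A ⟶ M₂) [Epi q₂]
    (h : ∀ (U : Y.affineOpens) (s : Γ(A, U.1)), q₁.app U.1 s = 0 ↔ q₂.app U.1 s = 0) :
    kernelSubobject q₁ = kernelSubobject q₂ := by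
  have key : ∀ {M₁ M₂ : Y.Modules} (q₁ : A ⟶ M₁) (q₂ : A ⟶ M₂),
      (∀ (U : Y.affineOpens) (s : Γ(A, U.1)), q₁.app U.1 s = 0 → q₂.app U.1 s = 0) →
      kernelSubobject q₁ ≤ kernelSubobject q₂ := fun {M₁ M₂} q₁ q₂ h =>
    le_kernelSubobject _ _ (hom_zero_of_affines _ fun U s => by
      show q₂.app U.1 ((kernelSubobject q₁).arrow.app U.1 s) = 0
      refine h U _ ?_
      exact congr(Scheme.Modules.Hom.app $(kernelSubobject_arrow_comp q₁) U.1 s))
  exact le_antisymm (key q₁ q₂ fun U s => (h U s).1) (key q₂ q₁ fun U s => (h U s).2)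

theorem unitToPush_app_eq_zero_iff {Z : Scheme.{u}} (j : Z ⟶ Y) [IsClosedImmersion j] (U : Y.affineOpens)
    (a : Γ(Y, U.1)) : (ClSub.unitToPush j).app U.1 a = 0 ↔ a ∈ j.ker.ideal U := by
  rw [Scheme.Hom.ker_apply]
  exact Iff.rfl

theorem epi_unitToPush {Z : Scheme.{u}} (j : Z ⟶ Y) [IsClosedImmersion j] : Epi (ClSub.unitToPush j) := by
  refine Abelian.epi_of_cokernel_π_eq_zero _ ((DevissLib.isZero_of_support_empty
    (Set.eq_empty_of_forall_notMem fun x hx => DevissLib.notMem_support_cokernel _ x (fun a => ?_) hx)).eq_of_tgt _ _)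
  obtain ⟨U, hxU, t, rfl⟩ := DevissLib.exists_gm_eq _ x a
  obtain ⟨V, hV, hxV, hVU⟩ := Opens.isBasis_iff_nbhd.mp Y.isBasis_affineOpens hxU
  obtain ⟨s, hs⟩ := CurvLib.unitToPush_app_surjective j hV
    (((Scheme.Modules.pushforward j).obj (Coh.structureModule Z)).presheaf.map (homOfLE hVU).op t)
  refine ⟨DevissLib.gm _ x hxV s, ?_⟩
  rw [DevissLib.gm_app]
  exact (congrArg _ hs).trans (DevissLib.gm_map _ hVU x hxV t)

/-- The submodule of a closed subscheme. -/
def idealSub {Z : Scheme.{u}} (j : Z ⟶ Y) : Subobject (Coh.structureModule Y) :=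
  kernelSubobject (ClSub.unitToPush j)

theorem idealSub_eq_iff {Z Z' : Scheme.{u}} (j : Z ⟶ Y) [IsClosedImmersion j] (j' : Z' ⟶ Y) [IsClosedImmersion j'] :
    idealSub j = idealSub j' ↔ j.ker = j'.ker := by
  haveI := epi_unitToPush j
  haveI := epi_unitToPush j'
  constructor
  · intro h
    obtain ⟨e, he⟩ := (kernelSubobject_eq_iff _ _).1 h
    refine Scheme.IdealSheafData.ext (funext fun U => SetLike.ext fun a => ?_)
    rw [← unitToPush_app_eq_zero_iff j U a, ← unitToPush_app_eq_zero_iff j' U a, ← he]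
    show _ ↔ e.hom.app U.1 ((ClSub.unitToPush j).app U.1 a) = 0
    constructor
    · intro h0; rw [h0, map_zero]
    · intro h0; exact QCohLib.app_injective_of_mono e.hom U.1 (h0.trans (map_zero _).symm)
  · intro h
    exact kernelSubobject_eq_of_affines _ _ fun U a => by
      rw [unitToPush_app_eq_zero_iff j U a, unitToPush_app_eq_zero_iff j' U a, h]

/-- Submodules of `O` with coherent quotient come from closed subschemes. -/
theorem exists_idealSub (K : Subobject (Coh.structureModule Y)) (hK : Coh.IsCoh (cokernel K.arrow)) :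
    ∃ I : Y.IdealSheafData, idealSub I.subschemeι = K := by
  haveI := hK.1
  haveI : Coh.IsQCoh (Coh.structureModule Y) := QCohLib.isQCoh_unit
  refine ⟨DevissLib.annIdeal (cokernel K.arrow) hK.2, ?_⟩
  refine Eq.trans ?_ (kernelSubobject_cokernel_π K)
  haveI := epi_unitToPush (DevissLib.annIdeal (cokernel K.arrow) hK.2).subschemeι
  refine kernelSubobject_eq_of_affines _ _ fun U a0 => ?_
  obtain ⟨a, rfl⟩ : ∃ a : Γ(Y, U.1), (show Γ(Coh.structureModule Y, U.1) from a) = a0 := ⟨a0, rfl⟩
  rw [unitToPush_app_eq_zero_iff, Scheme.IdealSheafData.ker_subschemeι]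
  show a ∈ Module.annihilator Γ(Y, U.1) Γ(cokernel K.arrow, U.1) ↔ _
  have hlin : ∀ r : Γ(Y, U.1), (cokernel.π K.arrow).app U.1 r =
      r • (cokernel.π K.arrow).app U.1 (1 : Γ(Y, U.1)) := fun r => by
    refine Eq.trans (congrArg _ (mul_one r).symm) ?_
    exact QCohLib.app_smul (cokernel.π K.arrow) U.1 r (1 : Γ(Y, U.1))
  refine Iff.trans Module.mem_annihilator ⟨fun h => ?_, fun h m => ?_⟩
  · refine (hlin a).trans ?_
    exact h _
  ·
    obtain ⟨r, rfl⟩ := RichLib.IsFPAffine.appLin_surjective (cokernel.π K.arrow) U.2 m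
    show a • (cokernel.π K.arrow).app U.1 r = 0
    rw [hlin r, smul_smul, mul_comm, ← smul_smul, ← hlin a, h, smul_zero]

end Ideal

variable {X S : Scheme.{u}} (f : X ⟶ S)

/-- The identification of the base change of `O`. -/
def eO (T : Over S) : FGA.ET f (Coh.structureModule X) T ≅ Coh.structureModule (PicF.XT f T) :=
  KFlatLib.pullUnitIso _

/-- The submodule of `O_{X_T}` cut out by a closed subscheme. -/
def hilbSub {T : Over S} {Z : Scheme.{u}} (j : Z ⟶ PicF.XT f T) : Subobject (FGA.ET f (Coh.structureModule X) T) :=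
  kernelSubobject ((eO f T).hom ≫ ClSub.unitToPush j)

theorem hilbSub_eq_iff {T : Over S} {Z Z' : Scheme.{u}} (j : Z ⟶ PicF.XT f T) [IsClosedImmersion j]
    (j' : Z' ⟶ PicF.XT f T) [IsClosedImmersion j'] : hilbSub f j = hilbSub f j' ↔ j.ker = j'.ker := by
  haveI := epi_unitToPush j
  haveI := epi_unitToPush j'
  rw [← idealSub_eq_iff]
  unfold hilbSub idealSub
  rw [kernelSubobject_eq_iff, kernelSubobject_eq_iff]
  simp only [Category.assoc, cancel_epi]

theorem eO_natural {T U : Over S} (g : U ⟶ T) :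
    (FGA.ETiso f (Coh.structureModule X) g).inv ≫
        (Scheme.Modules.pullback (PicF.XTmap f g)).map (eO f T).hom ≫
          (KFlatLib.pullUnitIso (PicF.XTmap f g)).hom = (eO f U).hom := by
  rw [Iso.inv_comp_eq]
  have key : ∀ (fU : PicF.XT f U ⟶ X) (e : PicF.XTmap f g ≫ pullback.fst f T.hom = fU),
      (Scheme.Modules.pullback (PicF.XTmap f g)).map (KFlatLib.pullUnitIso (pullback.fst f T.hom)).hom ≫
          (KFlatLib.pullUnitIso (PicF.XTmap f g)).hom =
        (((Scheme.Modules.pullbackComp (PicF.XTmap f g) (pullback.fst f T.hom)).app (Coh.structureModule X)) ≪≫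
          (Scheme.Modules.pullbackCongr e).app (Coh.structureModule X)).hom ≫ (KFlatLib.pullUnitIso fU).hom := by
    rintro _ rfl
    refine CohCmpLib.hom_ext_puSec₂ _ _ fun V s => ?_
    refine (congrArg ((KFlatLib.pullUnitIso (PicF.XTmap f g)).hom.app _)
      ((KFlatLib.puSec_natural _ _ _).trans (congrArg (KFlatLib.puSec _) (CohCmpLib.pullUnitIso_puSec _ s)))).trans ?_
    refine (CohCmpLib.pullUnitIso_puSec _ _).trans (Eq.symm ?_)
    refine (congrArg ((KFlatLib.pullUnitIso (PicF.XTmap f g ≫ pullback.fst f T.hom)).hom.app _)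
      (CohCmpLib.pullbackComp_puSec (PicF.XTmap f g) (pullback.fst f T.hom) _ s)).trans ?_
    exact CohCmpLib.pullUnitIso_puSec _ s
  exact key _ (FGA.XTmap_fst f g)

/-- **Pulling back closed subschemes.** -/
theorem quotPull_hilbSub {T U : Over S} (g : U ⟶ T) (I : (PicF.XT f T).IdealSheafData) :
    FGA.quotPull f (Coh.structureModule X) g (hilbSub f I.subschemeι) =
      hilbSub f (FGA.hilbPull f g I).subschemeι := by
  let h := PicF.XTmap f g
  let j := pullback.snd I.subschemeι h
  have hH : IsPullback (pullback.fst I.subschemeι h) j I.subschemeι h := IsPullback.of_hasPullback _ _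
  have hker : (FGA.hilbPull f g I).subschemeι.ker = j.ker := Scheme.IdealSheafData.ker_subschemeι _
  rw [(hilbSub_eq_iff f (FGA.hilbPull f g I).subschemeι j).2 hker]
  haveI : Coh.IsQCoh (Coh.structureModule I.subscheme) := QCohLib.isQCoh_unit
  haveI hbc : IsIso (CohBC.bc0 I.subschemeι h j (pullback.fst I.subschemeι h) hH.w
      (Coh.structureModule I.subscheme)) :=
    Groth.Agent.S12131.result I.subschemeι h (pullback.fst I.subschemeι h) j hH _
  let α := asIso (CohBC.bc0 I.subschemeι h j (pullback.fst I.subschemeι h) hH.w (Coh.structureModule I.subscheme)) ≪≫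
    (Scheme.Modules.pushforward j).mapIso (KFlatLib.pullUnitIso (pullback.fst I.subschemeι h))
  haveI := epi_unitToPush I.subschemeι
  haveI := epi_unitToPush j
  haveI := Grass.epi_pullback_map h ((eO f T).hom ≫ ClSub.unitToPush I.subschemeι)
  unfold hilbSub
  rw [quotPull_kernel, kernelSubobject_eq_iff]
  refine ⟨α, ?_⟩
  rw [Functor.map_comp]
  simp only [α, Category.assoc, Iso.trans_hom, asIso_hom, Functor.mapIso_hom]
  rw [CohCmpLib.bc0_unit hH.w]
  exact (Category.assoc _ _ _).symm.trans (((Category.assoc _ _ _).symm.trans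
    (congrArg (· ≫ ClSub.unitToPush j) (by rw [Category.assoc]; exact eO_natural f g))))

end QuotSchLib
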