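import Groth.Agent.RGFlatLib.EtaleFlat
import Groth.Agent.QCohLib.Push
import Groth.Agent.QCohLib.Coherent
import Groth.Agent.CohGenLib.Compare
import Groth.Agent.KFlatLib.QCohLpull
import Mathlib.RingTheory.Flat.TorsionFree
import Mathlib.RingTheory.DiscreteValuationRing.Basic

/-!
# Flat extension of quotients over a discrete valuation ring
-/

set_option autoImplicit false
set_option linter.style.haveILetI false
set_option maxHeartbeats 1000000
universe u

open CategoryTheory CategoryTheory.Limits AlgebraicGeometry TopologicalSpace Opposite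
open KFlatLib (pb)

noncomputable section

namespace QuotSchLib

variable {A : Type u} [CommRing A] [IsDomain A] [IsDiscreteValuationRing A]

instance : IsOpenImmersion (Spec.map (CommRingCat.ofHom (algebraMap A (FractionRing A)))) := by
  obtain ⟨ϖ, hϖ⟩ := IsDiscreteValuationRing.exists_irreducible A
  haveI : IsLocalization.Away ϖ (FractionRing A) := IsLocalization.Away.mk ϖ
    ((IsUnit.mk0 _ (by simpa using hϖ.ne_zero)))
    (fun z => by
      obtain ⟨⟨a, s⟩, hz⟩ := IsLocalization.surj (nonZeroDivisors A) z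
      obtain ⟨m, w, hw⟩ := IsDiscreteValuationRing.eq_unit_mul_pow_irreducible (nonZeroDivisors.coe_ne_zero s) hϖ
      refine ⟨m, a * ↑w⁻¹, ?_⟩
      rw [map_mul, ← hz, mul_assoc, ← map_mul, hw, mul_right_comm, Units.mul_inv, one_mul, map_pow])
    (fun a b h => ⟨0, by simpa using IsFractionRing.injective A (FractionRing A) h⟩)
  exact IsOpenImmersion.of_isLocalization ϖ

variable {X XK : Scheme.{u}} (f : X ⟶ Spec (CommRingCat.of A)) {j : XK ⟶ X}
  {fK : XK ⟶ Spec (CommRingCat.of (FractionRing A))}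
  (sq : IsPullback j fK f (Spec.map (CommRingCat.ofHom (algebraMap A (FractionRing A)))))

include sq in
/-- **Quotients of a coherent module over the generic point extend to flat quotients.** -/
theorem exists_flat_extension [IsLocallyNoetherian X] {G : X.Modules} (hG : Coh.IsCoh G) {FK : XK.Modules}
    (hFK : Coh.IsQCoh FK) (φK : pb j G ⟶ FK) [Epi φK] :
    ∃ (F : X.Modules) (φ : G ⟶ F) (e : pb j F ≅ FK),
      Coh.IsCoh F ∧ Epi φ ∧ FlatMod.IsFlatOver f F ∧ (Scheme.Modules.pullback j).map φ ≫ e.hom = φK := by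
  haveI : IsOpenImmersion j := MorphismProperty.of_isPullback sq.flip inferInstance
  haveI : IsAffineHom j := MorphismProperty.of_isPullback sq.flip inferInstance
  haveI := hFK
  haveI := hG.1
  let adj := Scheme.Modules.pullbackPushforwardAdjunction j
  let R := Scheme.Modules.pushforward j
  haveI : Coh.IsQCoh (R.obj FK) := QCohLib.isQCoh_pushforward j FK
  let ψ : G ⟶ R.obj FK := adj.homEquiv _ _ φK
  let F := Abelian.image ψ
  let φ : G ⟶ F := Abelian.factorThruImage ψ
  let ι : F ⟶ R.obj FK := Abelian.image.ι ψ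
  haveI : Coh.IsQCoh F := QCohLib.isQCoh_image ψ
  haveI : IsIso adj.counit := CohGenLib.isIso_counit_open j
  let d : pb j F ⟶ FK := (Scheme.Modules.pullback j).map ι ≫ adj.counit.app FK
  have hd : (Scheme.Modules.pullback j).map φ ≫ d = φK := by
    show (Scheme.Modules.pullback j).map φ ≫ (Scheme.Modules.pullback j).map ι ≫ adj.counit.app FK = φK
    rw [← Category.assoc, ← Functor.map_comp, Abelian.image.fac]
    exact (adj.homEquiv_counit (g := ψ)).symm.trans ((adj.homEquiv G FK).symm_apply_apply φK)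
  haveI : Mono d := by
    haveI : PreservesFiniteLimits (Scheme.Modules.pullback j) := inferInstance
    exact mono_comp _ _
  haveI : Epi d := by
    haveI : Epi ((Scheme.Modules.pullback j).map φ ≫ d) := by rw [hd]; infer_instance
    exact epi_of_epi ((Scheme.Modules.pullback j).map φ) d
  haveI : IsIso d := isIso_of_mono_of_epi d
  refine ⟨F, φ, asIso d, ⟨inferInstance, QCohLib.isFT_of_epi φ hG.2⟩, inferInstance, fun x => ?_, hd⟩
  obtain ⟨V, hV, hxV, -⟩ := exists_isAffineOpen_mem_and_subset (x := x) (U := ⊤) trivial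
  let T := Spec (CommRingCat.of A)
  have hVT : V ≤ f ⁻¹ᵁ ⊤ := le_top
  letI : Algebra Γ(T, ⊤) Γ(X, V) := (f.appLE ⊤ V hVT).hom.toAlgebra
  letI : Module Γ(T, ⊤) Γ(F, V) := Module.compHom _ (f.appLE ⊤ V hVT).hom
  haveI : IsScalarTower Γ(T, ⊤) Γ(X, V) Γ(F, V) := IsScalarTower.of_algebraMap_smul fun _ _ => rfl
  let eA : A ≃+* Γ(T, ⊤) := (Scheme.ΓSpecIso (CommRingCat.of A)).symm.commRingCatIsoToRingEquiv
  haveI : IsDomain Γ(T, ⊤) := eA.toMulEquiv.isDomain_iff.1 inferInstance
  haveI : IsPrincipalIdealRing Γ(T, ⊤) := IsPrincipalIdealRing.of_surjective eA.toRingHom eA.surjective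
  haveI : Module.Flat Γ(T, ⊤) Γ(F, V) := by
    rw [Module.Flat.flat_iff_torsion_eq_bot_of_isBezout, eq_bot_iff]
    rintro s ⟨⟨a, ha⟩, has : a • s = 0⟩
    obtain ⟨b, rfl⟩ := eA.surjective a
    have hb : b ≠ 0 := fun h => nonZeroDivisors.ne_zero ha (by simp [h])
    have hu : IsUnit (j.app V (f.appLE ⊤ V hVT (eA b))) := by
      have h1 : f.appLE ⊤ V hVT ≫ j.app V =
          (Spec.map (CommRingCat.ofHom (algebraMap A (FractionRing A)))).appTop ≫ fK.appLE ⊤ (j ⁻¹ᵁ V) le_top := by
        rw [← Scheme.Hom.appLE_eq_app, Scheme.Hom.appLE_comp_appLE, Scheme.Hom.appTop, ← Scheme.Hom.appLE_eq_app]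
        erw [Scheme.Hom.appLE_comp_appLE]
        simp only [sq.w]
      have h2 : j.app V (f.appLE ⊤ V hVT (eA b)) =
          fK.appLE ⊤ (j ⁻¹ᵁ V) le_top
            ((Scheme.ΓSpecIso (CommRingCat.of (FractionRing A))).inv (algebraMap A (FractionRing A) b)) := by
        refine (congr($h1 (eA b))).trans ?_
        exact congrArg (fK.appLE ⊤ (j ⁻¹ᵁ V) le_top)
          congr($((Scheme.ΓSpecIso_inv_naturality (CommRingCat.ofHom (algebraMap A (FractionRing A)))).symm) b)
      rw [h2]
      exact ((IsUnit.mk0 _ fun h => hb (IsFractionRing.injective A (FractionRing A) (h.trans (map_zero _).symm))).map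
        (Scheme.ΓSpecIso (CommRingCat.of (FractionRing A))).inv.hom).map (fK.appLE ⊤ (j ⁻¹ᵁ V) le_top).hom
    rw [Submodule.mem_bot]
    refine QCohLib.app_injective_of_mono ι V ?_
    rw [map_zero]
    have h3 : ι.app V (f.appLE ⊤ V hVT (eA b) • s) = 0 := by
      rw [show f.appLE ⊤ V hVT (eA b) • s = (0 : Γ(F, V)) from has, map_zero]
    rw [QCohLib.app_smul] at h3
    let s' : Γ(FK, j ⁻¹ᵁ V) := ι.app V s
    have h4 : (j.app V (f.appLE ⊤ V hVT (eA b))) • s' = (0 : Γ(FK, j ⁻¹ᵁ V)) := h3
    exact (hu.smul_left_cancel (β := Γ(FK, j ⁻¹ᵁ V))).1 (h4.trans (smul_zero _).symm)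
  exact RGFlatLib.isFlatOverAt_of_flat_sections f F (isAffineOpen_top T) hV hVT rfl hxV

end QuotSchLib
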