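import Groth.Agent.QuotSchLib.HomZero
import Groth.Agent.RichLib.FibreProper
import Groth.Prelude.Def_FGA

/-!
# Base changed families and their squares
-/

set_option autoImplicit false
universe u

open CategoryTheory CategoryTheory.Limits AlgebraicGeometry

noncomputable section

namespace QuotSchLib

variable {X S : Scheme.{u}} (f : X ⟶ S)

theorem isPullback_XTmap {T U : Over S} (g : U ⟶ T) :
    IsPullback (PicF.XTmap f g) (PicF.XTproj f U) (PicF.XTproj f T) g.left := by
  refine IsPullback.of_right ?_ ?_ (IsPullback.of_hasPullback f T.hom)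
  · rw [FGA.XTmap_fst, Over.w g]
    exact IsPullback.of_hasPullback f U.hom
  · simp only [PicF.XTmap, pullback.map, Category.comp_id]
    exact pullback.lift_snd _ _ _

/-- The closed subscheme of the base over which a homomorphism into a flat family vanishes. -/
theorem exists_homZero_over {n : ℕ} [IsNoetherian S] (i : X ⟶ CohB1.ProjSpaceOver n S) [IsClosedImmersion i]
    (E F : X.Modules) (hE : Coh.IsCoh E) (hF : Coh.IsCoh F)
    (hFl : FlatMod.IsFlatOver (i ≫ CohB1.ProjSpaceOver.toBase n S) F) (T : Over S)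
    (ψ : FGA.ET (i ≫ CohB1.ProjSpaceOver.toBase n S) E T ⟶ FGA.ET (i ≫ CohB1.ProjSpaceOver.toBase n S) F T) :
    ∃ (T' : Over S) (c : T' ⟶ T), IsClosedImmersion c.left ∧
      ∀ (U : Over S) (g : U ⟶ T),
        (Scheme.Modules.pullback (PicF.XTmap (i ≫ CohB1.ProjSpaceOver.toBase n S) g)).map ψ = 0 ↔
          ∃ h : U ⟶ T', h ≫ c = g := by
  haveI : IsProper (CohB1.ProjSpaceOver.toBase n S) := ChowLib.isProper_toBase n S
  haveI : LocallyOfFinitePresentation (i ≫ CohB1.ProjSpaceOver.toBase n S) :=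
    RichLib.FibreLoci.lfp_of_isLocallyNoetherian _
  let L := (Scheme.Modules.pullback i).obj (Twist.twistOver n S 1)
  have hL : PicF.IsInvertible L := AmpleDevLib.isInvertible_pb i (PicPnLib.twistOver_inv n S 1)
  obtain ⟨Z, c, hc, hu⟩ := exists_homZero (f := i ≫ CohB1.ProjSpaceOver.toBase n S) L hL
    (fun W hW => PnCohLib.isAmple_twist_restrict i hW) E F hE hF hFl
    (IsPullback.of_hasPullback (i ≫ CohB1.ProjSpaceOver.toBase n S) T.hom) ψ
  refine ⟨Over.mk (c ≫ T.hom), Over.homMk c, hc, fun U g => ?_⟩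
  rw [hu g.left (isPullback_XTmap _ g)]
  constructor
  · rintro ⟨l, hl⟩
    exact ⟨Over.homMk l (by simp [reassoc_of% hl]), Over.OverMorphism.ext hl⟩
  · rintro ⟨h, rfl⟩
    exact ⟨h.left, rfl⟩

end QuotSchLib
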