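import Groth.Agent.QuotSchLib.Sub
import Groth.Agent.QuotSchLib.XT
import Groth.Agent.S12131
import Groth.Agent.CycKSuppLib.Killed
import Groth.Agent.ProjFormLib.Proj
import Groth.Agent.PushLinLib.HH
import Groth.Agent.RichLib.IsFPAffine

/-!
# Quotients on a closed subscheme and quotients of its direct image
-/

set_option autoImplicit false
set_option linter.style.haveILetI false
set_option maxHeartbeats 1000000
universe u

open CategoryTheory CategoryTheory.Limits AlgebraicGeometry TopologicalSpace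
open KFlatLib (pb)

noncomputable section

namespace QuotSchLib

section General

variable {Z P : Scheme.{u}} (j : Z ⟶ P) [IsClosedImmersion j]

/-- Maps to killed modules are determined by their pullbacks. -/
theorem exists_iso_of_pullback {A F₁ F₂ : P.Modules} (f₁ : A ⟶ F₁) (f₂ : A ⟶ F₂)
    (h₁ : CycKSuppLib.Kil j F₁) (h₂ : CycKSuppLib.Kil j F₂) (a : pb j F₁ ≅ pb j F₂)
    (ha : (Scheme.Modules.pullback j).map f₁ ≫ a.hom = (Scheme.Modules.pullback j).map f₂) :
    ∃ e : F₁ ≅ F₂, f₁ ≫ e.hom = f₂ := by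
  haveI u₁ := DevissLib.isIso_unit_of_killed j h₁.killed
  haveI u₂ := DevissLib.isIso_unit_of_killed j h₂.killed
  let adj := Scheme.Modules.pullbackPushforwardAdjunction j
  refine ⟨@asIso _ _ _ _ (adj.unit.app F₁) u₁ ≪≫ (Scheme.Modules.pushforward j).mapIso a ≪≫
    (@asIso _ _ _ _ (adj.unit.app F₂) u₂).symm, ?_⟩
  simp only [Iso.trans_hom, asIso_hom, Functor.mapIso_hom, Iso.symm_hom, asIso_inv]
  rw [← Category.assoc, ← Category.assoc, IsIso.comp_inv_eq]
  have n₁ := adj.unit.naturality f₁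
  have n₂ := adj.unit.naturality f₂
  simp only [Functor.id_map, Functor.comp_map] at n₁ n₂
  rw [n₁, n₂, Category.assoc, ← Functor.map_comp, ha]

/-- Flatness of a direct image along a closed immersion. -/
theorem isFlatOver_push_iff {T : Scheme.{u}} (f : P ⟶ T) (G : Z.Modules) [Coh.IsQCoh G] :
    FlatMod.IsFlatOver f ((Scheme.Modules.pushforward j).obj G) ↔ FlatMod.IsFlatOver (j ≫ f) G := by
  haveI : Coh.IsQCoh ((Scheme.Modules.pushforward j).obj G) := QCohLib.isQCoh_pushforward j G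
  have key : ∀ {U : T.Opens} {V : P.Opens} (hVU : V ≤ f ⁻¹ᵁ U),
      (j ≫ f).appLE U (j ⁻¹ᵁ V) (j.preimage_mono hVU) = f.appLE U V hVU ≫ j.app V := fun hVU => by
    rw [← Scheme.Hom.appLE_eq_app, Scheme.Hom.appLE_comp_appLE]
  constructor
  · intro h z
    obtain ⟨U, hU, hzU, -⟩ := exists_isAffineOpen_mem_and_subset (x := f (j z)) (U := ⊤) trivial
    obtain ⟨V, hV, hzV, hVU⟩ := exists_isAffineOpen_mem_and_subset (x := j z) (U := f ⁻¹ᵁ U) hzU
    letI : Algebra Γ(T, U) Γ(P, V) := (f.appLE U V hVU).hom.toAlgebra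
    letI : Module Γ(T, U) Γ((Scheme.Modules.pushforward j).obj G, V) := Module.compHom _ (f.appLE U V hVU).hom
    haveI : IsScalarTower Γ(T, U) Γ(P, V) Γ((Scheme.Modules.pushforward j).obj G, V) :=
      IsScalarTower.of_algebraMap_smul fun _ _ => rfl
    haveI hfl : Module.Flat Γ(T, U) Γ((Scheme.Modules.pushforward j).obj G, V) :=
      RichLib.IsFPAffine.flat_sections f _ hU hV hVU rfl fun w _ => h w
    letI : Algebra Γ(T, U) Γ(Z, j ⁻¹ᵁ V) := ((j ≫ f).appLE U (j ⁻¹ᵁ V) (j.preimage_mono hVU)).hom.toAlgebra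
    letI : Module Γ(T, U) Γ(G, j ⁻¹ᵁ V) := Module.compHom _ ((j ≫ f).appLE U (j ⁻¹ᵁ V) (j.preimage_mono hVU)).hom
    haveI : IsScalarTower Γ(T, U) Γ(Z, j ⁻¹ᵁ V) Γ(G, j ⁻¹ᵁ V) := IsScalarTower.of_algebraMap_smul fun _ _ => rfl
    haveI : Module.Flat Γ(T, U) Γ(G, j ⁻¹ᵁ V) := by
      let e : Γ((Scheme.Modules.pushforward j).obj G, V) ≃ₗ[Γ(T, U)] Γ(G, j ⁻¹ᵁ V) :=
        { toFun := fun x => x
          invFun := fun x => x
          map_add' := fun _ _ => rfl
          map_smul' := fun a x => (QCohLib.push_smul j G (f.appLE U V hVU a) x).trans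
            (congrArg (· • (show Γ(G, j ⁻¹ᵁ V) from x)) (congr($(key hVU) a)).symm)
          left_inv := fun _ => rfl
          right_inv := fun _ => rfl }
      exact Module.Flat.of_linearEquiv e.symm
    exact RGFlatLib.isFlatOverAt_of_flat_sections (j ≫ f) G hU (hV.preimage j) (j.preimage_mono hVU) rfl hzV
  · intro h x
    obtain ⟨U, hU, hxU, -⟩ := exists_isAffineOpen_mem_and_subset (x := f x) (U := ⊤) trivial
    obtain ⟨V, hV, hxV, hVU⟩ := exists_isAffineOpen_mem_and_subset (x := x) (U := f ⁻¹ᵁ U) hxU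
    letI : Algebra Γ(T, U) Γ(P, V) := (f.appLE U V hVU).hom.toAlgebra
    letI : Module Γ(T, U) Γ((Scheme.Modules.pushforward j).obj G, V) := Module.compHom _ (f.appLE U V hVU).hom
    haveI : IsScalarTower Γ(T, U) Γ(P, V) Γ((Scheme.Modules.pushforward j).obj G, V) :=
      IsScalarTower.of_algebraMap_smul fun _ _ => rfl
    letI : Algebra Γ(T, U) Γ(Z, j ⁻¹ᵁ V) := ((j ≫ f).appLE U (j ⁻¹ᵁ V) (j.preimage_mono hVU)).hom.toAlgebra
    letI : Module Γ(T, U) Γ(G, j ⁻¹ᵁ V) := Module.compHom _ ((j ≫ f).appLE U (j ⁻¹ᵁ V) (j.preimage_mono hVU)).hom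
    haveI : IsScalarTower Γ(T, U) Γ(Z, j ⁻¹ᵁ V) Γ(G, j ⁻¹ᵁ V) := IsScalarTower.of_algebraMap_smul fun _ _ => rfl
    haveI hfl : Module.Flat Γ(T, U) Γ(G, j ⁻¹ᵁ V) :=
      RichLib.IsFPAffine.flat_sections (j ≫ f) _ hU (hV.preimage j) (j.preimage_mono hVU) rfl fun w _ => h w
    haveI : Module.Flat Γ(T, U) Γ((Scheme.Modules.pushforward j).obj G, V) := by
      let e : Γ((Scheme.Modules.pushforward j).obj G, V) ≃ₗ[Γ(T, U)] Γ(G, j ⁻¹ᵁ V) :=
        { toFun := fun x => x
          invFun := fun x => x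
          map_add' := fun _ _ => rfl
          map_smul' := fun a x => (QCohLib.push_smul j G (f.appLE U V hVU a) x).trans
            (congrArg (· • (show Γ(G, j ⁻¹ᵁ V) from x)) (congr($(key hVU) a)).symm)
          left_inv := fun _ => rfl
          right_inv := fun _ => rfl }
      exact Module.Flat.of_linearEquiv e
    exact RGFlatLib.isFlatOverAt_of_flat_sections f _ hU hV hVU rfl hxV

/-- Direct images along closed immersions of epimorphisms of quasi-coherent modules are epimorphisms. -/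
theorem epi_push {M N : Z.Modules} (a : M ⟶ N) [Epi a] : Epi ((Scheme.Modules.pushforward j).map a) := by
  haveI := ProjClosedImmLib.preservesHomology_push j
  infer_instance

end General

variable {n : ℕ} {X S : Scheme.{u}} (i : X ⟶ CohB1.ProjSpaceOver n S) [IsClosedImmersion i] (E : X.Modules)

local notation "fX" => i ≫ CohB1.ProjSpaceOver.toBase n S

/-- The closed immersion of the base changed subscheme. -/
def iT (T : Over S) : PicF.XT fX T ⟶ CohB1.ProjSpaceOver n T.left :=
  (isPullback_projMap T.hom).lift (pullback.fst fX T.hom ≫ i) (PicF.XTproj fX T)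
    (by rw [Category.assoc]; exact pullback.condition)

theorem iT_projMap (T : Over S) : iT i T ≫ FGA.projMap n T.hom = pullback.fst fX T.hom ≫ i :=
  (isPullback_projMap T.hom).lift_fst _ _ _

theorem iT_toBase (T : Over S) : iT i T ≫ CohB1.ProjSpaceOver.toBase n T.left = PicF.XTproj fX T :=
  (isPullback_projMap T.hom).lift_snd _ _ _

theorem isPullback_iT (T : Over S) : IsPullback (pullback.fst fX T.hom) (iT i T) i (FGA.projMap n T.hom) :=
  IsPullback.of_bot (by rw [iT_toBase]; exact IsPullback.of_hasPullback fX T.hom) (iT_projMap i T).symm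
    (isPullback_projMap T.hom)

instance (T : Over S) : IsClosedImmersion (iT i T) :=
  MorphismProperty.of_isPullback (isPullback_iT i T) inferInstance

/-- The direct image of the module. -/
abbrev iE : (CohB1.ProjSpaceOver n S).Modules := (Scheme.Modules.pushforward i).obj E

/-- The identification of the base changed module. -/
def eE (T : Over S) : FGA.ET fX E T ≅ pb (pullback.fst fX T.hom ≫ i) (iE i E) :=
  (Scheme.Modules.pullback (pullback.fst fX T.hom)).mapIso (CycKSuppLib.pullPushIso i E).symm ≪≫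
    (Scheme.Modules.pullbackComp (pullback.fst fX T.hom) i).app (iE i E)

theorem eE_inv (T : Over S) :
    (eE i E T).inv = Grass.quotBC (rfl : pullback.fst fX T.hom ≫ i = _) (CycKSuppLib.pullPushIso i E).hom := by
  rw [quotBC_self]; rfl

/-- The quotient on the closed subscheme. -/
def toX {T : Over S} {F : (CohB1.ProjSpaceOver n T.left).Modules} (φ : pb (FGA.projMap n T.hom) (iE i E) ⟶ F) :
    FGA.ET fX E T ⟶ pb (iT i T) F :=
  (eE i E T).hom ≫ Grass.quotBC (iT_projMap i T) φ

theorem epi_toX {T : Over S} {F : (CohB1.ProjSpaceOver n T.left).Modules}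
    (φ : pb (FGA.projMap n T.hom) (iE i E) ⟶ F) [Epi φ] : Epi (toX i E φ) := by
  haveI := epi_quotBC (iT_projMap i T) φ
  exact epi_comp _ _

variable [Coh.IsQCoh E]

theorem kil_pb (T : Over S) : CycKSuppLib.Kil (iT i T) (pb (FGA.projMap n T.hom) (iE i E)) := by
  haveI := Groth.Agent.S12131.result i (FGA.projMap n T.hom) (pullback.fst fX T.hom) (iT i T) (isPullback_iT i T) E
  exact (CycKSuppLib.kil_push (iT i T) _).of_iso
    (@asIso _ _ _ _ _ (Groth.Agent.S12131.result i (FGA.projMap n T.hom) (pullback.fst fX T.hom) (iT i T)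
      (isPullback_iT i T) E)).symm

theorem kil_quot {T : Over S} {F : (CohB1.ProjSpaceOver n T.left).Modules}
    (φ : pb (FGA.projMap n T.hom) (iE i E) ⟶ F) [Epi φ] : CycKSuppLib.Kil (iT i T) F :=
  (kil_pb i E T).of_epi φ

theorem coh_flat_toX {T : Over S} [IsLocallyNoetherian T.left] {F : (CohB1.ProjSpaceOver n T.left).Modules}
    (φ : pb (FGA.projMap n T.hom) (iE i E) ⟶ F) [Epi φ] (hF : Coh.IsCoh F)
    (hfl : FlatMod.IsFlatOver (CohB1.ProjSpaceOver.toBase n T.left) F) :
    Coh.IsCoh (pb (iT i T) F) ∧ FlatMod.IsFlatOver (PicF.XTproj fX T) (pb (iT i T) F) := by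
  haveI := isLocallyNoetherian_projSpaceOver n T.left
  have hk := kil_quot i E φ
  have hc := CycKSuppLib.isCoh_pull (iT i T) hF hk
  refine ⟨hc, ?_⟩
  haveI := hc.1
  rw [← iT_toBase]
  exact (isFlatOver_push_iff (iT i T) _ _).1 fun x =>
    (RichLib.ModFlat.isFlatOverAt_iso _ (CycKSuppLib.pushPullIso (iT i T) hk).symm x).1 (hfl x)

/-- Every quotient on the closed subscheme comes from projective space. -/
theorem exists_fromX {T : Over S} [IsLocallyNoetherian T.left] {M : (PicF.XT fX T).Modules} (hM : Coh.IsCoh M)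
    (hfl : FlatMod.IsFlatOver (PicF.XTproj fX T) M) (q : FGA.ET fX E T ⟶ M) [Epi q] :
    ∃ φ : pb (FGA.projMap n T.hom) (iE i E) ⟶ (Scheme.Modules.pushforward (iT i T)).obj M,
      Epi φ ∧ Coh.IsCoh ((Scheme.Modules.pushforward (iT i T)).obj M) ∧
        FlatMod.IsFlatOver (CohB1.ProjSpaceOver.toBase n T.left) ((Scheme.Modules.pushforward (iT i T)).obj M) ∧
        ∃ a : pb (iT i T) ((Scheme.Modules.pushforward (iT i T)).obj M) ≅ M, toX i E φ ≫ a.hom = q := by
  haveI := isLocallyNoetherian_projSpaceOver n T.left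
  let adj := Scheme.Modules.pullbackPushforwardAdjunction (iT i T)
  let A := pb (FGA.projMap n T.hom) (iE i E)
  let w : pb (iT i T) A ≅ FGA.ET fX E T :=
    (Scheme.Modules.pullbackComp (iT i T) (FGA.projMap n T.hom)).app _ ≪≫
      (Scheme.Modules.pullbackCongr (iT_projMap i T)).app _ ≪≫ (eE i E T).symm
  let φ : A ⟶ (Scheme.Modules.pushforward (iT i T)).obj M := adj.homEquiv _ _ (w.hom ≫ q)
  haveI : IsIso (adj.unit.app A) := DevissLib.isIso_unit_of_killed (iT i T) (kil_pb i E T).killed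
  haveI : Epi φ := by
    show Epi (adj.homEquiv _ _ (w.hom ≫ q))
    rw [Adjunction.homEquiv_unit]
    haveI := epi_push (iT i T) (w.hom ≫ q)
    exact epi_comp _ _
  haveI := CycKSuppLib.isIso_counit (iT i T) M
  refine ⟨φ, inferInstance, QCohLib.isCoh_push_finite (iT i T) M hM, ?_, CycKSuppLib.pullPushIso (iT i T) M, ?_⟩
  · haveI := hM.1
    exact (isFlatOver_push_iff (iT i T) _ M).2 (by rw [iT_toBase]; exact hfl)
  · have h1 : (Scheme.Modules.pullback (iT i T)).map φ ≫ (CycKSuppLib.pullPushIso (iT i T) M).hom = w.hom ≫ q :=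
      (adj.homEquiv_counit _ _ φ).symm.trans ((adj.homEquiv _ _).symm_apply_apply _)
    rw [toX, Grass.quotBC, Category.assoc, Category.assoc, Category.assoc, h1]
    simp only [w, Iso.trans_hom, Iso.app_hom, Iso.symm_hom, Category.assoc]
    erw [Iso.inv_hom_id_app_assoc, Iso.inv_hom_id_app_assoc, Iso.hom_inv_id_assoc]

end QuotSchLib
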