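import Groth.Agent.RGFlatLib.EtaleFlat
import Groth.Agent.SerreVanLib.Rpush
import Groth.Agent.KFlatLib.PullTensor
import Mathlib.RingTheory.Flat.Equalizer

/-!
# Base change keeps the kernel of a quotient which is flat over the base
-/

set_option autoImplicit false
set_option linter.style.haveILetI false
set_option maxHeartbeats 1000000
universe u

open CategoryTheory CategoryTheory.Limits AlgebraicGeometry TopologicalSpace Opposite
open scoped TensorProduct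
open KFlatLib (pb puSec puSecLE puSecLE_apply puSecLE_smul isBaseChange_puSec puSec_natural)
open QCohLib (appLin)

noncomputable section

namespace QuotSchLib

variable {X T X'' Y : Scheme.{u}} {m : X'' ⟶ X} {r : X'' ⟶ Y} {q : X ⟶ T} {h : Y ⟶ T}

theorem puSecLE_natural {M N : X.Modules} (a : M ⟶ N) {U : X.Opens} {U' : X''.Opens} (hU : U' ≤ m ⁻¹ᵁ U)
    (s : Γ(M, U)) :
    ((Scheme.Modules.pullback m).map a).app U' (puSecLE m M hU s) = puSecLE m N hU (a.app U s) := by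
  rw [puSecLE_apply, puSecLE_apply, QCohLib.app_map, puSec_natural]

/-- **The kernel of a flat quotient survives base change.** -/
theorem mono_pullback_kernel (sq : IsPullback m r q h) {G H : X.Modules} [Coh.IsQCoh G] [Coh.IsQCoh H]
    (p : G ⟶ H) [Epi p] (hH : FlatMod.IsFlatOver q H) : Mono ((Scheme.Modules.pullback m).map (kernel.ι p)) := by
  haveI : Coh.IsQCoh (kernel p) := QCohLib.isQCoh_kernel p
  haveI : Coh.IsQCoh (pb m G) := KFlatLib.isQCoh_pullback m G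
  haveI : Coh.IsQCoh (pb m (kernel p)) := KFlatLib.isQCoh_pullback m _
  let φ := (Scheme.Modules.pullback m).map (kernel.ι p)
  haveI : Coh.IsQCoh ((Scheme.Modules.pullback m).obj (kernel p)) := inferInstanceAs (Coh.IsQCoh (pb m (kernel p)))
  haveI : Coh.IsQCoh ((Scheme.Modules.pullback m).obj G) := inferInstanceAs (Coh.IsQCoh (pb m G))
  haveI : Coh.IsQCoh (kernel φ) := QCohLib.isQCoh_kernel φ
  refine Preadditive.mono_of_kernel_zero (zero_of_source_iso_zero _ (IsZero.isoZero ?_))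
  refine DevissLib.isZero_of_support_empty (Set.eq_empty_iff_forall_notMem.2 fun z hzs => ?_)
  obtain ⟨T₀, hT₀, hzT, -⟩ := exists_isAffineOpen_mem_and_subset (x := h (r z)) (U := ⊤) trivial
  obtain ⟨Y₀, hY₀, hzY, hY₀T⟩ := exists_isAffineOpen_mem_and_subset (x := r z) (U := h ⁻¹ᵁ T₀) hzT
  have hzX : m z ∈ q ⁻¹ᵁ T₀ := by
    show q (m z) ∈ T₀
    rw [← Scheme.Hom.comp_apply, sq.w]; exact hzT
  obtain ⟨X₀, hX₀, hzX₀, hX₀T⟩ := exists_isAffineOpen_mem_and_subset (x := m z) (U := q ⁻¹ᵁ T₀) hzX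
  obtain ⟨hO, hpo⟩ := LCILocusLib.pullback_chart sq hT₀ hY₀ hY₀T hX₀ hX₀T
  let O : X''.Opens := m ⁻¹ᵁ X₀ ⊓ r ⁻¹ᵁ Y₀
  have e₁ : O ≤ m ⁻¹ᵁ X₀ := inf_le_left
  have e₂ : O ≤ r ⁻¹ᵁ Y₀ := inf_le_right
  letI : Algebra Γ(T, T₀) Γ(X, X₀) := (q.appLE T₀ X₀ hX₀T).hom.toAlgebra
  letI : Algebra Γ(T, T₀) Γ(Y, Y₀) := (h.appLE T₀ Y₀ hY₀T).hom.toAlgebra
  letI : Algebra Γ(X, X₀) Γ(X'', O) := (m.appLE X₀ O e₁).hom.toAlgebra
  letI : Algebra Γ(Y, Y₀) Γ(X'', O) := (r.appLE Y₀ O e₂).hom.toAlgebra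
  letI : Algebra Γ(T, T₀) Γ(X'', O) := ((m.appLE X₀ O e₁).hom.comp (q.appLE T₀ X₀ hX₀T).hom).toAlgebra
  haveI : IsScalarTower Γ(T, T₀) Γ(X, X₀) Γ(X'', O) := IsScalarTower.of_algebraMap_eq fun _ => rfl
  haveI : IsScalarTower Γ(T, T₀) Γ(Y, Y₀) Γ(X'', O) := IsScalarTower.of_algebraMap_eq fun x =>
    RingHom.congr_fun (congrArg CommRingCat.Hom.hom hpo.w) x
  haveI : Algebra.IsPushout Γ(T, T₀) Γ(Y, Y₀) Γ(X, X₀) Γ(X'', O) :=
    Algebra.IsPushout.symm (CommRingCat.isPushout_iff_isPushout.mp hpo)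
  letI : Module Γ(T, T₀) Γ(kernel p, X₀) := Module.compHom _ (q.appLE T₀ X₀ hX₀T).hom
  haveI : IsScalarTower Γ(T, T₀) Γ(X, X₀) Γ(kernel p, X₀) := IsScalarTower.of_algebraMap_smul fun _ _ => rfl
  letI : Module Γ(T, T₀) Γ(G, X₀) := Module.compHom _ (q.appLE T₀ X₀ hX₀T).hom
  haveI : IsScalarTower Γ(T, T₀) Γ(X, X₀) Γ(G, X₀) := IsScalarTower.of_algebraMap_smul fun _ _ => rfl
  letI : Module Γ(T, T₀) Γ(H, X₀) := Module.compHom _ (q.appLE T₀ X₀ hX₀T).hom
  haveI : IsScalarTower Γ(T, T₀) Γ(X, X₀) Γ(H, X₀) := IsScalarTower.of_algebraMap_smul fun _ _ => rfl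
  haveI : Module.Flat Γ(T, T₀) Γ(H, X₀) :=
    RichLib.IsFPAffine.flat_sections q H hT₀ hX₀ hX₀T rfl fun w _ => hH w
  let i : Γ(kernel p, X₀) →ₗ[Γ(T, T₀)] Γ(G, X₀) := (appLin (kernel.ι p) X₀).restrictScalars _
  let π : Γ(G, X₀) →ₗ[Γ(T, T₀)] Γ(H, X₀) := (appLin p X₀).restrictScalars _
  have hi : Function.Injective i := QCohLib.app_injective_of_mono (kernel.ι p) X₀
  have hπ : Function.Surjective π := RichLib.IsFPAffine.appLin_surjective p hX₀
  have hex : Function.Exact i π := by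
    intro y
    refine ⟨fun hy => ?_, ?_⟩
    · obtain ⟨w, hw⟩ := (RichLib.IsFPAffine.kernelEquiv p X₀).surjective ⟨y, hy⟩
      exact ⟨w, congrArg Subtype.val hw⟩
    · rintro ⟨w, rfl⟩
      exact congr(Scheme.Modules.Hom.app $(kernel.condition p) X₀ w)
  have hinj := LinearMap.lTensor_injective_of_exact_of_flat π hπ i hi hex Γ(Y, Y₀)
  -- the chart comparison, for a module on `X`
  letI : Module Γ(X, X₀) Γ(pb m (kernel p), O) := Module.compHom _ (m.appLE X₀ O e₁).hom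
  haveI : IsScalarTower Γ(X, X₀) Γ(X'', O) Γ(pb m (kernel p), O) := IsScalarTower.of_algebraMap_smul fun _ _ => rfl
  letI : Module Γ(Y, Y₀) Γ(pb m (kernel p), O) := Module.compHom _ (r.appLE Y₀ O e₂).hom
  haveI : IsScalarTower Γ(Y, Y₀) Γ(X'', O) Γ(pb m (kernel p), O) := IsScalarTower.of_algebraMap_smul fun _ _ => rfl
  letI : Module Γ(X, X₀) Γ(pb m G, O) := Module.compHom _ (m.appLE X₀ O e₁).hom
  haveI : IsScalarTower Γ(X, X₀) Γ(X'', O) Γ(pb m G, O) := IsScalarTower.of_algebraMap_smul fun _ _ => rfl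
  letI : Module Γ(Y, Y₀) Γ(pb m G, O) := Module.compHom _ (r.appLE Y₀ O e₂).hom
  haveI : IsScalarTower Γ(Y, Y₀) Γ(X'', O) Γ(pb m G, O) := IsScalarTower.of_algebraMap_smul fun _ _ => rfl
  let ψK : Γ(kernel p, X₀) →ₗ[Γ(X, X₀)] Γ(pb m (kernel p), O) :=
    { toFun := puSecLE m _ e₁, map_add' := map_add _
      map_smul' := fun a g => puSecLE_smul m _ e₁ a g }
  let ψG : Γ(G, X₀) →ₗ[Γ(X, X₀)] Γ(pb m G, O) :=
    { toFun := puSecLE m G e₁, map_add' := map_add _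
      map_smul' := fun a g => puSecLE_smul m G e₁ a g }
  have hbK := isBaseChange_puSec m (kernel p) hX₀ hO e₁ (fun _ => rfl) ψK fun _ => rfl
  have hbG := isBaseChange_puSec m G hX₀ hO e₁ (fun _ => rfl) ψG fun _ => rfl
  let eK := (Algebra.IsPushout.cancelBaseChange Γ(T, T₀) Γ(Y, Y₀) Γ(X, X₀) Γ(X'', O) Γ(kernel p, X₀)).symm.trans
    (hbK.equiv.restrictScalars Γ(Y, Y₀))
  let eG := (Algebra.IsPushout.cancelBaseChange Γ(T, T₀) Γ(Y, Y₀) Γ(X, X₀) Γ(X'', O) Γ(G, X₀)).symm.trans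
    (hbG.equiv.restrictScalars Γ(Y, Y₀))
  have hcomm : ∀ w, φ.app O (eK w) = eG (i.lTensor Γ(Y, Y₀) w) := fun w => by
    induction w using TensorProduct.induction_on with
    | zero => simp
    | add a b ha hb => simp only [map_add, ha, hb]
    | tmul c s =>
      simp only [eK, eG, LinearEquiv.trans_apply, LinearMap.lTensor_tmul, Algebra.IsPushout.cancelBaseChange_symm_tmul,
        LinearEquiv.restrictScalars_apply, IsBaseChange.equiv_tmul]
      rw [QCohLib.app_smul]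
      exact congrArg (_ • ·) (puSecLE_natural (kernel.ι p) e₁ s)
  have hφ : Function.Injective (φ.app O) := fun a b hab => by
    obtain ⟨a', rfl⟩ := eK.surjective a
    obtain ⟨b', rfl⟩ := eK.surjective b
    rw [hcomm, hcomm] at hab
    exact congrArg _ (hinj (eG.injective hab))
  have hsub : Subsingleton Γ(kernel φ, O) := subsingleton_of_forall_eq 0 fun t => by
    refine QCohLib.app_injective_of_mono (kernel.ι φ) O (hφ ?_)
    rw [map_zero, map_zero]
    exact congr(Scheme.Modules.Hom.app $(kernel.condition φ) O t)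
  exact hzs (SerreVanLib.subsingleton_stalk_of_sections (kernel φ) hO hsub ⟨hzX₀, hzY⟩)

end QuotSchLib
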