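import Groth.Agent.MumfordLib.Main

/-!
# A uniform regularity bound for quotients with a given Hilbert polynomial
-/

set_option autoImplicit false
set_option linter.style.haveILetI false
set_option maxHeartbeats 1000000
universe u

open CategoryTheory CategoryTheory.Limits AlgebraicGeometry TopologicalSpace

noncomputable section

namespace QuotSchLib

variable {n : ℕ}

/-- The sum of `p` copies of `O(ν)` on projective space over a ring. -/
abbrev srcMod (R : Type u) [CommRing R] (n p : ℕ) (ν : ℤ) : (CohB1.ProjSpace n R).Modules :=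
  CohB1.tensorMod (Twist.twistProjSpace n R ν) (FlatMod.freeMod (CohB1.ProjSpace n R) p)

/-- **Uniform regularity** of quotients of `O(ν)^p` whose Hilbert polynomial is `Ψ (· + ν)`, and of their kernels. -/
theorem exists_quot_bound (n p : ℕ) (Ψ : Polynomial ℚ) :
    ∃ B : ℤ, ∀ ν d : ℤ, B ≤ d + ν → ∀ (k : Type u) [Field k] (F : (CohB1.ProjSpace n k).Modules), Coh.IsCoh F →
      ∀ (φ : srcMod k n p ν ⟶ F) [Epi φ], (∀ t : ℤ, (MumfordLib.chi k F t : ℚ) = Ψ.eval ((t + ν : ℤ) : ℚ)) →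
        Curv2.IsMRegular k n (kernel φ) d ∧ Curv2.IsMRegular k n F d ∧
          Curv2.IsMRegular k n (srcMod k n p ν) d := by
  let g : ℤ → ℤ := fun t => ⌊Ψ.eval (t : ℚ)⌋
  let B := MumfordLib.bound p (n + 1) (fun t => MumfordLib.sec p (n + 1) t - g t)
  refine ⟨max B 0, fun ν d hd k _ F hF φ _ hchi => ?_⟩
  have hdB : B ≤ d + ν := (le_max_left B 0).trans hd
  have hdν : -ν ≤ d := by have := (le_max_right B 0).trans hd; omega
  haveI := MumfordLib.isProper_projSpace (n := n) k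
  haveI := CurvLib.isNoetherian k (X := CohB1.ProjSpace n k)
  let P := CohB1.ProjSpace n k
  let O' := Twist.twistProjSpace n k
  let G := srcMod k n p ν
  let T := CurvLib.tensorLeft' (O' (-ν))
  obtain ⟨hW, -, -⟩ := MumfordLib.freeMod_data (n := n) k p
  have hG : Coh.IsCoh G := PnCohLib.isCoh_tensor_free (PicPnLib.twist_inv n k ν) p
  have hK : Coh.IsCoh (kernel φ) := QCohLib.isCoh_kernel φ hG hF.1
  obtain ⟨e₀⟩ := PicPnLib.twist_zero n k
  obtain ⟨e₁⟩ := PicPnLib.twist_add n k (-ν) ν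
  let e : T.obj G ≅ FlatMod.freeMod P p :=
    (HilbPolyLib.assocIso _ _ _).symm ≪≫
      HilbPolyLib.congrLeft (e₁ ≪≫ eqToIso (congrArg O' (neg_add_cancel ν)) ≪≫ e₀) _ ≪≫ HilbPolyLib.unitLeft _
  let φ' : FlatMod.freeMod P p ⟶ T.obj F := e.inv ≫ T.map φ
  have hS : (ShortComplex.mk (kernel.ι φ) φ (kernel.condition φ)).ShortExact :=
    ShortComplex.ShortExact.mk (ShortComplex.exact_kernel φ)
  have hT := HilbPolyLib.shortExact_tensor (PicPnLib.twist_inv n k (-ν)) hS
  haveI : Epi (T.map φ) := hT.epi_g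
  haveI : Mono (T.map (kernel.ι φ)) := hT.mono_f
  haveI : Epi φ' := epi_comp _ _
  have hTF : Coh.IsCoh (T.obj F) := HilbPolyLib.isCoh_tensor (PicPnLib.twist_inv n k (-ν)) hF
  have hshift : ∀ (M : P.Modules) (t : ℤ),
      Nonempty (CohB1.tensorMod (T.obj M) (O' t) ≅ CohB1.tensorMod M (O' (t - ν))) := fun M t => by
    obtain ⟨e₂⟩ := PicPnLib.twist_add n k (-ν) t
    exact ⟨HilbPolyLib.congrLeft (HilbPolyLib.swapIso (O' (-ν)) M) _ ≪≫ HilbPolyLib.assocIso _ _ _ ≪≫
      HilbPolyLib.congrRight _ (e₂ ≪≫ eqToIso (congrArg O' (by ring)))⟩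
  have hg : ∀ t, MumfordLib.chi k (T.obj F) t = g t := fun t => by
    have h1 : MumfordLib.chi k (T.obj F) t = MumfordLib.chi k F (t - ν) := by
      rw [MumfordLib.chi_eq_euler, MumfordLib.chi_eq_euler, CurvLib.euler_congr (hshift F t).some]
    rw [h1]
    show _ = ⌊Ψ.eval (t : ℚ)⌋
    have h2 := hchi (t - ν)
    rw [show t - ν + ν = t by ring] at h2
    rw [← h2, Int.floor_intCast]
  have eK : T.obj (kernel φ) ≅ kernel φ' :=
    (IsLimit.conePointUniqueUpToIso hT.fIsKernel (kernelIsKernel (T.map φ))) ≪≫ (kernelIsIsoComp e.inv (T.map φ)).symm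
  have hkerreg : Curv2.IsMRegular k n (kernel φ) d := fun i hi _ => by
    obtain ⟨e'⟩ := hshift (kernel φ) (d + ν - i)
    have h := MumfordLib.subsingleton_of_quot k p (T.obj F) hTF φ' g hg (d + ν) hdB i hi
    have h' := SerreVanLib.subsingleton_HH_of_iso (HilbPolyLib.congrLeft eK _) i h
    have h'' := SerreVanLib.subsingleton_HH_of_iso e'.symm i h'
    rwa [show d + ν - (i : ℤ) - ν = d - i by ring] at h''
  have hGreg : ∀ (c : ℤ) (i : ℕ), 1 ≤ i → -(n : ℤ) ≤ ν + c →
      Subsingleton (Coh.HH P (CohB1.tensorMod G (O' c)) i) := fun c i hi hc => by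
    obtain ⟨e₂⟩ := PicPnLib.twist_add n k ν c
    let ec : CohB1.tensorMod G (O' c) ≅ CohB1.tensorMod (O' (ν + c)) (FlatMod.freeMod P p) :=
      HilbPolyLib.assocIso _ _ _ ≪≫ HilbPolyLib.congrRight _ (HilbPolyLib.swapIso _ _) ≪≫
        (HilbPolyLib.assocIso _ _ _).symm ≪≫ HilbPolyLib.congrLeft e₂ _
    exact SerreVanLib.subsingleton_HH_of_iso ec i (PnCohLib.subsingleton_HH_tensor_free _ i
      (PnCohLib.subsingleton_HH_twist _ i (fun h => by omega) (fun h => by omega)) p)
  refine ⟨hkerreg, fun i hi hin => ?_, fun i hi hin => hGreg _ i hi (by omega)⟩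
  have hU := HilbPolyLib.shortExact_tensor (PicPnLib.twist_inv n k (d - i)) hS
  refine SerreVanLib.subsingleton_HH_of_iso (HilbPolyLib.swapIso F (O' (d - i))) i
    (MumfordLib.subsingleton_X₃ k hU ?_ ?_)
  · exact SerreVanLib.subsingleton_HH_of_iso (HilbPolyLib.swapIso (O' (d - i)) G) i (hGreg _ i hi (by omega))
  · exact SerreVanLib.subsingleton_HH_of_iso (HilbPolyLib.swapIso (O' (d - i)) (kernel φ)) (i + 1)
      (PnCohLib.vanishing_ge k (kernel φ) hK.1 d hkerreg (i + 1) (by omega) _ (by push_cast; omega))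

end QuotSchLib
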