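import Groth.Agent.QuotSchLib.Fam
import Groth.Agent.QuotSchLib.Bound
import Groth.Agent.QuotSchLib.PullFlat
import Groth.Agent.PnCohLib.K0
import Groth.Agent.DepthLib.SkOpen
import Groth.Agent.RTrivLib.P1
import Groth.Agent.S4654

/-!
# Uniform regularity for families of quotients with a given Hilbert polynomial
-/

set_option autoImplicit false
set_option linter.style.haveILetI false
set_option maxHeartbeats 1000000
universe u

open CategoryTheory CategoryTheory.Limits AlgebraicGeometry TopologicalSpace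
open KFlatLib (pb)

noncomputable section

namespace QuotSchLib

theorem isZero_freeMod_zero (X : Scheme.{u}) : IsZero (FlatMod.freeMod X 0) :=
  (IsZero.iff_id_eq_zero _).2 (Sigma.hom_ext _ _ fun j => nomatch j)

/-- Sums of copies of an invertible module are flat over the base of a flat morphism. -/
theorem isFlatOver_tensor_free {X T : Scheme.{u}} (f : X ⟶ T) [Flat f] {L : X.Modules} (hL : PicF.IsInvertible L) :
    ∀ p : ℕ, FlatMod.IsFlatOver f (CohB1.tensorMod L (FlatMod.freeMod X p))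
  | 0 => fun x => by
    have hz : IsZero (CohB1.tensorMod L (FlatMod.freeMod X 0)) :=
      Functor.map_isZero ((DCoh.tensorBi (X := X)).obj L) (isZero_freeMod_zero X)
    haveI : Subsingleton ((CohB1.tensorMod L (FlatMod.freeMod X 0)).presheaf.stalk x) := by
      have h : x ∉ CohB1.support (CohB1.tensorMod L (FlatMod.freeMod X 0)) := by
        rw [DevissLib.support_of_isZero hz]; exact Set.notMem_empty x
      exact not_not.1 fun hns => h (fun hs => hns hs)
    letI := FlatMod.moduleStalkOver f (CohB1.tensorMod L (FlatMod.freeMod X 0)) x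
    exact Module.Flat.of_free
  | p + 1 => by
    obtain ⟨a, b, w, hS⟩ := PnCohLib.exists_free_seq L hL p
    have hq : ∀ r, Coh.IsQCoh (CohB1.tensorMod L (FlatMod.freeMod X r)) := fun r => by
      haveI := CurvLib.isQCoh_freeMod X r
      exact @QCohLib.isQCoh_of_iso _ _ _ (HilbPolyLib.swapIso (FlatMod.freeMod X r) L) (MiscFlat6.isQCoh_tensor hL)
    haveI hLq : Coh.IsQCoh L := @QCohLib.isQCoh_of_iso _ _ _ (HilbPolyLib.unitLeft L)
      (@MiscFlat6.isQCoh_tensor _ (Coh.structureModule X) L QCohLib.isQCoh_unit hL)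
    refine (Groth.Agent.S4654.result f _ hS hLq (hq _) (hq _) (isFlatOver_tensor_free f hL p)).2 ?_
    intro x
    have e := RichLib.ModFlat.isFlatOverAt_iso f (x := x) (HilbPolyLib.unitLeft L)
    rw [← e]
    exact PnCohLib.isFlatOver_tensor f
      (fun y => (DepthLib.isFlatOverAt_structureModule_iff f y).2 (Flat.stalkMap f y)) hL x

variable {n : ℕ} {T : Scheme.{u}}

/-- The sum of `p` copies of `O(ν)` on projective space over a base. -/
abbrev srcOver (T : Scheme.{u}) (n p : ℕ) (ν : ℤ) : (CohB1.ProjSpaceOver n T).Modules :=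
  CohB1.tensorMod (Twist.twistOver n T ν) (FlatMod.freeMod (CohB1.ProjSpaceOver n T) p)

theorem isFlatOver_srcOver (n p : ℕ) (ν : ℤ) :
    FlatMod.IsFlatOver (CohB1.ProjSpaceOver.toBase n T) (srcOver T n p ν) :=
  haveI : Smooth (CohB1.ProjSpaceOver.toBase n T) := RTrivLib.smooth_toBase n T
  isFlatOver_tensor_free _ (PicPnLib.twistOver_inv n T ν) p

theorem isCoh_srcOver [IsLocallyNoetherian T] (n p : ℕ) (ν : ℤ) : Coh.IsCoh (srcOver T n p ν) :=
  haveI := isLocallyNoetherian_projSpaceOver n T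
  PnCohLib.isCoh_tensor_free (PicPnLib.twistOver_inv n T ν) p

theorem regular_congr {k : Type u} [Field k] {A B : (CohB1.ProjSpace n k).Modules} (e : A ≅ B) {m : ℤ}
    (h : Curv2.IsMRegular k n A m) : Curv2.IsMRegular k n B m := fun i h1 h2 =>
  SerreVanLib.subsingleton_HH_of_iso (HilbPolyLib.congrLeft e.symm _) i (h i h1 h2)

/-- `(n, p, ν, Φ)` is in the stable range: all quotients of `O(ν)^p` with polynomial `Φ` and their kernels are
`0`-regular. -/
def Stable (n p : ℕ) (ν : ℤ) (Φ : Polynomial ℚ) : Prop :=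
  ∀ (k : Type u) [Field k] (F : (CohB1.ProjSpace n k).Modules), Coh.IsCoh F →
    ∀ (φ : srcMod k n p ν ⟶ F) [Epi φ], (∀ t : ℤ, (MumfordLib.chi k F t : ℚ) = Φ.eval (t : ℚ)) →
      Curv2.IsMRegular k n (kernel φ) 0 ∧ Curv2.IsMRegular k n F 0 ∧ Curv2.IsMRegular k n (srcMod k n p ν) 0

/-- Every shift far enough to the right is stable. -/
theorem exists_stable (n p : ℕ) (ν : ℤ) (Φ : Polynomial ℚ) :
    ∃ d₀ : ℤ, ∀ d : ℤ, d₀ ≤ d → Stable.{u} n p (ν + d) (Φ.comp (Polynomial.X + Polynomial.C (d : ℚ))) := by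
  obtain ⟨B, hB⟩ := exists_quot_bound.{u} n p (Φ.comp (Polynomial.X - Polynomial.C (ν : ℚ)))
  refine ⟨B - ν, fun d hd k _ F hF φ _ h => hB (ν + d) 0 (by omega) k F hF φ fun t => ?_⟩
  rw [h t, Polynomial.eval_comp, Polynomial.eval_comp]
  simp only [Polynomial.eval_add, Polynomial.eval_sub, Polynomial.eval_X, Polynomial.eval_C]
  congr 1
  push_cast
  ring

variable {S T X' : Scheme.{u}} {g : T ⟶ S} {g' : X' ⟶ CohB1.ProjSpaceOver n S} {f' : X' ⟶ T}
  (H : IsPullback g' f' (CohB1.ProjSpaceOver.toBase n S) g)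

include H in
theorem isFlatOver_srcX (p : ℕ) (ν : ℤ) : FlatMod.IsFlatOver f' (pb g' (srcOver S n p ν)) := by
  haveI : Coh.IsQCoh (srcOver S n p ν) := by
    haveI := CurvLib.isQCoh_freeMod (CohB1.ProjSpaceOver n S) p
    exact @QCohLib.isQCoh_of_iso _ _ _ (HilbPolyLib.swapIso (FlatMod.freeMod _ p) _)
      (MiscFlat6.isQCoh_tensor (PicPnLib.twistOver_inv n S ν))
  exact RGFlatLib.isFlatOver_pullback_of_isPullback H _ (isFlatOver_srcOver n p ν)

include H in
theorem isCoh_srcX [IsLocallyNoetherian T] (p : ℕ) (ν : ℤ) : Coh.IsCoh (pb g' (srcOver S n p ν)) := by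
  haveI := isLocallyNoetherian_fam H
  have hθ := KFlatLib.isIso_pullθ g' (Twist.twistOver n S ν) (FlatMod.freeMod (CohB1.ProjSpaceOver n S) p)
  exact QCohLib.isCoh_of_iso
    ((@asIso _ _ _ _ (KFlatLib.pullθ g' _ _) hθ ≪≫
      HilbPolyLib.congrRight _ (KFlatLib.pullFreeIso g' p)).symm)
    (PnCohLib.isCoh_tensor_free (AmpleDevLib.isInvertible_pb g' (PicPnLib.twistOver_inv n S ν)) p)

theorem nonempty_fJ_srcX (p : ℕ) (ν : ℤ) (t : T) :
    Nonempty (pb (fJ H t) (pb g' (srcOver S n p ν)) ≅ srcMod (T.residueField t) n p ν) := by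
  obtain ⟨e⟩ := nonempty_fJ_twist H t ν
  have hθ := KFlatLib.isIso_pullθ g' (Twist.twistOver n S ν) (FlatMod.freeMod (CohB1.ProjSpaceOver n S) p)
  have hθ' := KFlatLib.isIso_pullθ (fJ H t) (pb g' (Twist.twistOver n S ν)) (pb g' (FlatMod.freeMod (CohB1.ProjSpaceOver n S) p))
  exact ⟨(Scheme.Modules.pullback (fJ H t)).mapIso (@asIso _ _ _ _ (KFlatLib.pullθ g' _ _) hθ) ≪≫
    @asIso _ _ _ _ (KFlatLib.pullθ (fJ H t) _ _) hθ' ≪≫
    PicGrp.tensorModIso e ((Scheme.Modules.pullback (fJ H t)).mapIso (KFlatLib.pullFreeIso g' p) ≪≫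
      KFlatLib.pullFreeIso (fJ H t) p)⟩

include H in
/-- **Uniform regularity** of flat families of quotients in the stable range. -/
theorem family_regular {p : ℕ} {ν : ℤ} {Φ : Polynomial ℚ} (hst : Stable.{u} n p ν Φ) [IsLocallyNoetherian T]
    {F : X'.Modules} (hF : Coh.IsCoh F) (hfl : FlatMod.IsFlatOver f' F) (φ : pb g' (srcOver S n p ν) ⟶ F) [Epi φ]
    (hP : PolyX H F Φ) :
    Coh.IsCoh (kernel φ) ∧ FlatMod.IsFlatOver f' (kernel φ) ∧
      RegX H F ∧ RegX H (kernel φ) ∧ RegX H (pb g' (srcOver S n p ν)) := by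
  haveI := isLocallyNoetherian_fam H
  have hG := isCoh_srcX H p ν
  haveI := hF.1
  haveI := hG.1
  have hN : Coh.IsCoh (kernel φ) := QCohLib.isCoh_kernel φ hG hF.1
  have hNfl : FlatMod.IsFlatOver f' (kernel φ) :=
    (Groth.Agent.S4654.result _ (ShortComplex.mk (kernel.ι φ) φ (kernel.condition φ))
      (ShortComplex.ShortExact.mk (ShortComplex.exact_kernel φ)) hN.1 hG.1 hF.1 hfl).1 (isFlatOver_srcX H p ν)
  have key : ∀ t : T, Curv2.IsMRegular (T.residueField t) n (pb (fJ H t) (kernel φ)) 0 ∧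
      Curv2.IsMRegular (T.residueField t) n (pb (fJ H t) F) 0 ∧
        Curv2.IsMRegular (T.residueField t) n (pb (fJ H t) (pb g' (srcOver S n p ν))) 0 := fun t => by
    obtain ⟨eG⟩ := nonempty_fJ_srcX H p ν t
    let P := Scheme.Modules.pullback (fJ H t)
    haveI : P.IsLeftAdjoint := ⟨_, ⟨Scheme.Modules.pullbackPushforwardAdjunction _⟩⟩
    haveI : Epi (P.map φ) := inferInstance
    let φt : srcMod (T.residueField t) n p ν ⟶ pb (fJ H t) F := eG.inv ≫ P.map φ
    haveI : Epi φt := epi_comp _ _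
    obtain ⟨hk, hF', hG'⟩ := hst (T.residueField t) (pb (fJ H t) F) (ConsLib.isCoh_pullback _ hF) φt (hP t)
    haveI : Mono (P.map (kernel.ι φ)) := mono_pullback_kernel (isPullback_fJ H t) φ hfl
    have hseq : (ShortComplex.mk (P.map (kernel.ι φ)) (P.map φ)
        (by rw [← P.map_comp, kernel.condition, P.map_zero])).Exact :=
      ShortComplex.exact_of_g_is_cokernel _ (CokernelCofork.mapIsColimit
        (CokernelCofork.ofπ φ (kernel.condition φ))
        (ShortComplex.ShortExact.mk (S := ShortComplex.mk (kernel.ι φ) φ (kernel.condition φ))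
          (ShortComplex.exact_kernel φ)).gIsCokernel P)
    let eK : P.obj (kernel φ) ≅ kernel φt :=
      IsLimit.conePointUniqueUpToIso hseq.fIsKernel (kernelIsKernel (P.map φ)) ≪≫
        (kernelIsIsoComp eG.inv (P.map φ)).symm
    exact ⟨regular_congr eK.symm hk, hF', regular_congr eG.symm hG'⟩
  exact ⟨hN, hNfl, fun t => (key t).2.1, fun t => (key t).1, fun t => (key t).2.2⟩

end QuotSchLib
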