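import Groth.Agent.CohCmpLib.PuSec
import Groth.Agent.CohCmpLib.UnitFibre
import Groth.Agent.CohCmpLib.PullOnComp
import Groth.Prelude.Def_GrassD

/-!
# Base changing a quotient twice
-/

set_option autoImplicit false
set_option maxHeartbeats 1000000
universe u

open CategoryTheory CategoryTheory.Limits AlgebraicGeometry TopologicalSpace Opposite
open KFlatLib (pb puSec)

noncomputable section

namespace QuotSchLib

variable {A B C X : Scheme.{u}} {π : C ⟶ X} {E : X.Modules} {F : C.Modules}

theorem quotBC_comp {w : B ⟶ C} {gB : B ⟶ X} (hw : w ≫ π = gB) {v : A ⟶ B} {gA : A ⟶ X} (hv : v ≫ gB = gA)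
    (h : (v ≫ w) ≫ π = gA) (φ : (Scheme.Modules.pullback π).obj E ⟶ F) :
    Grass.quotBC hv (Grass.quotBC hw φ) ≫ (Scheme.Modules.pullbackComp v w).hom.app F =
      Grass.quotBC h φ := by
  subst hw hv
  have hcoh := congr_app (Scheme.Modules.pseudofunctor_associativity (f := v) (g := w) (h := π)) E
  simp only [NatTrans.comp_app, Functor.whiskerRight_app, Functor.associator_hom_app, Functor.whiskerLeft_app,
    Category.id_comp, eqToHom_app, Functor.comp_obj] at hcoh
  have hnat := (Scheme.Modules.pullbackComp v w).hom.naturality φ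
  have hcongr : (Scheme.Modules.pullbackCongr h).inv.app E =
      eqToHom (by rw [h]) := by
    simp [Scheme.Modules.pullbackCongr]
  simp only [Functor.comp_obj, Functor.comp_map] at hnat
  simp only [Grass.quotBC, Functor.map_comp, Category.assoc]
  rw [hnat, hcongr]
  have hid : (Scheme.Modules.pullbackCongr (rfl : v ≫ w ≫ π = v ≫ w ≫ π)).inv.app E = 𝟙 _ := rfl
  have hid' : (Scheme.Modules.pullbackCongr (rfl : w ≫ π = w ≫ π)).inv.app E = 𝟙 _ := rfl
  rw [hid, hid', Category.id_comp]
  simp only [CategoryTheory.Functor.map_id, Category.id_comp]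
  have h3 : (Scheme.Modules.pullbackComp v (w ≫ π)).inv.app E ≫
      (Scheme.Modules.pullback v).map ((Scheme.Modules.pullbackComp w π).inv.app E) ≫
        (Scheme.Modules.pullbackComp v w).hom.app ((Scheme.Modules.pullback π).obj E) =
      eqToHom (by rw [h]) ≫ (Scheme.Modules.pullbackComp (v ≫ w) π).inv.app E := by
    rw [← cancel_mono ((Scheme.Modules.pullbackComp (v ≫ w) π).hom.app E)]
    simp only [Category.assoc, Iso.inv_hom_id_app]
    exact hcoh.trans (Category.comp_id _).symm
  refine Eq.trans ?_ ((congrArg (· ≫ (Scheme.Modules.pullback (v ≫ w)).map φ) h3).trans (Category.assoc _ _ _))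
  simp only [Category.assoc]
  erw [Category.id_comp]

/-- Changing the morphism along which a quotient is pulled back. -/
theorem quotBC_congr {h h' : A ⟶ C} (e : h = h') {g : A ⟶ X} (hh : h ≫ π = g) (hh' : h' ≫ π = g)
    (φ : (Scheme.Modules.pullback π).obj E ⟶ F) :
    Grass.quotBC hh φ ≫ (Scheme.Modules.pullbackCongr e).hom.app F = Grass.quotBC hh' φ := by
  subst e
  exact Category.comp_id _

/-- Compatible quotients pull back to compatible quotients. -/
theorem quotBC_iso {h : A ⟶ C} {g : A ⟶ X} (hg : h ≫ π = g) {F' : C.Modules}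
    (φ : (Scheme.Modules.pullback π).obj E ⟶ F) (e : F ⟶ F') :
    Grass.quotBC hg (φ ≫ e) = Grass.quotBC hg φ ≫ (Scheme.Modules.pullback h).map e := by
  simp only [Grass.quotBC, Functor.map_comp, Category.assoc]

end QuotSchLib
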