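import Groth.Agent.QuotSchLib.ZeroLocus
import Groth.Agent.PnCohLib.FlatCriterion
import Groth.Agent.MiscFlat6.CounitTwist
import Groth.Agent.CohCmpLib.UnitFibre
import Groth.Agent.AVVanishLib.Family
import Groth.Agent.HilbPolyLib.Twist
import Groth.Agent.CohCmpLib.HomLift
import Groth.Agent.S16948

/-!
# The locus where a homomorphism into a flat family vanishes
-/

set_option autoImplicit false
set_option linter.style.haveILetI false
set_option maxHeartbeats 1000000
universe u

open CategoryTheory CategoryTheory.Limits AlgebraicGeometry TopologicalSpace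
open KFlatLib (pb)

noncomputable section

namespace QuotSchLib

/-- Tensoring with an invertible module detects zero homomorphisms. -/
theorem tensor_map_eq_zero_iff {X : Scheme.{u}} {L : X.Modules} (hL : PicF.IsInvertible L) {A B : X.Modules}
    (ψ : A ⟶ B) : (CurvLib.tensorLeft' L).map ψ = 0 ↔ ψ = 0 := by
  refine ⟨fun h => ?_, fun h => by rw [h, Functor.map_zero]⟩
  have hS : (ShortComplex.mk (kernel.ι ψ) (cokernel.π (kernel.ι ψ)) (cokernel.condition _)).ShortExact :=
    ShortComplex.ShortExact.mk (ShortComplex.exact_cokernel _)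
  have hT := HilbPolyLib.shortExact_tensor hL hS
  haveI : Epi ((CurvLib.tensorLeft' L).map (cokernel.π (kernel.ι ψ))) := hT.epi_g
  let m : cokernel (kernel.ι ψ) ⟶ B := cokernel.desc _ ψ (kernel.condition ψ)
  have hm : Mono m := inferInstanceAs (Mono (Abelian.factorThruCoimage ψ))
  have hS' : (ShortComplex.mk m (cokernel.π m) (cokernel.condition _)).ShortExact :=
    ShortComplex.ShortExact.mk (ShortComplex.exact_cokernel _)
  haveI : Mono ((CurvLib.tensorLeft' L).map m) := (HilbPolyLib.shortExact_tensor hL hS').mono_f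
  have h0 : (CurvLib.tensorLeft' L).map (cokernel.π (kernel.ι ψ)) ≫ (CurvLib.tensorLeft' L).map m = 0 := by
    rw [← Functor.map_comp, cokernel.π_desc, h]
  have hz : IsZero ((CurvLib.tensorLeft' L).obj (cokernel (kernel.ι ψ))) := by
    rw [IsZero.iff_id_eq_zero]
    rw [← cancel_epi ((CurvLib.tensorLeft' L).map (cokernel.π (kernel.ι ψ))),
      ← cancel_mono ((CurvLib.tensorLeft' L).map m), Category.comp_id, comp_zero, zero_comp, h0]
  have hz' : IsZero (cokernel (kernel.ι ψ)) := DevissLib.isZero_of_support_empty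
    ((HilbPolyLib.support_tensor hL _).symm.trans (DevissLib.support_of_isZero hz))
  have e : cokernel.π (kernel.ι ψ) ≫ m = ψ := cokernel.π_desc _ _ _
  rw [← e, hz'.eq_of_tgt (cokernel.π (kernel.ι ψ)) 0, zero_comp]

/-- Vanishing of all higher direct images forces the vanishing of the higher cohomology of all fibres. -/
theorem subsingleton_fiberH_of_rpush_above {X S : Scheme.{u}} {f : X ⟶ S} {F : X.Modules} [IsProper f]
    [LocallyOfFinitePresentation f] [Coh.IsQCoh F] [HasInjectiveResolutions X.Modules]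
    (hfp : CohB1.IsFP F) (hfl : FlatMod.IsFlatOver f F)
    (h : ∀ i, 1 ≤ i → IsZero ((Coh.Rpush f i).obj F)) (s : S) (p : ℕ) (hp : 1 ≤ p) :
    Subsingleton (CohIII.fiberH f F s p) := by
  obtain ⟨Δ, ⟨E⟩⟩ := CohCmpLib.exists_sectCmp f
  obtain ⟨W, K, hW, hsW⟩ := CohCmpLib.exists_chart_at hfp hfl s
  have hsub : ∀ i, 1 ≤ i → Subsingleton Γ((Coh.Rpush f i).obj F, W) := fun i hi =>
    AVVanishLib.subsingleton_sec_of_isZero (h i hi) W
  have hfla : K.FlAt (p + 1) (le_refl W) := K.flAt_of_flat_above E hW le_rfl p (fun i hi => by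
    haveI := hsub i (hp.trans hi.le)
    infer_instance) (p + 1) (Nat.lt_succ_self p)
  refine K.subsingleton_fiberH hW le_rfl p hfla ?_ hsW
  let := K.alg (le_refl W)
  obtain ⟨e⟩ := K.nonempty_secEquiv E hW le_rfl p
  haveI := hsub p hp
  first
    | exact e.toEquiv.subsingleton
    | exact e.symm.toEquiv.subsingleton

/-- Cohomology and base change, in degree zero, for the family pulled back to a further base. -/
theorem isIso_bc0_pulled {X S X' T X'' U : Scheme.{u}} {f : X ⟶ S} {g : T ⟶ S} {f' : X' ⟶ T} {g' : X' ⟶ X}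
    {u : U ⟶ T} {u' : X'' ⟶ X'} {f'' : X'' ⟶ U} [IsProper f] [LocallyOfFinitePresentation f] {F : X.Modules}
    [Coh.IsQCoh F] (hfp : CohB1.IsFP F) (hfl : FlatMod.IsFlatOver f F)
    (h : ∀ s : S, Subsingleton (CohIII.fiberH f F s 1)) (H : IsPullback g' f' f g) (H' : IsPullback u' f'' f' u) :
    IsIso (CohBC.bc0 f' u f'' u' H'.w ((Scheme.Modules.pullback g').obj F)) := by
  haveI : IsProper f' := MorphismProperty.of_isPullback H inferInstance
  haveI : IsProper f'' := MorphismProperty.of_isPullback H' inferInstance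
  haveI : HasInjectiveResolutions X.Modules := inferInstance
  haveI : HasInjectiveResolutions X'.Modules := inferInstance
  haveI : HasInjectiveResolutions X''.Modules := inferInstance
  obtain ⟨Δ, ⟨E⟩⟩ := CohCmpLib.exists_sectCmp f
  obtain ⟨Δ', ⟨E'⟩⟩ := CohCmpLib.exists_sectCmp f'
  obtain ⟨Δ'', ⟨E''⟩⟩ := CohCmpLib.exists_sectCmp f''
  have hiso : ∀ {Y V : Scheme.{u}} {b : V ⟶ S} {fb : Y ⟶ V} {b' : Y ⟶ X} (Hb : IsPullback b' fb f b)
      [HasInjectiveResolutions Y.Modules] {Δb : RDer.DerivedLES (Scheme.Modules.pushforward fb)}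
      (Eb : CohCmp.SectCmp fb Δb) (C : CohCmp.GenBC f b fb b' Hb.w E Eb), IsIso (C.bc 0 F) :=
    fun {Y V b fb b'} Hb _ {Δb} Eb C => CohCmpLib.isIso_bc_of_compatAt E Hb Eb C 0 fun z => by
      obtain ⟨W, K, hW, hzW⟩ := CohCmpLib.exists_chart_at hfp hfl (b z)
      obtain ⟨V', hle, -, hV', hzV, a, -, -, -⟩ := K.exists_vanishing_nhd E hW le_rfl 1 hzW (h (b z))
      exact ⟨W, K, V', hle, hV', hzV, a⟩
  let B₂ := CohCmpLib.genBC H.w E E'
  let B₁ := CohCmpLib.genBC H'.w E' E''
  let B := CohCmpLib.genBC (H'.paste_horiz H).w E E''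
  haveI : IsIso (B₂.bc 0 F) := hiso H E' B₂
  haveI : IsIso (B.bc 0 F) := hiso (H'.paste_horiz H) E'' B
  have hc := Groth.Agent.S16948.result u' g' f'' f' f u g H' H (H'.paste_horiz H).w F 0 E E' E'' B₂ B₁ B
  haveI : IsIso (B₁.bc 0 ((Scheme.Modules.pullback g').obj F) ≫
      (Coh.Rpush f'' 0).map ((Scheme.Modules.pullbackComp u' g').hom.app F)) := by
    have h1 : IsIso ((Scheme.Modules.pullback u).map (B₂.bc 0 F) ≫ B₁.bc 0 ((Scheme.Modules.pullback g').obj F) ≫
        (Coh.Rpush f'' 0).map ((Scheme.Modules.pullbackComp u' g').hom.app F)) := by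
      rw [← hc]; infer_instance
    exact @IsIso.of_isIso_comp_left _ _ _ _ _ _ _ inferInstance h1
  haveI : IsIso (B₁.bc 0 ((Scheme.Modules.pullback g').obj F)) :=
    IsIso.of_isIso_comp_right _ ((Coh.Rpush f'' 0).map ((Scheme.Modules.pullbackComp u' g').hom.app F))
  exact CohCmpLib.isIso_bc0_of_bc B₁ _

section Locus

variable {X S : Scheme.{u}} {f : X ⟶ S}

/-- The zero locus of a homomorphism whose source is generated from the base and whose target has a locally
free direct image commuting with base change. -/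
theorem exists_zero_locus_of_gen {T X' : Scheme.{u}} (f' : X' ⟶ T) {V : T.Modules} [Coh.IsQCoh V]
    {A B : X'.Modules} (q : (Scheme.Modules.pullback f').obj V ⟶ A) [Epi q]
    (hB : FlatMod.IsFinLocFree ((Scheme.Modules.pushforward f').obj B))
    (hbc : ∀ {U X'' : Scheme.{u}} {u : U ⟶ T} {u' : X'' ⟶ X'} {f'' : X'' ⟶ U} (H' : IsPullback u' f'' f' u),
      IsIso (CohBC.bc0 f' u f'' u' H'.w B))
    (ψ : A ⟶ B) :
    ∃ (Z : Scheme.{u}) (c : Z ⟶ T), IsClosedImmersion c ∧
      ∀ {U X'' : Scheme.{u}} (u : U ⟶ T) {u' : X'' ⟶ X'} {f'' : X'' ⟶ U}, IsPullback u' f'' f' u →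
        ((Scheme.Modules.pullback u').map ψ = 0 ↔ ∃ l : U ⟶ Z, l ≫ c = u) := by
  let a := Scheme.Modules.pullbackPushforwardAdjunction f'
  let χ : V ⟶ (Scheme.Modules.pushforward f').obj B := a.homEquiv _ _ (q ≫ ψ)
  obtain ⟨Z, c, hc, hu⟩ := exists_zero_locus hB χ
  refine ⟨Z, c, hc, fun {U X''} u {u' f''} H' => ?_⟩
  rw [hu U u]
  have hb := hbc H'
  have : (Scheme.Modules.pullback u').IsLeftAdjoint := ⟨_, ⟨Scheme.Modules.pullbackPushforwardAdjunction u'⟩⟩
  let a' := Scheme.Modules.pullbackPushforwardAdjunction f''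
  have key : (a'.homEquiv _ _).symm ((Scheme.Modules.pullback u).map χ ≫ CohBC.bc0 f' u f'' u' H'.w B) =
      (CohCmpLib.sqIso H'.w).hom.app V ≫ (Scheme.Modules.pullback u').map q ≫ (Scheme.Modules.pullback u').map ψ := by
    rw [Adjunction.homEquiv_counit, Functor.map_comp, Category.assoc, CohCmpLib.bc0_counit H'.w]
    refine ((Category.assoc _ _ _).symm.trans (congrArg (· ≫ (Scheme.Modules.pullback u').map (a.counit.app B))
      ((CohCmpLib.sqIso H'.w).hom.naturality χ))).trans ((Category.assoc _ _ _).trans ?_)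
    refine congrArg ((CohCmpLib.sqIso H'.w).hom.app V ≫ ·) ?_
    change (Scheme.Modules.pullback u').map ((Scheme.Modules.pullback f').map χ) ≫ _ = _
    rw [← Functor.map_comp, ← Functor.map_comp]
    exact congrArg _ ((a.homEquiv_counit _ _ _).symm.trans ((a.homEquiv _ _).symm_apply_apply _))
  have hzero : (a'.homEquiv _ _).symm (0 : (Scheme.Modules.pullback u).obj V ⟶
      (Scheme.Modules.pushforward f'').obj ((Scheme.Modules.pullback u').obj B)) = 0 := by
    rw [Adjunction.homEquiv_counit, Functor.map_zero, zero_comp]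
  constructor
  · intro h
    rw [← cancel_mono (CohBC.bc0 f' u f'' u' H'.w B), zero_comp]
    refine (a'.homEquiv _ _).symm.injective ?_
    rw [key, hzero, h, comp_zero, comp_zero]
  · intro h
    rw [← cancel_epi ((Scheme.Modules.pullback u').map q),
      ← cancel_epi ((CohCmpLib.sqIso H'.w).hom.app V), ← key, h, zero_comp, hzero, comp_zero, comp_zero]

/-- **The vanishing locus of a homomorphism into a flat family is closed**, with its scheme structure. -/
theorem exists_homZero [IsNoetherian S] [IsProper f] [LocallyOfFinitePresentation f] (L : X.Modules) (hL : PicF.IsInvertible L)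
    (ha : ∀ W : S.Opens, IsAffineOpen W → CohB1.IsAmple (L.restrict (f ⁻¹ᵁ W).ι))
    (E F : X.Modules) (hE : Coh.IsCoh E) (hF : Coh.IsCoh F) (hFl : FlatMod.IsFlatOver f F)
    {T X' : Scheme.{u}} {g : T ⟶ S} {f' : X' ⟶ T} {g' : X' ⟶ X} (H : IsPullback g' f' f g)
    (ψ : (Scheme.Modules.pullback g').obj E ⟶ (Scheme.Modules.pullback g').obj F) :
    ∃ (Z : Scheme.{u}) (c : Z ⟶ T), IsClosedImmersion c ∧
      ∀ {U X'' : Scheme.{u}} (u : U ⟶ T) {u' : X'' ⟶ X'} {f'' : X'' ⟶ U}, IsPullback u' f'' f' u →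
        ((Scheme.Modules.pullback u').map ψ = 0 ↔ ∃ l : U ⟶ Z, l ≫ c = u) := by
  haveI : IsLocallyNoetherian X := LocallyOfFiniteType.isLocallyNoetherian f
  haveI : CompactSpace X := QuasiCompact.compactSpace_of_compactSpace f
  haveI := hE.1
  haveI := hF.1
  haveI : HasInjectiveResolutions X.Modules := inferInstance
  obtain ⟨n₁, -, hn₁⟩ := MiscFlat6.exists_counit_epi_twist f ⟨inferInstance, fun V => ha V.1 V.2⟩ E hE
  obtain ⟨n₂, hn₂⟩ := PnCohLib.exists_push_finLocFree f L hL ha F hF hFl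
  obtain ⟨n₃, hn₃⟩ := SerreVanLib.exists_vanishing_rpush f L hL ha F hF
  let n := n₁ + n₂ + n₃
  let Ln := CohB1.tensorPow L n
  have hLn : PicF.IsInvertible Ln := AmpleThLib.tensorPow_isInvertible hL n
  have hFn : Coh.IsCoh (CohB1.tensorMod F Ln) := SerreVanLib.isCoh_tensor hF hLn
  have hFnfp : CohB1.IsFP (CohB1.tensorMod F Ln) := QCohLib.isFP_of_isCoh _ hFn
  have hFnfl : FlatMod.IsFlatOver f (CohB1.tensorMod F Ln) := PnCohLib.isFlatOver_tensor f hFl hLn
  haveI := hFn.1
  have hvan : ∀ s : S, Subsingleton (CohIII.fiberH f (CohB1.tensorMod F Ln) s 1) := fun s =>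
    subsingleton_fiberH_of_rpush_above hFnfp hFnfl (fun i hi => by
      obtain ⟨e⟩ := RpushLib.nonempty_toAb_rpush_iso f (CohB1.tensorMod F Ln) i
      have hz : IsZero ((QCohLib.toAbF S).obj ((Coh.Rpush f i).obj (CohB1.tensorMod F Ln))) :=
        (hn₃ n (by omega) i hi).of_iso e
      rw [IsZero.iff_id_eq_zero] at hz ⊢
      exact (QCohLib.toAbF S).map_injective (by rw [Functor.map_zero]; exact ((QCohLib.toAbF S).map_id _).trans hz)) s 1 le_rfl
  haveI : IsProper f' := MorphismProperty.of_isPullback H inferInstance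
  haveI : LocallyOfFinitePresentation f' := MorphismProperty.of_isPullback H inferInstance
  let E' := (Scheme.Modules.pullback g').obj E
  let F' := (Scheme.Modules.pullback g').obj F
  let L' := (Scheme.Modules.pullback g').obj Ln
  have hL' : PicF.IsInvertible L' := AmpleDevLib.isInvertible_pb g' hLn
  let A := (Scheme.Modules.pullback g').obj (CohB1.tensorMod E Ln)
  let B := (Scheme.Modules.pullback g').obj (CohB1.tensorMod F Ln)
  have hθ := fun M : X.Modules => KFlatLib.isIso_pullθ g' M Ln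
  let eE : A ≅ (CurvLib.tensorLeft' L').obj E' :=
    @asIso _ _ _ _ (KFlatLib.pullθ g' E Ln) (hθ E) ≪≫ HilbPolyLib.swapIso E' L'
  let eF : B ≅ (CurvLib.tensorLeft' L').obj F' :=
    @asIso _ _ _ _ (KFlatLib.pullθ g' F Ln) (hθ F) ≪≫ HilbPolyLib.swapIso F' L'
  let ψn : A ⟶ B := eE.hom ≫ (CurvLib.tensorLeft' L').map ψ ≫ eF.inv
  let V₀ := (Scheme.Modules.pushforward f).obj (CohB1.tensorMod E Ln)
  let V := (Scheme.Modules.pullback g).obj V₀
  haveI : Coh.IsQCoh (CohB1.tensorMod E Ln) := (SerreVanLib.isCoh_tensor hE hLn).1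
  haveI : Coh.IsQCoh V₀ := QCohLib.isQCoh_pushforward f _
  haveI : Coh.IsQCoh V := KFlatLib.isQCoh_pullback g V₀
  haveI : (Scheme.Modules.pullback g').IsLeftAdjoint := ⟨_, ⟨Scheme.Modules.pullbackPushforwardAdjunction g'⟩⟩
  haveI := hn₁ n (by omega)
  let q : (Scheme.Modules.pullback f').obj V ⟶ A := (CohCmpLib.sqIso H.w).hom.app V₀ ≫
    (Scheme.Modules.pullback g').map ((Scheme.Modules.pullbackPushforwardAdjunction f).counit.app (CohB1.tensorMod E Ln))
  haveI : Epi q := epi_comp _ _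
  have hbc0 : ∀ {U X'' : Scheme.{u}} {w : U ⟶ S} {w' : X'' ⟶ X} {f'' : X'' ⟶ U} (H' : IsPullback w' f'' f w),
      IsIso (CohBC.bc0 f w f'' w' H'.w (CohB1.tensorMod F Ln)) := fun H' =>
    CohCmpLib.isIso_bc0_of_fibre_one hFnfp hFnfl H' fun z => hvan _
  have hB : FlatMod.IsFinLocFree ((Scheme.Modules.pushforward f').obj B) := by
    haveI := hbc0 H
    exact Groth.Agent.PerfLib.isFinLocFree_of_iso (asIso (CohBC.bc0 f g f' g' H.w (CohB1.tensorMod F Ln)))
      (CohCmpLib.isFinLocFree_pb g (hn₂ n (by omega)))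
  obtain ⟨Z, c, hc, hu⟩ := exists_zero_locus_of_gen f' q hB
    (fun H' => isIso_bc0_pulled hFnfp hFnfl hvan H H') ψn
  refine ⟨Z, c, hc, fun {U X''} u {u' f''} H' => ?_⟩
  rw [← hu u H', ← tensor_map_eq_zero_iff (AmpleDevLib.isInvertible_pb u' hL') ((Scheme.Modules.pullback u').map ψ)]
  haveI := KFlatLib.isIso_pullθ u' L' E'
  haveI := KFlatLib.isIso_pullθ u' L' F'
  have hnat : (Scheme.Modules.pullback u').map ((CurvLib.tensorLeft' L').map ψ) ≫ KFlatLib.pullθ u' L' F' =
      KFlatLib.pullθ u' L' E' ≫ (CurvLib.tensorLeft' (pb u' L')).map ((Scheme.Modules.pullback u').map ψ) :=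
    KFlatLib.pullθ_natural_right u' L' ψ
  have h1 : (Scheme.Modules.pullback u').map ψn = (Scheme.Modules.pullback u').map eE.hom ≫
      (Scheme.Modules.pullback u').map ((CurvLib.tensorLeft' L').map ψ) ≫ (Scheme.Modules.pullback u').map eF.inv := by
    simp only [ψn, Functor.map_comp]
  constructor
  · intro h
    rw [h, comp_zero] at hnat
    rw [h1, (zero_of_comp_mono _ hnat : (Scheme.Modules.pullback u').map ((CurvLib.tensorLeft' L').map ψ) = 0),
      zero_comp, comp_zero]
  · intro h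
    rw [h1] at h
    have h' := zero_of_comp_mono _ (zero_of_epi_comp _ h)
    rw [h', zero_comp] at hnat
    exact zero_of_epi_comp _ hnat.symm

end Locus

end QuotSchLib
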