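import Groth.Agent.QuotSchLib.Poly
import Groth.Agent.QuotSchLib.HomZero
import Groth.Agent.CohCmpLib.StratIff
import Groth.Agent.CohCmpLib.StratLoc

/-!
# The rank of the direct image is the value of the Hilbert polynomial at zero
-/

set_option autoImplicit false
set_option linter.style.haveILetI false
set_option maxHeartbeats 1000000
universe u

open CategoryTheory CategoryTheory.Limits AlgebraicGeometry TopologicalSpace
open KFlatLib (pb)

noncomputable section

namespace QuotSchLib

variable {n : ℕ} {S T X' : Scheme.{u}} {g : T ⟶ S} {g' : X' ⟶ CohB1.ProjSpaceOver n S} {f' : X' ⟶ T}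
  (H : IsPullback g' f' (CohB1.ProjSpaceOver.toBase n S) g) [IsLocallyNoetherian T] {M : X'.Modules}
  (hM : Coh.IsCoh M) (hflat : FlatMod.IsFlatOver f' M) (hreg : RegX H M)

include hM hflat hreg

/-- The dimension of the sections on a fibre is the rank of the direct image there. -/
theorem fiberRank_eq_of_free (t : T) {O : T.Opens} {m : ℕ} (hO : t ∈ O)
    (e : Nonempty (((Scheme.Modules.pushforward f').obj M).restrict O.ι ≅ FlatMod.freeMod (↑O) m)) :
    CohIII.fiberRank f' M 0 t = m := by
  haveI := isProper_fam H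
  haveI := lfp_fam H
  haveI := isLocallyNoetherian_fam H
  haveI := hM.1
  haveI : HasInjectiveResolutions X'.Modules := inferInstance
  have hfp := QCohLib.isFP_of_isCoh _ hM
  have hvan : ∀ s : T, Subsingleton (CohIII.fiberH f' M s 1) := fun s => hreg.subsingleton_fiberH H s 1 le_rfl
  let u := T.fromSpecResidueField t
  have HF : IsPullback (f'.fiberι t) (f'.fiberToSpecResidueField t) f' u := IsPullback.of_hasPullback _ _
  have h1 : FlatMod.IsFinLocFreeOfRank m ((Scheme.Modules.pullback u).obj ((Scheme.Modules.pushforward f').obj M)) := by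
    refine (RankLocusLib.isFinLocFreeOfRank_pullback_iff _ u).2 fun z => ⟨u ⁻¹ᵁ O, ?_, ?_⟩
    · show u z ∈ O
      have hzt : u z = t := by
        have hr : u z ∈ Set.range u := ⟨z, rfl⟩
        rw [Scheme.range_fromSpecResidueField] at hr
        exact hr
      rw [hzt]; exact hO
    · rw [← morphismRestrict_ι]
      exact RankLocusLib.freeAlong_comp ((RankLocusLib.freeAlong_restrict_iff _ O).2 e) _
  haveI : IsIso (CohBC.bc0 f' u (f'.fiberToSpecResidueField t) (f'.fiberι t) HF.w M) :=
    famIso_bc0 H hM hflat hreg HF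
  have hsq : CohCmpLib.StratSq M m (f'.fiberToSpecResidueField t) (f'.fiberι t) :=
    ⟨fun z => by
      obtain ⟨U, hU, ⟨i⟩⟩ := h1 z
      exact ⟨U, hU, ⟨(Scheme.Modules.restrictFunctor U.ι).mapIso
        (asIso (CohBC.bc0 f' u (f'.fiberToSpecResidueField t) (f'.fiberι t) HF.w M)).symm ≪≫ i⟩⟩,
    fun X'' T' v' f'' u' h => isIso_bc0_pulled hfp hflat hvan HF h⟩
  obtain ⟨z⟩ : Nonempty (Spec (T.residueField t)) := inferInstance
  obtain ⟨W, hW, K, U, hle, hzU, hfree⟩ := CohCmpLib.stratLocal_of_stratSq hfp hflat HF hsq z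
  have hr := K.fiberRank_of_free hW hfree hzU
  have hzt : u z = t := by
    have hr : u z ∈ Set.range u := ⟨z, rfl⟩
    rw [Scheme.range_fromSpecResidueField] at hr
    exact hr
  rwa [hzt] at hr

/-- **The rank of the direct image** is `Φ 0`. -/
theorem famPush_rank {Φ : Polynomial ℚ} (hP : PolyX H M Φ) :
    FlatMod.IsFinLocFreeOfRank ⌊Φ.eval 0⌋.toNat ((Scheme.Modules.pushforward f').obj M) := by
  intro t
  haveI := isProper_fam H
  haveI := lfp_fam H
  haveI := isLocallyNoetherian_fam H
  haveI := hM.1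
  obtain ⟨O, m, hO, e⟩ := CohCmpLib.exists_push_free_of_fibre_one (QCohLib.isFP_of_isCoh _ hM) hflat t
    (hreg.subsingleton_fiberH H t 1 le_rfl)
  suffices m = ⌊Φ.eval 0⌋.toNat by exact ⟨O, hO, this ▸ e⟩
  have hm := fiberRank_eq_of_free H hM hflat hreg t hO e
  letI : (f'.fiber t).Over (Spec (CommRingCat.of (T.residueField t))) := ⟨f'.fiberToSpecResidueField t⟩
  obtain ⟨e₀⟩ := PicPnLib.twistOver_zero n S
  let L := Coh.structureModule (f'.fiber t)
  let eL : L ≅ pb (f'.fiberι t) (pb g' (Twist.twistOver n S 0)) :=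
    (KFlatLib.pullUnitIso _).symm ≪≫ (Scheme.Modules.pullback (f'.fiberι t)).mapIso
      ((KFlatLib.pullUnitIso g').symm ≪≫ (Scheme.Modules.pullback g').mapIso e₀.symm)
  have h := eulerCharLE_model H t (a := f'.fiberι t) (IsPullback.of_hasPullback _ _) hM eL
  have h2 := hP t 0
  rw [← h] at h2
  have h3 : FGA.eulerCharLE (T.residueField t) (f'.fiber t) (CohB1.tensorMod (pb (f'.fiberι t) M) L) n =
      (CohIII.fiberRank f' M 0 t : ℤ) := by
    haveI := KFlatLib.isQCoh_pullback (f'.fiberι t) M
    unfold FGA.eulerCharLE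
    rw [Finset.sum_eq_single 0]
    · rw [pow_zero, one_mul]
      exact congrArg Nat.cast (CurvLib.hIso (k := T.residueField t) (PicPnLib.unitRight _) 0).finrank_eq
    · intro i _ hi
      haveI := SerreVanLib.subsingleton_HH_of_iso (PicPnLib.unitRight (pb (f'.fiberι t) M)) i
        (hreg.subsingleton_fiberH H t i (Nat.one_le_iff_ne_zero.2 hi))
      rw [Module.finrank_zero_of_subsingleton]
      simp
    · simp
  rw [h3, hm, Int.cast_zero] at h2
  rw [← h2]
  simp

end QuotSchLib
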