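import Groth.Agent.QuotSchLib.Poly
import Groth.Agent.VBResLib.GGen
import Groth.Agent.S4407
import Groth.Prelude.Def_FGA
import Groth.Prelude.Def_GrassD

/-!
# Generators of the direct image of `O(ν)^p`
-/

set_option autoImplicit false
set_option linter.style.haveILetI false
set_option maxHeartbeats 1000000
universe u

open CategoryTheory CategoryTheory.Limits AlgebraicGeometry TopologicalSpace
open KFlatLib (pb)

noncomputable section

namespace QuotSchLib

variable {n : ℕ}

theorem projMap_fst {T S : Scheme.{u}} (φ : T ⟶ S) :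
    FGA.projMap n φ ≫ pullback.fst (CohB1.ProjSpace.toSpec n (ULift.{u} ℤ)) (specULiftZIsTerminal.from S) =
      pullback.fst _ _ := by
  simp only [FGA.projMap, pullback.map]
  exact (pullback.lift_fst _ _ _).trans (Category.comp_id _)

theorem isPullback_projMap {T S : Scheme.{u}} (φ : T ⟶ S) :
    IsPullback (FGA.projMap n φ) (CohB1.ProjSpaceOver.toBase n T) (CohB1.ProjSpaceOver.toBase n S) φ := by
  refine IsPullback.of_right ?_ ?_ (IsPullback.of_hasPullback _ _)
  · rw [projMap_fst, specULiftZIsTerminal.hom_ext (φ ≫ _) (specULiftZIsTerminal.from T)]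
    exact IsPullback.of_hasPullback _ _
  · simp only [FGA.projMap, pullback.map]
    exact pullback.lift_snd _ _ _

theorem nonempty_projMap_twist {T S : Scheme.{u}} (φ : T ⟶ S) (d : ℤ) :
    Nonempty (pb (FGA.projMap n φ) (Twist.twistOver n S d) ≅ Twist.twistOver n T d) :=
  ⟨(Scheme.Modules.pullbackComp _ _).app _ ≪≫ (Scheme.Modules.pullbackCongr (projMap_fst φ)).app _⟩

theorem nonempty_projMap_srcOver {T S : Scheme.{u}} (φ : T ⟶ S) (p : ℕ) (ν : ℤ) :
    Nonempty (pb (FGA.projMap n φ) (srcOver S n p ν) ≅ srcOver T n p ν) := by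
  obtain ⟨e⟩ := nonempty_projMap_twist (n := n) φ ν
  have hθ := KFlatLib.isIso_pullθ (FGA.projMap n φ) (Twist.twistOver n S ν) (FlatMod.freeMod (CohB1.ProjSpaceOver n S) p)
  exact ⟨@asIso _ _ _ _ (KFlatLib.pullθ (FGA.projMap n φ) _ _) hθ ≪≫
    PicGrp.tensorModIso e (KFlatLib.pullFreeIso (FGA.projMap n φ) p)⟩

section Fam

variable {S T X' : Scheme.{u}} {g : T ⟶ S} {g' : X' ⟶ CohB1.ProjSpaceOver n S} {f' : X' ⟶ T}
  (H : IsPullback g' f' (CohB1.ProjSpaceOver.toBase n S) g)

/-- `O(ν)^p` is regular in every family once `ν ≥ 0`. -/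
theorem regX_srcX (p : ℕ) (ν : ℤ) (hν : 0 ≤ ν) : RegX H (pb g' (srcOver S n p ν)) := fun t => by
  obtain ⟨e⟩ := nonempty_fJ_srcX H p ν t
  refine regular_congr e.symm fun i hi hin => ?_
  let k := T.residueField t
  obtain ⟨e₂⟩ := PicPnLib.twist_add n k ν (0 - i)
  let ec : CohB1.tensorMod (srcMod k n p ν) (Twist.twistProjSpace n k (0 - i)) ≅
      CohB1.tensorMod (Twist.twistProjSpace n k (ν + (0 - i))) (FlatMod.freeMod (CohB1.ProjSpace n k) p) :=
    HilbPolyLib.assocIso _ _ _ ≪≫ HilbPolyLib.congrRight _ (HilbPolyLib.swapIso _ _) ≪≫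
      (HilbPolyLib.assocIso _ _ _).symm ≪≫ HilbPolyLib.congrLeft e₂ _
  exact SerreVanLib.subsingleton_HH_of_iso ec i (PnCohLib.subsingleton_HH_tensor_free _ i
    (PnCohLib.subsingleton_HH_twist _ i (fun h => by omega) (fun h => by omega)) p)

/-- The evaluation of a family, read on the inverse image of `E`. -/
def evX {E : S.Modules} {G : (CohB1.ProjSpaceOver n S).Modules}
    (ev : (Scheme.Modules.pullback (CohB1.ProjSpaceOver.toBase n S)).obj E ⟶ G) :
    (Scheme.Modules.pullback g).obj E ⟶ (Scheme.Modules.pushforward f').obj (pb g' G) :=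
  (Scheme.Modules.pullbackPushforwardAdjunction f').homEquiv _ _
    ((CohCmpLib.sqIso H.w).hom.app E ≫ (Scheme.Modules.pullback g').map ev)

theorem evX_eq {E : S.Modules} {G : (CohB1.ProjSpaceOver n S).Modules}
    (ev : (Scheme.Modules.pullback (CohB1.ProjSpaceOver.toBase n S)).obj E ⟶ G) :
    evX H ev = (Scheme.Modules.pullback g).map
      ((Scheme.Modules.pullbackPushforwardAdjunction (CohB1.ProjSpaceOver.toBase n S)).homEquiv _ _ ev) ≫
        CohBC.bc0 (CohB1.ProjSpaceOver.toBase n S) g f' g' H.w G := by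
  let a := Scheme.Modules.pullbackPushforwardAdjunction (CohB1.ProjSpaceOver.toBase n S)
  refine ((Scheme.Modules.pullbackPushforwardAdjunction f').homEquiv _ _).symm.injective ?_
  rw [evX, Equiv.symm_apply_apply, Adjunction.homEquiv_counit, Functor.map_comp, Category.assoc,
    CohCmpLib.bc0_counit H.w]
  refine (Eq.trans ?_ (Category.assoc _ _ _))
  refine (Eq.trans ?_ (congrArg (· ≫ _) ((CohCmpLib.sqIso H.w).hom.naturality _).symm))
  refine (Eq.trans ?_ (Category.assoc _ _ _).symm)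
  refine congrArg ((CohCmpLib.sqIso H.w).hom.app E ≫ ·) ?_
  change _ = (Scheme.Modules.pullback g').map ((Scheme.Modules.pullback _).map _) ≫ _
  rw [← Functor.map_comp]
  exact congrArg _ (((a.homEquiv _ _).symm_apply_apply ev).symm.trans (a.homEquiv_counit _ _ _))

end Fam

/-- The structure map to `Spec ℤ`. -/
abbrev toZ (S : Scheme.{u}) : S ⟶ Spec (CommRingCat.of (ULift.{u} ℤ)) := specULiftZIsTerminal.from S

theorem exists_ev (n p : ℕ) (ν : ℤ) (hν : 0 ≤ ν) (S : Scheme.{u}) [IsLocallyNoetherian S] :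
    ∃ (N : ℕ) (ev : (Scheme.Modules.pullback (CohB1.ProjSpaceOver.toBase n S)).obj (FlatMod.freeMod S N) ⟶
        srcOver S n p ν),
      ∀ {T X' : Scheme.{u}} [IsLocallyNoetherian T] {g : T ⟶ S} {g' : X' ⟶ CohB1.ProjSpaceOver n S} {f' : X' ⟶ T}
        (H : IsPullback g' f' (CohB1.ProjSpaceOver.toBase n S) g), Epi (evX H ev) := by
  let Z : Scheme.{u} := Spec (CommRingCat.of (ULift.{u} ℤ))
  haveI : IsNoetherianRing (ULift.{u} ℤ) := isNoetherianRing_of_ringEquiv ℤ ULift.ringEquiv.symm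
  let π₀ := CohB1.ProjSpaceOver.toBase n Z
  have H₀ : IsPullback (𝟙 _) π₀ π₀ (𝟙 Z) := IsPullback.id_horiz π₀
  let G₀ := srcOver Z n p ν
  have eG₀ : pb (𝟙 _) G₀ ≅ G₀ := (Scheme.Modules.pullbackId _).app G₀
  have hV : FlatMod.IsFinLocFree ((Scheme.Modules.pushforward π₀).obj G₀) :=
    Groth.Agent.PerfLib.isFinLocFree_of_iso ((Scheme.Modules.pushforward π₀).mapIso eG₀)
      (famPush_finLocFree H₀ (isCoh_srcX H₀ p ν) (isFlatOver_srcX H₀ p ν) (regX_srcX H₀ p ν hν))
  have hVc := LocSuppLib.isCoh_of_isFinLocFree hV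
  obtain ⟨N, q, hq⟩ := VBResLib.exists_epi_free_of_gg hVc (Groth.Agent.S4407.result Z _ hVc.1)
  let c := FGA.projMap n (toZ S)
  have Hc : IsPullback c (CohB1.ProjSpaceOver.toBase n S) π₀ (toZ S) := isPullback_projMap _
  have hbc : IsIso (CohBC.bc0 π₀ (toZ S) (CohB1.ProjSpaceOver.toBase n S) c Hc.w G₀) := by
    haveI := (isCoh_srcOver (T := Z) n p ν).1
    haveI : IsProper π₀ := ChowLib.isProper_toBase n Z
    haveI := RichLib.FibreLoci.lfp_toBase n Z
    haveI : HasInjectiveResolutions (CohB1.ProjSpaceOver n Z).Modules := inferInstance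
    haveI := isLocallyNoetherian_projSpaceOver n Z
    refine CohCmpLib.isIso_bc0_of_fibre_one (QCohLib.isFP_of_isCoh _ (isCoh_srcOver (T := Z) n p ν))
      (isFlatOver_srcOver n p ν) Hc fun z => ?_
    have hr := regX_srcX H₀ p ν hν
    have hM := isCoh_srcX H₀ p ν
    haveI := hM.1
    exact SerreVanLib.subsingleton_HH_of_iso ((Scheme.Modules.pullback _).mapIso eG₀).symm 1
      (hr.subsingleton_fiberH H₀ (toZ S z) 1 le_rfl)
  obtain ⟨eG⟩ := nonempty_projMap_srcOver (n := n) (toZ S) p ν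
  let π := CohB1.ProjSpaceOver.toBase n S
  let χ : FlatMod.freeMod S N ⟶ (Scheme.Modules.pushforward π).obj (srcOver S n p ν) :=
    (KFlatLib.pullFreeIso (toZ S) N).inv ≫ (Scheme.Modules.pullback (toZ S)).map q ≫
      CohBC.bc0 π₀ (toZ S) π c Hc.w G₀ ≫ (Scheme.Modules.pushforward π).map eG.hom
  haveI : Epi ((Scheme.Modules.pullback (toZ S)).map q) :=
    haveI := hq; Grass.epi_pullback_map (toZ S) q
  haveI : Epi χ := by
    haveI := hbc
    haveI : IsIso ((Scheme.Modules.pushforward π).map eG.hom) := inferInstance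
    exact epi_comp _ _
  refine ⟨N, ((Scheme.Modules.pullbackPushforwardAdjunction π).homEquiv _ _).symm χ, fun {T X'} _ {g g' f'} H => ?_⟩
  rw [evX_eq, Equiv.apply_symm_apply]
  haveI : Epi ((Scheme.Modules.pullback g).map χ) := Grass.epi_pullback_map g χ
  have HS : IsPullback (𝟙 _) π π (𝟙 S) := IsPullback.id_horiz π
  haveI : IsIso (CohBC.bc0 π g f' g' H.w (srcOver S n p ν)) := by
    haveI := (isCoh_srcOver (T := S) n p ν).1
    haveI : IsProper π := ChowLib.isProper_toBase n S
    haveI := RichLib.FibreLoci.lfp_toBase n S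
    haveI : HasInjectiveResolutions (CohB1.ProjSpaceOver n S).Modules := inferInstance
    haveI := isLocallyNoetherian_projSpaceOver n S
    refine CohCmpLib.isIso_bc0_of_fibre_one (QCohLib.isFP_of_isCoh _ (isCoh_srcOver (T := S) n p ν))
      (isFlatOver_srcOver n p ν) H fun z => ?_
    have hr := regX_srcX HS p ν hν
    haveI := (isCoh_srcX HS p ν).1
    exact SerreVanLib.subsingleton_HH_of_iso
      ((Scheme.Modules.pullback _).mapIso ((Scheme.Modules.pullbackId _).app (srcOver S n p ν))).symm 1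
      (hr.subsingleton_fiberH HS (g z) 1 le_rfl)
  exact epi_comp _ _

end QuotSchLib
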