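import Groth.Agent.QuotSchLib.Poly
import Groth.Agent.QuotSchLib.Gen
import Groth.Agent.StratLib.Hilbert

/-!
# The flattening stratum with a given Hilbert polynomial
-/

set_option autoImplicit false
set_option linter.style.haveILetI false
set_option maxHeartbeats 1000000
universe u

open CategoryTheory CategoryTheory.Limits AlgebraicGeometry TopologicalSpace
open KFlatLib (pb)

noncomputable section

namespace QuotSchLib

variable {n : ℕ} {S : Scheme.{u}} [AlgebraicGeometry.IsNoetherian S]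

theorem chi_strat_eq {C : (CohB1.ProjSpaceOver n S).Modules} (hC : Coh.IsCoh C) (s : (Over.mk (𝟙 S)).left) (m : ℤ) :
    StratLib.chi C s m = MumfordLib.chi (S.residueField s)
      (pb (fJ (IsPullback.id_horiz (CohB1.ProjSpaceOver.toBase n S)) (show S from s)) C) m := by
  let π := CohB1.ProjSpaceOver.toBase n S
  let Z := FGA.fibreAt π (Over.mk (𝟙 S)) s
  let a := StratLib.fibreHom (n := n) s
  letI : Z.left.Over (Spec (CommRingCat.of (S.residueField s))) := ⟨Z.hom⟩
  let eL : pb a (Twist.twistOver n S m) ≅ pb a (pb (𝟙 _) (Twist.twistOver n S m)) :=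
    (Scheme.Modules.pullback a).mapIso ((Scheme.Modules.pullbackId _).app _).symm
  have h := eulerCharLE_model (IsPullback.id_horiz π) (show S from s) (a := a) (StratLib.isPullback_fibreHom s) hC eL
  rw [← h]
  let e : CohB1.tensorMod
      (FGA.restrFibre π (Over.mk (𝟙 S)) s (FGA.ET π C (Over.mk (𝟙 S))))
      (FGA.restrFibre π (Over.mk (𝟙 S)) s (FGA.ET π (Twist.twistOver n S m) (Over.mk (𝟙 S)))) ≅
      CohB1.tensorMod (pb a C) (pb a (Twist.twistOver n S m)) :=
    PicGrp.tensorModIso ((Scheme.Modules.pullbackComp _ _).app C) ((Scheme.Modules.pullbackComp _ _).app _)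
  unfold StratLib.chi FGA.eulerCharLE
  exact Finset.sum_congr rfl fun j _ => congrArg (fun d : ℕ => (-1 : ℤ) ^ j * (d : ℤ))
    (StratLib.nonempty_HH_congr (K := S.residueField s) Z.hom e j).some.finrank_eq

/-- **The stratum of a given Hilbert polynomial**: it represents flatness with that polynomial. -/
theorem exists_stratum {C : (CohB1.ProjSpaceOver n S).Modules} (hC : Coh.IsCoh C) (Φ : Polynomial ℚ) :
    ∃ (Z : Scheme.{u}) (e : Z ⟶ S), IsImmersion e ∧
      ∀ (T : Scheme.{u}) [IsLocallyNoetherian T] (φ : T ⟶ S),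
        (FlatMod.IsFlatOver (CohB1.ProjSpaceOver.toBase n T) (pb (FGA.projMap n φ) C) ∧
            PolyX (isPullback_projMap φ) (pb (FGA.projMap n φ) C) Φ) ↔ ∃ g : T ⟶ Z, g ≫ e = φ := by
  classical
  obtain ⟨I, St, e, himm, hrange, -, huniv, -⟩ := StratLib.exists_hilb C hC
  let π := CohB1.ProjSpaceOver.toBase n S
  have hchi : ∀ (T : Scheme.{u}) (φ : T ⟶ S) (t : T) (m : ℤ),
      MumfordLib.chi (T.residueField t) (pb (fJ (isPullback_projMap φ) t) (pb (FGA.projMap n φ) C)) m =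
        StratLib.chi C (φ t) m := fun T φ t m => by
    rw [chi_strat_eq hC]
    have hsq : ∀ (a : CohB1.ProjSpaceOver n T ⟶ CohB1.ProjSpaceOver n S) (b : T ⟶ S)
        (h₂ : IsPullback a (CohB1.ProjSpaceOver.toBase n T) π b) (_ : FGA.projMap n φ = a) (_ : φ = b),
        MumfordLib.chi (T.residueField t) (pb (fJ (isPullback_projMap φ) t) (pb (FGA.projMap n φ) C)) m =
          MumfordLib.chi (T.residueField t) (pb (fJ h₂ t) (pb (FGA.projMap n φ) C)) m := by
      rintro a b h₂ rfl rfl; rfl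
    rw [hsq _ _ ((isPullback_projMap φ).paste_horiz (IsPullback.id_horiz π)) (Category.comp_id _).symm
      (Category.comp_id _).symm]
    exact chi_fJ_paste (IsPullback.id_horiz π) (isPullback_projMap φ) C hC t m
  have hpt : ∀ (T : Scheme.{u}) [IsLocallyNoetherian T] (φ : T ⟶ S) (g : T ⟶ ∐ St),
      g ≫ Limits.Sigma.desc e = φ → ∀ t : T, ∃ P : ↥I, g t ∈ Set.range (Limits.Sigma.ι St P) ∧
        ∀ m : ℤ, (StratLib.chi C (φ t) m : ℚ) = (P : Polynomial ℚ).eval (m : ℚ) := fun T _ φ g hg t => by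
    obtain ⟨P, x, hx⟩ := (sigmaOpenCover St).exists_eq (g t)
    refine ⟨P, ⟨x, hx⟩, (hrange P (φ t)).1 ⟨x, ?_⟩⟩
    rw [← hg, Scheme.Hom.comp_apply, ← hx, ← Scheme.Hom.comp_apply]
    exact congrArg (fun f : St P ⟶ S => f x) (Limits.Sigma.ι_desc e P).symm
  by_cases hΦ : Φ ∈ I
  · refine ⟨St ⟨Φ, hΦ⟩, e _, himm _, fun T _ φ => ⟨?_, ?_⟩⟩
    · rintro ⟨hfl, hP⟩
      obtain ⟨g, hg⟩ := (huniv T φ).1 hfl
      haveI : IsOpenImmersion (Limits.Sigma.ι St ⟨Φ, hΦ⟩) := inferInstance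
      have hr : Set.range g ⊆ Set.range (Limits.Sigma.ι St ⟨Φ, hΦ⟩) := by
        rintro _ ⟨t, rfl⟩
        obtain ⟨P, hPr, hPm⟩ := hpt T φ g hg t
        suffices P = ⟨Φ, hΦ⟩ from this ▸ hPr
        refine Subtype.ext (StratLib.eq_of_eval_int fun m => ?_)
        rw [← hPm m, ← hchi T φ t m]
        exact hP t m
      refine ⟨IsOpenImmersion.lift _ g hr, ?_⟩
      rw [← Limits.Sigma.ι_desc e ⟨Φ, hΦ⟩, ← Category.assoc, IsOpenImmersion.lift_fac, hg]
    · rintro ⟨g, rfl⟩
      refine ⟨(huniv T _).2 ⟨g ≫ Limits.Sigma.ι St ⟨Φ, hΦ⟩, by rw [Category.assoc, Limits.Sigma.ι_desc]⟩,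
        fun t m => ?_⟩
      rw [hchi T _ t m]
      exact (hrange ⟨Φ, hΦ⟩ _).1 ⟨g t, (Scheme.Hom.comp_apply g _ t).symm⟩ m
  · refine ⟨⊥_ Scheme.{u}, initial.to S, inferInstance, fun T _ φ => ⟨?_, ?_⟩⟩
    · rintro ⟨hfl, hP⟩
      obtain ⟨g, hg⟩ := (huniv T φ).1 hfl
      haveI : IsEmpty T := ⟨fun t => by
        obtain ⟨P, -, hPm⟩ := hpt T φ g hg t
        refine hΦ ?_
        convert P.2 using 1
        refine StratLib.eq_of_eval_int fun m => ?_
        rw [← hPm m, ← hchi T φ t m]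
        exact (hP t m).symm⟩
      exact ⟨(isInitialOfIsEmpty (X := T)).to _, (isInitialOfIsEmpty (X := T)).hom_ext _ _⟩
    · rintro ⟨g, rfl⟩
      haveI : IsEmpty (⊥_ Scheme.{u} : Scheme.{u}) := by infer_instance
      haveI : IsEmpty T := Function.isEmpty g
      haveI : IsEmpty (CohB1.ProjSpaceOver n T) := Function.isEmpty (CohB1.ProjSpaceOver.toBase n T)
      exact ⟨fun x => (IsEmpty.false x).elim, fun t => (IsEmpty.false t).elim⟩

end QuotSchLib
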