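import Groth.Agent.QuotSchLib.EvPaste
import Groth.Agent.QuotSchLib.Rank
import Groth.Agent.QuotSchLib.QuotBC
import Groth.Agent.QuotSchLib.Strat
import Groth.Agent.QuotSchLib.ZeroLocus
import Mathlib.CategoryTheory.Abelian.Refinements

/-!
# The scheme of quotients in the stable range
-/

set_option autoImplicit false
set_option linter.style.haveILetI false
set_option maxHeartbeats 1000000
universe u

open CategoryTheory CategoryTheory.Limits AlgebraicGeometry TopologicalSpace
open KFlatLib (pb)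

noncomputable section

namespace QuotSchLib

/-- Grassmannians of free modules exist over `S`, and are closed in a projective space. -/
def GrassOK (S : Scheme.{u}) : Prop :=
  ∀ N r : ℕ, ∃ (G : Scheme.{u}) (π : G ⟶ S) (Q : G.Modules)
    (q : (Scheme.Modules.pullback π).obj (FlatMod.freeMod S N) ⟶ Q),
    Grass.IsGrass π (FlatMod.freeMod S N) r Q q ∧ IsProper π ∧
      ∃ (m : ℕ) (c : G ⟶ CohB1.ProjSpaceOver m S), IsClosedImmersion c ∧ c ≫ CohB1.ProjSpaceOver.toBase m S = π

variable {n : ℕ} {S : Scheme.{u}}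

/-- `u` pulls the quotient `φQ` on `P^n_Q` back to the quotient `φ` of the family. -/
def Classifies {G : (CohB1.ProjSpaceOver n S).Modules} {Q : Scheme.{u}} {gQ : Q ⟶ S}
    {FQ : (CohB1.ProjSpaceOver n Q).Modules} (φQ : pb (FGA.projMap n gQ) G ⟶ FQ) {T X' : Scheme.{u}} (g : T ⟶ S)
    (g' : X' ⟶ CohB1.ProjSpaceOver n S) (f' : X' ⟶ T) {F : X'.Modules} (φ : pb g' G ⟶ F) (u : T ⟶ Q) : Prop :=
  ∃ (_ : u ≫ gQ = g) (v : X' ⟶ CohB1.ProjSpaceOver n Q) (hv : v ≫ FGA.projMap n gQ = g')
    (_ : v ≫ CohB1.ProjSpaceOver.toBase n Q = f' ≫ u) (e : pb v FQ ≅ F), Grass.quotBC hv φQ ≫ e.hom = φ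

theorem projMap_comp {T U : Scheme.{u}} (a : U ⟶ T) (b : T ⟶ S) :
    FGA.projMap n a ≫ FGA.projMap n b = FGA.projMap n (a ≫ b) := by
  apply pullback.hom_ext
  · exact (Category.assoc _ _ _).trans ((congrArg (FGA.projMap n a ≫ ·) (projMap_fst b)).trans
      ((projMap_fst a).trans (projMap_fst (a ≫ b)).symm))
  · refine (Category.assoc _ _ _).trans ((congrArg (FGA.projMap n a ≫ ·) (isPullback_projMap b).w).trans ?_)
    refine ((Category.assoc _ _ _).symm.trans (congrArg (· ≫ b) (isPullback_projMap a).w)).trans ?_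
    exact (Category.assoc _ _ _).trans (isPullback_projMap (a ≫ b)).w.symm

/-- Fibre polynomials do not depend on the base the family is pulled back from. -/
theorem polyX_base {S₂ T X' : Scheme.{u}} {g : T ⟶ S} {g' : X' ⟶ CohB1.ProjSpaceOver n S} {f' : X' ⟶ T}
    (H : IsPullback g' f' (CohB1.ProjSpaceOver.toBase n S) g) {g₂ : T ⟶ S₂} {g₂' : X' ⟶ CohB1.ProjSpaceOver n S₂}
    (H₂ : IsPullback g₂' f' (CohB1.ProjSpaceOver.toBase n S₂) g₂)
    (htw : ∀ d : ℤ, Nonempty (pb g' (Twist.twistOver n S d) ≅ pb g₂' (Twist.twistOver n S₂ d)))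
    {M : X'.Modules} (hM : Coh.IsCoh M) {Φ : Polynomial ℚ} (h : PolyX H M Φ) : PolyX H₂ M Φ := fun t m => by
  rw [← h t m]
  refine congrArg (fun a : ℤ => (a : ℚ)) ?_
  obtain ⟨e⟩ := nonempty_fJ_twist H₂ t m
  obtain ⟨e'⟩ := htw m
  exact eulerCharLE_model H t (Z := CohB1.ProjSpace n (T.residueField t)) (a := fJ H₂ t) (isPullback_fJ H₂ t) hM
    (e.symm ≪≫ (Scheme.Modules.pullback (fJ H₂ t)).mapIso e'.symm)

section Key

variable {p : ℕ} {ν : ℤ} {Φ : Polynomial ℚ} {N : ℕ}
  (ev : (Scheme.Modules.pullback (CohB1.ProjSpaceOver.toBase n S)).obj (FlatMod.freeMod S N) ⟶ srcOver S n p ν)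
  {Gr : Scheme.{u}} (πG : Gr ⟶ S) {Qu : Gr.Modules}
  (qu : (Scheme.Modules.pullback πG).obj (FlatMod.freeMod S N) ⟶ Qu)

/-- The relations over the Grassmannian. -/
def rel : (Scheme.Modules.pullback (CohB1.ProjSpaceOver.toBase n Gr)).obj (kernel qu) ⟶
    pb (FGA.projMap n πG) (srcOver S n p ν) :=
  ((Scheme.Modules.pullbackPushforwardAdjunction (CohB1.ProjSpaceOver.toBase n Gr)).homEquiv _ _).symm
    (kernel.ι qu ≫ evX (isPullback_projMap πG) ev)

variable {T X' : Scheme.{u}} {g : T ⟶ S} {g' : X' ⟶ CohB1.ProjSpaceOver n S} {f' : X' ⟶ T}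
  (H : IsPullback g' f' (CohB1.ProjSpaceOver.toBase n S) g) {h : T ⟶ Gr} (hg : h ≫ πG = g)
  {v : X' ⟶ CohB1.ProjSpaceOver n Gr} (hv : v ≫ FGA.projMap n πG = g')
  (Hh : IsPullback v f' (CohB1.ProjSpaceOver.toBase n Gr) h)

/-- The canonical identification of the pulled back sources. -/
abbrev cG : pb v (pb (FGA.projMap n πG) (srcOver S n p ν)) ≅ pb g' (srcOver S n p ν) :=
  (Scheme.Modules.pullbackComp v (FGA.projMap n πG)).app _ ≪≫ (Scheme.Modules.pullbackCongr hv).app _

/-- The canonical identification of the pulled back free modules. -/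
abbrev cE : (Scheme.Modules.pullback h).obj ((Scheme.Modules.pullback πG).obj (FlatMod.freeMod S N)) ≅
    (Scheme.Modules.pullback g).obj (FlatMod.freeMod S N) :=
  (Scheme.Modules.pullbackComp h πG).app _ ≪≫ (Scheme.Modules.pullbackCongr hg).app _

include Hh in
theorem rel_adjunct :
    (Scheme.Modules.pullbackPushforwardAdjunction f').homEquiv _ _
      ((CohCmpLib.sqIso Hh.w).hom.app (kernel qu) ≫ (Scheme.Modules.pullback v).map (rel ev πG qu) ≫
        (cG πG hv).hom) =
      (Scheme.Modules.pullback h).map (kernel.ι qu) ≫ (cE πG hg).hom ≫ evX H ev := by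
  rw [← Category.assoc, Adjunction.homEquiv_naturality_right]
  have h1 := evX_eq Hh (rel (n := n) (p := p) (ν := ν) ev πG qu)
  rw [rel, Equiv.apply_symm_apply, Functor.map_comp, Category.assoc] at h1
  have h2 := evX_paste H ev (isPullback_projMap πG) Hh hg hv
  show evX Hh (rel ev πG qu) ≫ (Scheme.Modules.pushforward f').map (cG πG hv).hom = _
  rw [rel, h1, Category.assoc, Category.assoc]
  exact congrArg ((Scheme.Modules.pullback h).map (kernel.ι qu) ≫ ·) h2

theorem quotBC_eq {C : (CohB1.ProjSpaceOver n Gr).Modules}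
    (φC : pb (FGA.projMap n πG) (srcOver S n p ν) ⟶ C) :
    Grass.quotBC hv φC = (cG πG hv).inv ≫ (Scheme.Modules.pullback v).map φC := by
  simp only [Grass.quotBC, cG, Iso.trans_inv, Iso.app_inv, Category.assoc]

theorem cE_quotBC : (cE πG hg).hom ≫ Grass.quotBC hg qu = (Scheme.Modules.pullback h).map qu := by
  simp only [Grass.quotBC, cE, Iso.trans_hom, Iso.app_hom, Category.assoc, Iso.hom_inv_id_app_assoc]

variable [IsLocallyNoetherian T] {F : X'.Modules} (hst : Stable.{u} n p ν Φ) (hF : Coh.IsCoh F)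
  (hfl : FlatMod.IsFlatOver f' F) (φ : pb g' (srcOver S n p ν) ⟶ F) [Epi φ] (hP : PolyX H F Φ)

/-- The quotient of the direct images. -/
def pushQuot : (Scheme.Modules.pullback g).obj (FlatMod.freeMod S N) ⟶ (Scheme.Modules.pushforward f').obj F :=
  evX H ev ≫ (Scheme.Modules.pushforward f').map φ

include Hh in
theorem map_rel_comp_eq_zero_iff :
    (Scheme.Modules.pullback v).map (rel ev πG qu) ≫ (cG πG hv).hom ≫ φ = 0 ↔
      (Scheme.Modules.pullback h).map (kernel.ι qu) ≫ (cE πG hg).hom ≫ pushQuot ev H φ = 0 := by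
  have key : (Scheme.Modules.pullbackPushforwardAdjunction f').homEquiv _ _
      ((CohCmpLib.sqIso Hh.w).hom.app (kernel qu) ≫ (Scheme.Modules.pullback v).map (rel ev πG qu) ≫
        (cG πG hv).hom ≫ φ) =
      (Scheme.Modules.pullback h).map (kernel.ι qu) ≫ (cE πG hg).hom ≫ pushQuot ev H φ := by
    have h2 := rel_adjunct ev πG qu H hg hv Hh
    refine Eq.trans ?_ ((congrArg (· ≫ (Scheme.Modules.pushforward f').map φ) h2).trans
      (by simp only [pushQuot, Category.assoc]))
    rw [← Adjunction.homEquiv_naturality_right]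
    simp only [Category.assoc]
  have hzero : (Scheme.Modules.pullbackPushforwardAdjunction f').homEquiv
      ((Scheme.Modules.pullback h).obj (kernel qu)) F 0 = 0 := by
    rw [Adjunction.homEquiv_unit, Functor.map_zero, comp_zero]
  rw [← key]
  constructor
  · intro h0
    rw [h0, comp_zero]
    exact hzero
  · intro h0
    rw [← cancel_epi ((CohCmpLib.sqIso Hh.w).hom.app (kernel qu)), comp_zero]
    exact ((Scheme.Modules.pullbackPushforwardAdjunction f').homEquiv _ _).injective (h0.trans hzero.symm)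

include Hh hst hF hfl hP in
/-- **The quotient is recovered from its direct image.** -/
theorem exists_coker_iso (hq : Epi qu) (hev : Epi (evX H ev))
    (e0 : (Scheme.Modules.pullback h).obj Qu ≅ (Scheme.Modules.pushforward f').obj F)
    (he0 : Grass.quotBC hg qu ≫ e0.hom = pushQuot ev H φ) :
    ∃ e : pb v (cokernel (rel ev πG qu)) ≅ F, Grass.quotBC hv (cokernel.π (rel ev πG qu)) ≫ e.hom = φ := by
  obtain ⟨hN, hNfl, -, hNreg, -⟩ := family_regular H hst hF hfl φ hP
  let P := Scheme.Modules.pullback v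
  haveI : P.IsLeftAdjoint := ⟨_, ⟨Scheme.Modules.pullbackPushforwardAdjunction v⟩⟩
  let Ph := Scheme.Modules.pullback h
  haveI : Ph.IsLeftAdjoint := ⟨_, ⟨Scheme.Modules.pullbackPushforwardAdjunction h⟩⟩
  let R := Scheme.Modules.pushforward f'
  haveI : PreservesFiniteLimits R := CohCmpLib.preservesFiniteLimits_push
  have hs : (cE πG hg).hom ≫ pushQuot ev H φ = Ph.map qu ≫ e0.hom := by
    rw [← he0, ← Category.assoc, cE_quotBC]
  have hzero : P.map (rel ev πG qu) ≫ (cG πG hv).hom ≫ φ = 0 := by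
    rw [map_rel_comp_eq_zero_iff ev πG qu H hg hv Hh φ, hs, ← Category.assoc, ← Ph.map_comp, kernel.condition,
      Ph.map_zero, zero_comp]
  -- the induced map to the direct image of the kernel
  let a' := Scheme.Modules.pullbackPushforwardAdjunction f'
  let α : Ph.obj (kernel qu) ⟶ R.obj (pb g' (srcOver S n p ν)) := Ph.map (kernel.ι qu) ≫ (cE πG hg).hom ≫ evX H ev
  haveI : Mono (R.map (kernel.ι φ)) := inferInstance
  have hker : (ShortComplex.mk (R.map (kernel.ι φ)) (R.map φ)
      (by rw [← R.map_comp, kernel.condition, R.map_zero])).Exact :=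
    (ShortComplex.exact_kernel φ).map_of_mono_of_preservesKernel R inferInstance inferInstance
  have hα : α ≫ R.map φ = 0 := by
    simp only [α, Category.assoc]
    show Ph.map (kernel.ι qu) ≫ (cE πG hg).hom ≫ pushQuot ev H φ = 0
    rw [hs, ← Category.assoc, ← Ph.map_comp, kernel.condition, Ph.map_zero, zero_comp]
  let β : Ph.obj (kernel qu) ⟶ R.obj (kernel φ) := hker.lift α hα
  have hβ : β ≫ R.map (kernel.ι φ) = α := hker.lift_f α hα
  haveI : Epi β := by
    let A := (cE πG hg).hom ≫ evX H ev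
    haveI : Epi A := epi_comp _ _
    let p₁ := pullback.fst A (R.map (kernel.ι φ))
    let p₂ := pullback.snd A (R.map (kernel.ι φ))
    have hp : p₁ ≫ Ph.map qu = 0 := by
      rw [← cancel_mono e0.hom, zero_comp, Category.assoc, ← hs]
      show p₁ ≫ (cE πG hg).hom ≫ evX H ev ≫ R.map φ = 0
      rw [← Category.assoc (cE πG hg).hom, ← Category.assoc p₁, pullback.condition, Category.assoc, ← R.map_comp,
        kernel.condition, R.map_zero, comp_zero]
    have hseq : (ShortComplex.mk (Ph.map (kernel.ι qu)) (Ph.map qu)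
        (by rw [← Ph.map_comp, kernel.condition, Ph.map_zero])).Exact :=
      ShortComplex.exact_of_g_is_cokernel _ (CokernelCofork.mapIsColimit
        (CokernelCofork.ofπ qu (kernel.condition qu))
        (ShortComplex.ShortExact.mk (S := ShortComplex.mk (kernel.ι qu) qu (kernel.condition qu))
          (ShortComplex.exact_kernel qu)).gIsCokernel Ph)
    obtain ⟨A', π, hπ, x, hx⟩ := hseq.exact_up_to_refinements p₁ hp
    haveI := hπ
    have hxβ : x ≫ β = π ≫ p₂ := by
      rw [← cancel_mono (R.map (kernel.ι φ)), Category.assoc, hβ, Category.assoc, ← pullback.condition]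
      show x ≫ Ph.map (kernel.ι qu) ≫ A = π ≫ p₁ ≫ A
      rw [← Category.assoc, ← hx, Category.assoc]
    haveI : Epi (x ≫ β) := by rw [hxβ]; infer_instance
    exact epi_of_epi x β
  haveI : Epi ((a'.homEquiv _ _).symm β) := by
    rw [Adjunction.homEquiv_counit]
    haveI := famEpi_counit H hN hNfl hNreg
    haveI : Epi ((Scheme.Modules.pullback f').map β) := Grass.epi_pullback_map f' β
    exact epi_comp _ _
  have hβ' : (a'.homEquiv _ _).symm β ≫ kernel.ι φ =
      (CohCmpLib.sqIso Hh.w).hom.app (kernel qu) ≫ P.map (rel ev πG qu) ≫ (cG πG hv).hom := by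
    apply (a'.homEquiv _ _).injective
    rw [Adjunction.homEquiv_naturality_right, Equiv.apply_symm_apply, hβ]
    exact (rel_adjunct ev πG qu H hg hv Hh).symm
  have hcomp : P.map (rel ev πG qu) ≫ P.map (cokernel.π (rel ev πG qu)) = 0 := by
    rw [← P.map_comp, cokernel.condition, P.map_zero]
  have hkill : kernel.ι φ ≫ Grass.quotBC hv (cokernel.π (rel ev πG qu)) = 0 := by
    rw [← cancel_epi ((a'.homEquiv _ _).symm β), comp_zero, ← Category.assoc, hβ', quotBC_eq]
    simp only [Category.assoc, Iso.hom_inv_id_assoc]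
    exact (congrArg ((CohCmpLib.sqIso Hh.w).hom.app (kernel qu) ≫ ·) hcomp).trans comp_zero
  have hcok := CokernelCofork.mapIsColimit (CokernelCofork.ofπ (cokernel.π (rel ev πG qu)) (cokernel.condition _))
    (cokernelIsCokernel (rel ev πG qu)) P
  let d : pb v (cokernel (rel ev πG qu)) ⟶ F := hcok.desc (CokernelCofork.ofπ ((cG πG hv).hom ≫ φ) hzero)
  have hd : P.map (cokernel.π (rel ev πG qu)) ≫ d = (cG πG hv).hom ≫ φ := Cofork.IsColimit.π_desc hcok
  have hqd : Grass.quotBC hv (cokernel.π (rel ev πG qu)) ≫ d = φ := by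
    rw [quotBC_eq, Category.assoc]
    exact (congrArg ((cG πG hv).inv ≫ ·) hd).trans (Iso.inv_hom_id_assoc _ _)
  have hφc := (ShortComplex.ShortExact.mk (S := ShortComplex.mk (kernel.ι φ) φ (kernel.condition φ))
    (ShortComplex.exact_kernel φ)).gIsCokernel
  let d' : F ⟶ pb v (cokernel (rel ev πG qu)) :=
    hφc.desc (CokernelCofork.ofπ (Grass.quotBC hv (cokernel.π (rel ev πG qu))) hkill)
  have hd' : φ ≫ d' = Grass.quotBC hv (cokernel.π (rel ev πG qu)) := Cofork.IsColimit.π_desc hφc
  haveI : Epi (Grass.quotBC hv (cokernel.π (rel ev πG qu))) := by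
    rw [quotBC_eq]
    haveI : Epi (P.map (cokernel.π (rel ev πG qu))) := inferInstance
    exact epi_comp _ _
  exact ⟨⟨d, d', by rw [← cancel_epi (Grass.quotBC hv (cokernel.π (rel ev πG qu))), ← Category.assoc, hqd, hd',
      Category.comp_id],
    by rw [← cancel_epi φ, ← Category.assoc, hd', hqd, Category.comp_id]⟩, hqd⟩

include Hh hst hF hfl hP in
/-- **A morphism recovering the quotient classifies its direct image.** -/
theorem exists_grass_iso {r : ℕ} (hr : FlatMod.IsFinLocFreeOfRank r Qu) (hq : Epi qu)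
    (hFr : FlatMod.IsFinLocFreeOfRank r ((Scheme.Modules.pushforward f').obj F)) (hev : Epi (evX H ev))
    (e : pb v (cokernel (rel ev πG qu)) ≅ F)
    (he : Grass.quotBC hv (cokernel.π (rel ev πG qu)) ≫ e.hom = φ) :
    ∃ e0 : (Scheme.Modules.pullback h).obj Qu ≅ (Scheme.Modules.pushforward f').obj F,
      Grass.quotBC hg qu ≫ e0.hom = pushQuot ev H φ := by
  obtain ⟨hN, hNfl, -, hNreg, -⟩ := family_regular H hst hF hfl φ hP
  let P := Scheme.Modules.pullback v
  haveI : P.IsLeftAdjoint := ⟨_, ⟨Scheme.Modules.pullbackPushforwardAdjunction v⟩⟩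
  let Ph := Scheme.Modules.pullback h
  haveI : Ph.IsLeftAdjoint := ⟨_, ⟨Scheme.Modules.pullbackPushforwardAdjunction h⟩⟩
  have hzero : P.map (rel ev πG qu) ≫ (cG πG hv).hom ≫ φ = 0 := by
    rw [← he, quotBC_eq]
    simp only [Category.assoc, Iso.hom_inv_id_assoc]
    rw [← Category.assoc, ← P.map_comp, cokernel.condition, P.map_zero, zero_comp]
  have h0 := (map_rel_comp_eq_zero_iff ev πG qu H hg hv Hh φ).1 hzero
  have hc := CokernelCofork.mapIsColimit (CokernelCofork.ofπ qu (kernel.condition qu))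
    (ShortComplex.ShortExact.mk (S := ShortComplex.mk (kernel.ι qu) qu (kernel.condition qu))
      (ShortComplex.exact_kernel qu)).gIsCokernel Ph
  let d : Ph.obj Qu ⟶ (Scheme.Modules.pushforward f').obj F :=
    hc.desc (CokernelCofork.ofπ ((cE πG hg).hom ≫ pushQuot ev H φ) h0)
  have hd : Ph.map qu ≫ d = (cE πG hg).hom ≫ pushQuot ev H φ := Cofork.IsColimit.π_desc hc
  haveI : Epi d := by
    haveI : Epi ((Scheme.Modules.pushforward f').map φ) :=
      famEpi_push H (S' := ShortComplex.mk (kernel.ι φ) φ (kernel.condition φ))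
        (ShortComplex.ShortExact.mk (ShortComplex.exact_kernel φ)) hN hNfl hNreg
    haveI : Epi (pushQuot ev H φ) := epi_comp _ _
    haveI : Epi (Ph.map qu ≫ d) := by rw [hd]; exact epi_comp _ _
    exact epi_of_epi (Ph.map qu) d
  have hQr : FlatMod.IsFinLocFreeOfRank r (Ph.obj Qu) := (RankLocusLib.isFinLocFreeOfRank_pullback_iff Qu h).2 fun t => by
    obtain ⟨U, hU, e⟩ := hr (h t)
    refine ⟨h ⁻¹ᵁ U, hU, ?_⟩
    rw [← morphismRestrict_ι]
    exact RankLocusLib.freeAlong_comp ((RankLocusLib.freeAlong_restrict_iff Qu U).2 e) _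
  haveI := isIso_of_epi_rank hQr hFr d
  refine ⟨asIso d, ?_⟩
  rw [← cancel_epi (cE πG hg).hom, ← Category.assoc, cE_quotBC]
  exact hd

end Key

end QuotSchLib
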