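import Groth.Agent.QuotSchLib.Push
import Mathlib.CategoryTheory.Abelian.Exact

/-!
# Representing quotients with given Hilbert polynomial on a closed subscheme of projective space
-/

set_option autoImplicit false
set_option linter.style.haveILetI false
set_option maxHeartbeats 1000000
universe u v w

open CategoryTheory CategoryTheory.Limits AlgebraicGeometry TopologicalSpace
open KFlatLib (pb)

noncomputable section

namespace QuotSchLib

section Abstract

variable {C : Type v} [Category.{w} C] [Abelian C] {A M N : C}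

theorem exists_coker_kernelSubobject (ψ : A ⟶ M) [Epi ψ] :
    ∃ e : cokernel (kernelSubobject ψ).arrow ≅ M, cokernel.π _ ≫ e.hom = ψ := by
  have hs : (ShortComplex.mk (kernelSubobject ψ).arrow ψ (kernelSubobject_arrow_comp ψ)).Exact :=
    (ShortComplex.exact_iff_image_eq_kernel _).2 (imageSubobject_mono _ |>.trans (Subobject.mk_arrow _))
  exact ⟨(cokernelIsCokernel _).coconePointUniqueUpToIso hs.gIsCokernel,
    IsColimit.comp_coconePointUniqueUpToIso_hom (cokernelIsCokernel _) hs.gIsCokernel WalkingParallelPair.one⟩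

theorem kernelSubobject_eq_iff (ψ₁ : A ⟶ M) (ψ₂ : A ⟶ N) [Epi ψ₁] [Epi ψ₂] :
    kernelSubobject ψ₁ = kernelSubobject ψ₂ ↔ ∃ e : M ≅ N, ψ₁ ≫ e.hom = ψ₂ := by
  constructor
  · intro h
    obtain ⟨e₁, h₁⟩ := exists_coker_kernelSubobject ψ₁
    obtain ⟨e₂, h₂⟩ := exists_coker_kernelSubobject ψ₂
    have key : ∀ (K₁ K₂ : Subobject A), K₁ = K₂ →
        ∃ e : cokernel K₁.arrow ≅ cokernel K₂.arrow, cokernel.π _ ≫ e.hom = cokernel.π _ := by
      rintro K₁ _ rfl
      exact ⟨Iso.refl _, Category.comp_id _⟩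
    obtain ⟨e, he⟩ := key _ _ h
    exact ⟨e₁.symm ≪≫ e ≪≫ e₂, (congrArg (· ≫ (e₁.symm ≪≫ e ≪≫ e₂).hom) h₁.symm).trans
      (by simp only [Iso.trans_hom, Iso.symm_hom, Category.assoc, Iso.hom_inv_id_assoc]
          rw [← Category.assoc, he, h₂])⟩
  · rintro ⟨e, rfl⟩
    exact (kernelSubobject_comp_mono ψ₁ e.hom).symm

theorem kernelSubobject_cokernel_π (K : Subobject A) : kernelSubobject (cokernel.π K.arrow) = K := by
  rw [← (ShortComplex.exact_iff_image_eq_kernel (ShortComplex.mk K.arrow (cokernel.π K.arrow)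
    (cokernel.condition _))).1 (ShortComplex.exact_cokernel _)]
  exact (imageSubobject_mono _).trans (Subobject.mk_arrow _)

end Abstract

theorem quotPull_kernel {X S : Scheme.{u}} (f : X ⟶ S) (E : X.Modules) {T U : Over S} (g : U ⟶ T)
    {M : (PicF.XT f T).Modules} (ψ : FGA.ET f E T ⟶ M) [Epi ψ] :
    FGA.quotPull f E g (kernelSubobject ψ) =
      kernelSubobject ((FGA.ETiso f E g).inv ≫ (Scheme.Modules.pullback (PicF.XTmap f g)).map ψ) := by
  let F := Scheme.Modules.pullback (PicF.XTmap f g)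
  haveI : F.IsLeftAdjoint := ⟨_, ⟨Scheme.Modules.pullbackPushforwardAdjunction _⟩⟩
  obtain ⟨e, he⟩ := exists_coker_kernelSubobject ψ
  have hz : F.map (kernelSubobject ψ).arrow ≫ F.map ψ = 0 := by
    rw [← F.map_comp, kernelSubobject_arrow_comp, F.map_zero]
  have h1 : (ShortComplex.mk _ _ hz).Exact := by
    refine ShortComplex.exact_of_g_is_cokernel _ ?_
    exact CokernelCofork.mapIsColimit (CokernelCofork.ofπ ψ (kernelSubobject_arrow_comp ψ))
      ((cokernelIsCokernel (kernelSubobject ψ).arrow).ofIsoColimit (Cofork.ext e he)) F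
  have hz' : (F.map (kernelSubobject ψ).arrow ≫ (FGA.ETiso f E g).hom) ≫ (FGA.ETiso f E g).inv ≫ F.map ψ = 0 := by
    rw [Category.assoc, Iso.hom_inv_id_assoc]; exact hz
  have h2 : (ShortComplex.mk _ _ hz').Exact := (ShortComplex.exact_iff_of_iso
    (ShortComplex.isoMk (S₁ := ShortComplex.mk _ _ hz) (S₂ := ShortComplex.mk _ _ hz') (Iso.refl _)
      (FGA.ETiso f E g) (Iso.refl _) (Category.id_comp _)
      ((Iso.hom_inv_id_assoc _ _).trans (Category.comp_id _).symm))).1 h1
  exact (ShortComplex.exact_iff_image_eq_kernel _).1 h2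

variable {n : ℕ} {X S : Scheme.{u}} (i : X ⟶ CohB1.ProjSpaceOver n S) [IsClosedImmersion i] (E : X.Modules)

local notation "fX" => i ≫ CohB1.ProjSpaceOver.toBase n S

theorem projMap_w {T Q : Over S} (g : T ⟶ Q) :
    FGA.projMap n g.left ≫ FGA.projMap n Q.hom = FGA.projMap n T.hom := by
  rw [projMap_comp, Over.w g]

theorem iT_natural {T Q : Over S} (g : T ⟶ Q) :
    PicF.XTmap fX g ≫ iT i Q = iT i T ≫ FGA.projMap n g.left := by
  apply (isPullback_projMap Q.hom).hom_ext
  · rw [Category.assoc, Category.assoc, iT_projMap, projMap_w, iT_projMap, ← Category.assoc, FGA.XTmap_fst]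
  · rw [Category.assoc, Category.assoc, iT_toBase, (isPullback_projMap g.left).w]
    refine ((isPullback_XTmap fX g).w.trans ?_)
    exact (congrArg (· ≫ g.left) (iT_toBase i T).symm).trans (Category.assoc _ _ _)

/-- The identifications are natural in the base. -/
theorem eE_natural {T Q : Over S} (g : T ⟶ Q)
    (hX : PicF.XTmap fX g ≫ pullback.fst fX Q.hom ≫ i = pullback.fst fX T.hom ≫ i) :
    (FGA.ETiso fX E g).inv ≫ (Scheme.Modules.pullback (PicF.XTmap fX g)).map (eE i E Q).hom =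
      (eE i E T).hom ≫ (Scheme.Modules.pullbackCongr hX).inv.app (iE i E) ≫
        (Scheme.Modules.pullbackComp (PicF.XTmap fX g) (pullback.fst fX Q.hom ≫ i)).inv.app (iE i E) := by
  let η := (CycKSuppLib.pullPushIso i E).hom
  have key : Grass.quotBC hX (eE i E Q).inv ≫ (FGA.ETiso fX E g).hom = (eE i E T).inv := by
    rw [eE_inv, eE_inv, FGA.ETiso, Iso.trans_hom, Iso.app_hom, Iso.app_hom, ← Category.assoc,
      quotBC_comp rfl hX (by rw [Category.assoc]; exact hX)]
    exact quotBC_congr (FGA.XTmap_fst fX g) _ rfl η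
  rw [← cancel_epi (eE i E T).inv, Iso.inv_hom_id_assoc, ← key, Category.assoc, Iso.hom_inv_id_assoc,
    Grass.quotBC, Category.assoc, Category.assoc, ← Functor.map_comp, Iso.inv_hom_id, CategoryTheory.Functor.map_id]
  exact congrArg (_ ≫ ·) (Category.comp_id _).symm

/-- **Pulling back the quotient on the closed subscheme.** -/
theorem exists_toX_pull {T Q : Over S} (g : T ⟶ Q) {FQ : (CohB1.ProjSpaceOver n Q.left).Modules}
    (φQ : pb (FGA.projMap n Q.hom) (iE i E) ⟶ FQ) :
    ∃ a : pb (PicF.XTmap fX g) (pb (iT i Q) FQ) ≅ pb (iT i T) (pb (FGA.projMap n g.left) FQ),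
      (FGA.ETiso fX E g).inv ≫ (Scheme.Modules.pullback (PicF.XTmap fX g)).map (toX i E φQ) ≫ a.hom =
        toX i E (Grass.quotBC (projMap_w g) φQ) := by
  have hX : PicF.XTmap fX g ≫ pullback.fst fX Q.hom ≫ i = pullback.fst fX T.hom ≫ i := by
    rw [← Category.assoc, FGA.XTmap_fst]
  have h1 : (PicF.XTmap fX g ≫ iT i Q) ≫ FGA.projMap n Q.hom = pullback.fst fX T.hom ≫ i := by
    rw [Category.assoc, iT_projMap, hX]
  have h2 : (iT i T ≫ FGA.projMap n g.left) ≫ FGA.projMap n Q.hom = pullback.fst fX T.hom ≫ i := by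
    rw [← iT_natural, h1]
  let c₁ := (Scheme.Modules.pullbackComp (PicF.XTmap fX g) (iT i Q)).app FQ
  let c₂ := (Scheme.Modules.pullbackComp (iT i T) (FGA.projMap n g.left)).app FQ
  let c := (Scheme.Modules.pullbackCongr (iT_natural i g)).app FQ
  refine ⟨c₁ ≪≫ c ≪≫ c₂.symm, ?_⟩
  have e1 : Grass.quotBC hX (Grass.quotBC (iT_projMap i Q) φQ) ≫ c₁.hom = Grass.quotBC h1 φQ :=
    quotBC_comp (iT_projMap i Q) hX h1 φQ
  have e2 : Grass.quotBC (iT_projMap i T) (Grass.quotBC (projMap_w g) φQ) ≫ c₂.hom = Grass.quotBC h2 φQ :=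
    quotBC_comp (projMap_w g) (iT_projMap i T) h2 φQ
  have e3 : Grass.quotBC h1 φQ ≫ c.hom = Grass.quotBC h2 φQ := quotBC_congr (iT_natural i g) h1 h2 φQ
  rw [toX, toX, Functor.map_comp, Category.assoc, ← Category.assoc (FGA.ETiso fX E g).inv, eE_natural i E g hX,
    Category.assoc, Category.assoc]
  refine congrArg ((eE i E T).hom ≫ ·) ?_
  rw [← cancel_mono c₂.hom, e2, ← e3, ← e1]
  simp only [Category.assoc, Iso.trans_hom, Iso.symm_hom, Iso.inv_hom_id, Category.comp_id, Grass.quotBC]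

variable [Coh.IsQCoh E]

/-- Pulled back submodules and classifying morphisms. -/
theorem quotPull_eq_iff {T Q : Over S} {FQ : (CohB1.ProjSpaceOver n Q.left).Modules}
    (φQ : pb (FGA.projMap n Q.hom) (iE i E) ⟶ FQ) [Epi φQ] {F : (CohB1.ProjSpaceOver n T.left).Modules}
    (φ : pb (FGA.projMap n T.hom) (iE i E) ⟶ F) [Epi φ] (g : T ⟶ Q) :
    FGA.quotPull fX E g (kernelSubobject (toX i E φQ)) = kernelSubobject (toX i E φ) ↔
      Classifies φQ T.hom (FGA.projMap n T.hom) (CohB1.ProjSpaceOver.toBase n T.left) φ g.left := by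
  haveI := epi_toX i E φQ
  haveI := epi_toX i E φ
  haveI := Grass.epi_pullback_map (PicF.XTmap fX g) (toX i E φQ)
  haveI : Epi ((FGA.ETiso fX E g).inv ≫ (Scheme.Modules.pullback (PicF.XTmap fX g)).map (toX i E φQ)) := epi_comp _ _
  obtain ⟨a, ha⟩ := exists_toX_pull i E g φQ
  haveI := epi_quotBC (projMap_w (n := n) g) φQ
  rw [quotPull_kernel, kernelSubobject_eq_iff]
  constructor
  · rintro ⟨b, hb⟩
    have h : (Scheme.Modules.pullback (iT i T)).map (Grass.quotBC (projMap_w g) φQ) ≫ (a.symm ≪≫ b).hom =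
        (Scheme.Modules.pullback (iT i T)).map φ := by
      have h' : toX i E (Grass.quotBC (projMap_w g) φQ) ≫ (a.symm ≪≫ b).hom = toX i E φ := by
        rw [← ha, ← hb]; simp only [Category.assoc, Iso.trans_hom, Iso.symm_hom, Iso.hom_inv_id_assoc]
      rw [toX, toX, Category.assoc, cancel_epi, Grass.quotBC, Grass.quotBC, Category.assoc, Category.assoc] at h'
      exact (cancel_epi _).1 ((cancel_epi _).1 h')
    obtain ⟨e, he⟩ := exists_iso_of_pullback (iT i T) _ _ (kil_quot i E (Grass.quotBC (projMap_w g) φQ))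
      (kil_quot i E φ) _ h
    exact ⟨Over.w g, FGA.projMap n g.left, projMap_w g, (isPullback_projMap g.left).w, e, he⟩
  · rintro ⟨hu, v, hv, hw, e, he⟩
    have hv' : v = FGA.projMap n g.left :=
      (isPullback_projMap Q.hom).hom_ext (by rw [hv, projMap_w]) (by rw [hw, (isPullback_projMap g.left).w])
    subst hv'
    refine ⟨a ≪≫ (Scheme.Modules.pullback (iT i T)).mapIso e, ?_⟩
    rw [Iso.trans_hom, Category.assoc, ← Category.assoc _ a.hom, ← Category.assoc (FGA.ETiso fX E g).inv, ha,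
      Functor.mapIso_hom, toX, toX, Category.assoc, ← quotBC_iso, he]

omit [Coh.IsQCoh E] in
/-- Fibrewise Euler characteristics of a direct image. -/
theorem chi_push (T : Over S) {M : (PicF.XT fX T).Modules} (hM : Coh.IsCoh M)
    (hP : Coh.IsCoh ((Scheme.Modules.pushforward (iT i T)).obj M)) (t : T.left) (m : ℤ) :
    MumfordLib.chi (T.left.residueField t)
        (pb (fJ (isPullback_projMap T.hom) t) ((Scheme.Modules.pushforward (iT i T)).obj M)) m =
      FGA.eulerCharLE (T.left.residueField t) (FGA.fibreAt fX T t).left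
        (CohB1.tensorMod (FGA.restrFibre fX T t M)
          (FGA.restrFibre fX T t (FGA.ET fX ((Scheme.Modules.pullback i).obj (Twist.twistOver n S m)) T))) n := by
  let k := T.left.residueField t
  let π := CohB1.ProjSpaceOver.toBase n T.left
  letI : (π.fiber t).Over (Spec (CommRingCat.of k)) := ⟨π.fiberToSpecResidueField t⟩
  let a := π.fiberι t
  let L := pb a (pb (FGA.projMap n T.hom) (Twist.twistOver n S m))
  let pf := pullback.fst (PicF.XTproj fX T) (T.left.fromSpecResidueField t)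
  let ps := pullback.snd (PicF.XTproj fX T) (T.left.fromSpecResidueField t)
  have HZ : IsPullback a (π.fiberToSpecResidueField t) π (T.left.fromSpecResidueField t) :=
    IsPullback.of_hasPullback _ _
  let j : pullback (PicF.XTproj fX T) (T.left.fromSpecResidueField t) ⟶ π.fiber t :=
    HZ.lift (pf ≫ iT i T) ps (by rw [Category.assoc, iT_toBase]; exact pullback.condition)
  have hj1 : j ≫ a = pf ≫ iT i T := HZ.lift_fst _ _ _
  have hj2 : j ≫ π.fiberToSpecResidueField t = ps := HZ.lift_snd _ _ _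
  have Hj : IsPullback pf j (iT i T) a :=
    IsPullback.of_bot (by rw [hj2, iT_toBase]; exact IsPullback.of_hasPullback _ _) hj1.symm HZ
  haveI : IsClosedImmersion j := MorphismProperty.of_isPullback Hj inferInstance
  haveI : IsProper (π.fiber t ↘ Spec (CommRingCat.of k)) := by
    haveI : IsProper π := ChowLib.isProper_toBase n T.left
    exact MorphismProperty.of_isPullback HZ inferInstance
  haveI := hM.1
  haveI : Coh.IsQCoh (pb pf M) := KFlatLib.isQCoh_pullback pf M
  let N : (pullback (PicF.XTproj fX T) (T.left.fromSpecResidueField t)).Modules := pb pf M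
  have hL : PicF.IsInvertible L :=
    AmpleDevLib.isInvertible_pb a (AmpleDevLib.isInvertible_pb _ (PicPnLib.twistOver_inv n S m))
  have hLf : FlatMod.IsFinLocFree L := CurveVBLib.isFinLocFree_of_rank (CurvLib.locFree_of_isInvertible hL)
  haveI := Groth.Agent.S12131.result (iT i T) a pf j Hj M
  let e1 : pb a ((Scheme.Modules.pushforward (iT i T)).obj M) ≅ (Scheme.Modules.pushforward j).obj N :=
    @asIso _ _ _ _ _ (Groth.Agent.S12131.result (iT i T) a pf j Hj M)
  let e2 : CohB1.tensorMod (pb a ((Scheme.Modules.pushforward (iT i T)).obj M)) L ≅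
      (Scheme.Modules.pushforward j).obj (CohB1.tensorMod (pb j L) N) :=
    PicGrp.tensorModIso e1 (Iso.refl L) ≪≫ HilbPolyLib.swapIso _ _ ≪≫
      @asIso _ _ _ _ (ProjFormLib.projApp j L N) (ProjFormLib.isIso_projApp j hLf N)
  have heq : j ≫ a ≫ FGA.projMap n T.hom = (pf ≫ pullback.fst fX T.hom) ≫ i := by
    rw [reassoc_of% hj1, iT_projMap, Category.assoc]
  let e3 : pb j L ≅ FGA.restrFibre fX T t (FGA.ET fX ((Scheme.Modules.pullback i).obj (Twist.twistOver n S m)) T) :=
    (Scheme.Modules.pullback j).mapIso ((Scheme.Modules.pullbackComp a (FGA.projMap n T.hom)).app _) ≪≫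
      (Scheme.Modules.pullbackComp j _).app _ ≪≫ (Scheme.Modules.pullbackCongr heq).app _ ≪≫
        ((Scheme.Modules.pullbackComp (pf ≫ pullback.fst fX T.hom) i).app _).symm ≪≫
          ((Scheme.Modules.pullbackComp pf (pullback.fst fX T.hom)).app _).symm
  let e4 : CohB1.tensorMod (pb j L) N ≅ CohB1.tensorMod (FGA.restrFibre fX T t M)
      (FGA.restrFibre fX T t (FGA.ET fX ((Scheme.Modules.pullback i).obj (Twist.twistOver n S m)) T)) :=
    PicGrp.tensorModIso e3 (Iso.refl N) ≪≫ HilbPolyLib.swapIso _ _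
  have hLq : Coh.IsQCoh (CohB1.tensorMod (pb j L) N) :=
    @QCohLib.isQCoh_of_iso _ _ _ (HilbPolyLib.swapIso N (pb j L))
      (MiscFlat6.isQCoh_tensor (AmpleDevLib.isInvertible_pb j hL))
  rw [← eulerCharLE_model (isPullback_projMap T.hom) t HZ hP (Iso.refl L)]
  letI : (pullback (PicF.XTproj fX T) (T.left.fromSpecResidueField t)).Over (Spec (CommRingCat.of k)) := ⟨ps⟩
  unfold FGA.eulerCharLE
  refine Finset.sum_congr rfl fun q _ => ?_
  have h1 := (CurvLib.hIso (k := k) e2 q).finrank_eq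
  have h2 := (PushLinLib.euler_push k j hj2 (CohB1.tensorMod (pb j L) N)).1 q
  have h3 := (CurvLib.hIso (k := k) e4 q).finrank_eq
  rw [h1, ← h2, h3]
  rfl

/-- The Hilbert polynomial condition on a family of quotients. -/
def HilbPolyIs (Φ : Polynomial ℚ) (T : Over S) (K : Subobject (FGA.ET fX E T)) : Prop :=
  ∀ (t : T.left) (m : ℤ),
    (FGA.eulerCharLE (T.left.residueField t) (FGA.fibreAt fX T t).left
      (CohB1.tensorMod (FGA.restrFibre fX T t (cokernel K.arrow))
        (FGA.restrFibre fX T t (FGA.ET fX ((Scheme.Modules.pullback i).obj (Twist.twistOver n S m)) T))) n : ℚ) =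
      Φ.eval (m : ℚ)

theorem hilbPolyIs_toX_iff {T : Over S} [IsLocallyNoetherian T.left] {F : (CohB1.ProjSpaceOver n T.left).Modules}
    (φ : pb (FGA.projMap n T.hom) (iE i E) ⟶ F) [Epi φ] (hF : Coh.IsCoh F)
    (hfl : FlatMod.IsFlatOver (CohB1.ProjSpaceOver.toBase n T.left) F) (Φ : Polynomial ℚ) :
    HilbPolyIs i E Φ T (kernelSubobject (toX i E φ)) ↔ PolyX (isPullback_projMap T.hom) F Φ := by
  haveI := epi_toX i E φ
  obtain ⟨e, -⟩ := exists_coker_kernelSubobject (toX i E φ)
  haveI := isLocallyNoetherian_projSpaceOver n T.left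
  have hc := (coh_flat_toX i E φ hF hfl).1
  let u := CycKSuppLib.pushPullIso (iT i T) (kil_quot i E φ)
  have hP : Coh.IsCoh ((Scheme.Modules.pushforward (iT i T)).obj (cokernel (kernelSubobject (toX i E φ)).arrow)) :=
    QCohLib.isCoh_push_finite (iT i T) _ (QCohLib.isCoh_of_iso e.symm hc)
  let e' : (Scheme.Modules.pushforward (iT i T)).obj (cokernel (kernelSubobject (toX i E φ)).arrow) ≅ F :=
    (Scheme.Modules.pushforward (iT i T)).mapIso e ≪≫ u
  constructor
  · intro h
    refine polyX_congr _ e' fun t m => ?_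
    rw [chi_push i T (QCohLib.isCoh_of_iso e.symm hc) hP t m]
    exact h t m
  · intro h t m
    rw [← chi_push i T (QCohLib.isCoh_of_iso e.symm hc) hP t m]
    exact polyX_congr _ e'.symm h t m

/-- **Representability for a fixed Hilbert polynomial.** -/
theorem exists_repr [AlgebraicGeometry.IsNoetherian S] (hS : GrassOK S) (hE : Coh.IsCoh E) (p : ℕ) (ν : ℤ)
    (π₀ : srcOver S n p ν ⟶ iE i E) [Epi π₀] (Φ : Polynomial ℚ) :
    ∃ (Q : Over S) (K : FGA.QuotSet fX E Q),
      AlgebraicGeometry.IsNoetherian Q.left ∧ HilbPolyIs i E Φ Q K.1 ∧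
      (∀ (T : Over S) [IsLocallyNoetherian T.left] (K' : FGA.QuotSet fX E T), HilbPolyIs i E Φ T K'.1 →
        ∃! g : T ⟶ Q, FGA.quotPull fX E g K.1 = K'.1) ∧
      ∃ (r : ℕ) (c : Q.left ⟶ CohB1.ProjSpaceOver r S),
        IsClosedImmersion c ∧ c ≫ CohB1.ProjSpaceOver.toBase r S = Q.hom := by
  obtain ⟨Q₁, g₁, F₁, φ₁, hQ₁, ⟨r, c₁, hc₁, hcπ⟩, hU₁⟩ := exists_universal_src (n := n) hS p ν Φ
  haveI := hQ₁
  haveI := hc₁
  haveI := isLocallyNoetherian_projSpaceOver n S
  have hiE : Coh.IsCoh (iE i E) := QCohLib.isCoh_push_finite i E hE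
  obtain ⟨Q', c, FQ, φQ, hc, hFQ, hφQ, hfl, hP, huniv⟩ :=
    exists_universal_sub (isCoh_srcOver n p ν) hiE.1 π₀ hU₁
  haveI := hc
  haveI := hφQ
  let Q : Over S := Over.mk (c ≫ g₁)
  haveI : IsLocallyNoetherian Q.left := LocallyOfFiniteType.isLocallyNoetherian c
  haveI hQn : AlgebraicGeometry.IsNoetherian Q.left :=
    haveI : CompactSpace Q.left := c.isClosedEmbedding.compactSpace
    ⟨⟩
  haveI := epi_toX i E (T := Q) φQ
  obtain ⟨hcX, hflX⟩ := coh_flat_toX i E (T := Q) φQ hFQ hfl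
  obtain ⟨eQ, -⟩ := exists_coker_kernelSubobject (toX i E (T := Q) φQ)
  refine ⟨Q, ⟨kernelSubobject (toX i E (T := Q) φQ), QCohLib.isCoh_of_iso eQ.symm hcX,
      fun x => (RichLib.ModFlat.isFlatOverAt_iso _ eQ.symm x).1 (hflX x)⟩, hQn,
    (hilbPolyIs_toX_iff i E (T := Q) φQ hFQ hfl Φ).2 hP, fun T _ K' hK' => ?_, r, c ≫ c₁, inferInstance, ?_⟩
  · obtain ⟨φ, hφ, hF, hFfl, a, ha⟩ := exists_fromX i E K'.2.1 K'.2.2 (cokernel.π K'.1.arrow)
    haveI := hφ
    haveI := epi_toX i E φ
    have hK : kernelSubobject (toX i E φ) = K'.1 :=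
      (kernelSubobject_comp_mono (toX i E φ) a.hom).symm.trans
        ((by simp only [ha] : kernelSubobject (toX i E φ ≫ a.hom) = kernelSubobject (cokernel.π K'.1.arrow)).trans
          (kernelSubobject_cokernel_π _))
    have hPF : PolyX (isPullback_projMap T.hom) _ Φ :=
      (hilbPolyIs_toX_iff i E φ hF hFfl Φ).1 (by rw [hK]; exact hK')
    obtain ⟨w, hw, hwu⟩ := huniv T.left _ T.hom _ _ (isPullback_projMap T.hom) _ hF hFfl φ hφ hPF
    let g : T ⟶ Q := Over.homMk w hw.1
    refine ⟨g, ?_, fun g' hg' => Over.OverMorphism.ext (hwu _ ?_)⟩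
    · show FGA.quotPull fX E g (kernelSubobject (toX i E (T := Q) φQ)) = K'.1
      exact ((quotPull_eq_iff i E (Q := Q) φQ φ g).2 hw).trans hK
    · exact (quotPull_eq_iff i E (Q := Q) φQ φ g').1 (hg'.trans hK.symm)
  · show (c ≫ c₁) ≫ CohB1.ProjSpaceOver.toBase r S = c ≫ g₁
    rw [Category.assoc, hcπ]

end QuotSchLib
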