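import Groth.Agent.QuotSchLib.HomZeroLoc

/-!
# Comparing pulled back submodules
-/

set_option autoImplicit false
universe u v w

open CategoryTheory CategoryTheory.Limits

noncomputable section

namespace QuotSchLib

theorem imageSubobject_le_iff_comp_eq_zero {C : Type v} [Category.{w} C] [Abelian C] {A B W : C}
    (a : A ⟶ W) (b : B ⟶ W) : imageSubobject a ≤ imageSubobject b ↔ a ≫ cokernel.π b = 0 := by
  constructor
  · intro h
    have hb : (imageSubobject b).arrow ≫ cokernel.π b = 0 := by
      rw [← cancel_epi (factorThruImageSubobject b), imageSubobject_arrow_comp_assoc, cokernel.condition, comp_zero]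
    rw [← imageSubobject_arrow_comp a, ← Subobject.ofLE_arrow h, Category.assoc, Category.assoc, hb, comp_zero,
      comp_zero]
  · intro h
    refine imageSubobject_le a ((kernel.lift (cokernel.π b) a h) ≫ (Abelian.imageIsoImage b).hom ≫
      (imageSubobjectIso b).inv) ?_
    simp only [Category.assoc, imageSubobject_arrow']
    rw [show (Abelian.imageIsoImage b).hom ≫ image.ι b = Abelian.image.ι b from
      IsImage.isoExt_hom_m _ _]
    exact kernel.lift_ι _ _ _

open AlgebraicGeometry in
/-- The image of a pulled back module lands in the pulled back submodule iff the composite to the quotient dies. -/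
theorem image_le_quotPull_iff {X S : Scheme.{u}} (f : X ⟶ S) {E M : X.Modules} (k : M ⟶ E) {T U : Over S}
    (g : U ⟶ T) (K : Subobject (FGA.ET f E T)) :
    imageSubobject ((Scheme.Modules.pullback (pullback.fst f U.hom)).map k) ≤ FGA.quotPull f E g K ↔
      (Scheme.Modules.pullback (PicF.XTmap f g)).map
        ((Scheme.Modules.pullback (pullback.fst f T.hom)).map k ≫ cokernel.π K.arrow) = 0 := by
  let F := Scheme.Modules.pullback (PicF.XTmap f g)
  have : F.IsLeftAdjoint := ⟨_, ⟨Scheme.Modules.pullbackPushforwardAdjunction _⟩⟩
  have hnat : F.map ((Scheme.Modules.pullback (pullback.fst f T.hom)).map k) ≫ (FGA.ETiso f E g).hom =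
      (FGA.ETiso f M g).hom ≫ (Scheme.Modules.pullback (pullback.fst f U.hom)).map k := by
    simp only [FGA.ETiso, Iso.trans_hom, Iso.app_hom, Category.assoc]
    rw [← NatTrans.naturality, ← Category.assoc, ← Category.assoc]
    exact congrArg (· ≫ _) ((Scheme.Modules.pullbackComp _ _).hom.naturality k)
  rw [FGA.quotPull, imageSubobject_le_iff_comp_eq_zero, Functor.map_comp]
  let b := F.map K.arrow ≫ (FGA.ETiso f E g).hom
  have hd : F.map K.arrow ≫ (FGA.ETiso f E g).hom ≫ cokernel.π b = 0 := by
    rw [← Category.assoc]; exact cokernel.condition b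
  have hK : F.map K.arrow ≫ F.map (cokernel.π K.arrow) = 0 := by
    rw [← F.map_comp, cokernel.condition, F.map_zero]
  constructor
  · intro h
    have e : F.map (cokernel.π K.arrow) = (FGA.ETiso f E g).hom ≫ cokernel.π b ≫
        cokernel.desc b ((FGA.ETiso f E g).inv ≫ F.map (cokernel.π K.arrow))
          (by simp only [b, Category.assoc, Iso.hom_inv_id_assoc]; exact hK) := by
      rw [cokernel.π_desc, Iso.hom_inv_id_assoc]
    rw [e, ← Category.assoc, hnat, Category.assoc, ← Category.assoc ((Scheme.Modules.pullback _).map k), h,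
      zero_comp, comp_zero]
  · intro h
    have e : (FGA.ETiso f E g).hom ≫ cokernel.π b = F.map (cokernel.π K.arrow) ≫
        (PreservesCokernel.iso F K.arrow).hom ≫ cokernel.desc _ _ hd := by
      have hπ : F.map (cokernel.π K.arrow) ≫ (PreservesCokernel.iso F K.arrow).hom = cokernel.π (F.map K.arrow) := by
        rw [← Iso.eq_comp_inv, PreservesCokernel.iso_inv]
        exact (π_comp_cokernelComparison _ _).symm
      rw [← Category.assoc (F.map (cokernel.π K.arrow)), hπ, cokernel.π_desc]
    rw [← cancel_epi (FGA.ETiso f M g).hom, comp_zero, ← Category.assoc, ← hnat, Category.assoc, e,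
      ← Category.assoc, h, zero_comp]

end QuotSchLib
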