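import Groth.Agent.QuotSchLib.Closed

/-!
# Hilbert polynomials of a flat family are locally constant
-/

set_option autoImplicit false
set_option linter.style.haveILetI false
set_option maxHeartbeats 1000000
universe u

open CategoryTheory CategoryTheory.Limits AlgebraicGeometry TopologicalSpace
open KFlatLib (pb)

noncomputable section

namespace QuotSchLib

variable {n : ℕ} {S T : Scheme.{u}} (g : T ⟶ S) {F : (CohB1.ProjSpaceOver n T).Modules}

/-- Euler characteristics of the twists on a fibre are polynomial. -/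
theorem exists_poly_at (hF : Coh.IsCoh F) (t : T) :
    ∃ P : Polynomial ℚ, ∀ m : ℤ,
      (MumfordLib.chi (T.residueField t) (pb (fJ (isPullback_projMap g) t) F) m : ℚ) = P.eval (m : ℚ) := by
  let U := Spec (T.residueField t)
  let u : U ⟶ T := T.fromSpecResidueField t
  haveI : IsNoetherianRing (T.residueField t) := inferInstance
  haveI : AlgebraicGeometry.IsNoetherian U := {}
  have hC : Coh.IsCoh (pb (FGA.projMap n u) F) := ConsLib.isCoh_pullback _ hF
  obtain ⟨z⟩ : Nonempty U := inferInstance
  obtain ⟨P, hP⟩ := StratLib.exists_chi_poly (pb (FGA.projMap n u) F) hC z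
  refine ⟨P, ?_⟩
  have hone : ∀ z' : U, z' = z := fun z' => Subsingleton.elim _ _
  have h1 : PolyX (IsPullback.id_horiz (CohB1.ProjSpaceOver.toBase n U)) (pb (FGA.projMap n u) F) P := fun z' m => by
    rw [hone z']
    exact (congrArg (fun a : ℤ => (a : ℚ)) (chi_strat_eq hC z m)).symm.trans (hP m)
  have h2 : PolyX ((isPullback_projMap (n := n) u).paste_horiz (isPullback_projMap g)) (pb (FGA.projMap n u) F) P := by
    refine polyX_base (IsPullback.id_horiz (CohB1.ProjSpaceOver.toBase n U)) _ (fun d => ?_) hC h1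
    exact ⟨(Scheme.Modules.pullbackId _).app _ ≪≫ (nonempty_projMap_twist (u ≫ g) d).some.symm ≪≫
      (Scheme.Modules.pullbackCongr (projMap_comp u g).symm).app _⟩
  intro m
  have ht : u z = t := by
    have hr : u z ∈ Set.range u := ⟨z, rfl⟩
    rw [Scheme.range_fromSpecResidueField] at hr
    exact hr
  rw [← h2 z m, chi_fJ_paste (isPullback_projMap g) (isPullback_projMap u) F hF z m, ht]

/-- The Hilbert polynomial on a fibre. -/
def polyAt (hF : Coh.IsCoh F) (t : T) : Polynomial ℚ := (exists_poly_at g hF t).choose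

theorem polyAt_spec (hF : Coh.IsCoh F) (t : T) (m : ℤ) :
    (MumfordLib.chi (T.residueField t) (pb (fJ (isPullback_projMap g) t) F) m : ℚ) =
      (polyAt g hF t).eval (m : ℚ) :=
  (exists_poly_at g hF t).choose_spec m

theorem polyAt_eq_of_specializes [IsLocallyNoetherian T] (hF : Coh.IsCoh F)
    (hfl : FlatMod.IsFlatOver (CohB1.ProjSpaceOver.toBase n T) F) {t₀ t : T} (h : t₀ ⤳ t) :
    polyAt g hF t₀ = polyAt g hF t :=
  StratLib.eq_of_eval_int fun m => by
    rw [← polyAt_spec g hF t₀ m, ← polyAt_spec g hF t m, polyX_specializes (isPullback_projMap g) hF hfl h m]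

/-- **The Hilbert polynomial of a flat family is locally constant.** -/
theorem isLocallyConstant_polyAt [IsLocallyNoetherian T] (hF : Coh.IsCoh F)
    (hfl : FlatMod.IsFlatOver (CohB1.ProjSpaceOver.toBase n T) F) : IsLocallyConstant (polyAt g hF) := by
  rw [IsLocallyConstant.iff_exists_open]
  intro t
  obtain ⟨W, hW, htW, -⟩ := exists_isAffineOpen_mem_and_subset (x := t) (U := ⊤) trivial
  haveI : IsAffine (W : Scheme.{u}) := hW
  haveI : CompactSpace (W : Scheme.{u}) := isCompact_iff_compactSpace.mp hW.isCompact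
  haveI : AlgebraicGeometry.IsNoetherian (W : Scheme.{u}) := {}
  let B : Set (Set (W : Scheme.{u})) := {Z ∈ irreducibleComponents (W : Scheme.{u}) | (⟨t, htW⟩ : W) ∉ Z}
  have hB : IsClosed (⋃₀ B) := by
    rw [Set.sUnion_eq_biUnion]
    exact ((finite_irreducibleComponents_of_isNoetherian (X := (W : Scheme.{u}))).subset fun Z hZ => hZ.1).isClosed_biUnion
      fun Z hZ => isClosed_of_mem_irreducibleComponents Z hZ.1
  refine ⟨W.ι '' (⋃₀ B)ᶜ, W.ι.isOpenEmbedding.isOpenMap _ hB.isOpen_compl,
    ⟨⟨t, htW⟩, fun ⟨Z, hZ, hm⟩ => hZ.2 hm, rfl⟩, ?_⟩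
  rintro _ ⟨w, hw, rfl⟩
  let Z := irreducibleComponent w
  have hZ : Z ∈ irreducibleComponents (W : Scheme.{u}) := irreducibleComponent_mem_irreducibleComponents w
  have htZ : (⟨t, htW⟩ : W) ∈ Z := by
    by_contra hc
    exact hw ⟨Z, ⟨hZ, hc⟩, mem_irreducibleComponent⟩
  have hgen := (isIrreducible_irreducibleComponent (x := w)).isGenericPoint_genericPoint isClosed_irreducibleComponent
  have h1 := hgen.specializes mem_irreducibleComponent
  have h2 := hgen.specializes htZ
  exact (polyAt_eq_of_specializes g hF hfl (h1.map W.ι.continuous)).symm.trans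
    (polyAt_eq_of_specializes g hF hfl (h2.map W.ι.continuous))

end QuotSchLib
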