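import Groth.Agent.QuotSchLib.Sub
import Groth.Agent.QuotSchLib.Glue
import Groth.Agent.QuotSchLib.Local

/-!
# The union of the schemes of quotients over all Hilbert polynomials
-/

set_option autoImplicit false
set_option linter.style.haveILetI false
set_option maxHeartbeats 1000000
universe u

open CategoryTheory CategoryTheory.Limits AlgebraicGeometry TopologicalSpace
open KFlatLib (pb)

noncomputable section

namespace QuotSchLib

/-- A universal family of quotients, of any Hilbert polynomial. -/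
def IsUniversalAll {n : ℕ} {S : Scheme.{u}} (G : (CohB1.ProjSpaceOver n S).Modules) {Q : Scheme.{u}} (gQ : Q ⟶ S)
    (FQ : (CohB1.ProjSpaceOver n Q).Modules) (φQ : pb (FGA.projMap n gQ) G ⟶ FQ) : Prop :=
  Coh.IsCoh FQ ∧ Epi φQ ∧ FlatMod.IsFlatOver (CohB1.ProjSpaceOver.toBase n Q) FQ ∧
    ∀ (T : Scheme.{u}) [IsLocallyNoetherian T] (g : T ⟶ S) (F : (CohB1.ProjSpaceOver n T).Modules), Coh.IsCoh F →
      FlatMod.IsFlatOver (CohB1.ProjSpaceOver.toBase n T) F → ∀ φ : pb (FGA.projMap n g) G ⟶ F, Epi φ →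
        ∃! u : T ⟶ Q, Classifies φQ g (FGA.projMap n g) (CohB1.ProjSpaceOver.toBase n T) φ u

/-- Every piece is closed in a projective space. -/
def HasProjPieces {S Q : Scheme.{u}} (gQ : Q ⟶ S) : Prop :=
  ∃ (ι : Type u) (P : ι → Scheme.{u}) (e : (∐ P) ≅ Q) (r : ι → ℕ)
    (c : ∀ a, P a ⟶ CohB1.ProjSpaceOver (r a) S),
    ∀ a, IsClosedImmersion (c a) ∧
      c a ≫ CohB1.ProjSpaceOver.toBase (r a) S = Limits.Sigma.ι P a ≫ e.hom ≫ gQ

variable {n : ℕ}

/-- Quotients agreeing locally on the source are isomorphic. -/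
theorem exists_iso_of_cover {Z : Scheme.{u}} {ι : Type u} {V : ι → Scheme.{u}} (j : ∀ i, V i ⟶ Z)
    [∀ i, IsOpenImmersion (j i)] (hU : ∀ z, ∃ i, z ∈ Set.range (j i)) {A F₁ F₂ : Z.Modules} (q₁ : A ⟶ F₁) [Epi q₁]
    (q₂ : A ⟶ F₂) [Epi q₂]
    (h : ∀ i, ∃ a : pb (j i) F₁ ≅ pb (j i) F₂,
      (Scheme.Modules.pullback (j i)).map q₁ ≫ a.hom = (Scheme.Modules.pullback (j i)).map q₂) :
    ∃ e : F₁ ≅ F₂, q₁ ≫ e.hom = q₂ := by
  have key : ∀ {F₁ F₂ : Z.Modules} (q₁ : A ⟶ F₁) (q₂ : A ⟶ F₂),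
      (∀ i, ∃ a : pb (j i) F₁ ≅ pb (j i) F₂,
        (Scheme.Modules.pullback (j i)).map q₁ ≫ a.hom = (Scheme.Modules.pullback (j i)).map q₂) →
      kernel.ι q₁ ≫ q₂ = 0 := fun {F₁ F₂} q₁ q₂ h => eq_zero_of_cover j hU _ fun i => by
    obtain ⟨a, ha⟩ := h i
    haveI : (Scheme.Modules.pullback (j i)).IsLeftAdjoint := ⟨_, ⟨Scheme.Modules.pullbackPushforwardAdjunction _⟩⟩
    rw [Functor.map_comp, ← ha, ← Functor.map_comp_assoc, kernel.condition, Functor.map_zero, zero_comp]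
  let d₁ := (ShortComplex.ShortExact.mk (S := ShortComplex.mk (kernel.ι q₁) q₁ (kernel.condition q₁))
    (ShortComplex.exact_kernel q₁)).gIsCokernel
  let d₂ := (ShortComplex.ShortExact.mk (S := ShortComplex.mk (kernel.ι q₂) q₂ (kernel.condition q₂))
    (ShortComplex.exact_kernel q₂)).gIsCokernel
  let a : F₁ ⟶ F₂ := d₁.desc (CokernelCofork.ofπ q₂ (key q₁ q₂ h))
  have ha : q₁ ≫ a = q₂ := Cofork.IsColimit.π_desc d₁
  let b : F₂ ⟶ F₁ := d₂.desc (CokernelCofork.ofπ q₁ (key q₂ q₁ fun i => by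
    obtain ⟨a, ha⟩ := h i
    exact ⟨a.symm, by rw [← ha, Iso.symm_hom, Category.assoc, Iso.hom_inv_id, Category.comp_id]⟩))
  have hb : q₂ ≫ b = q₁ := Cofork.IsColimit.π_desc d₂
  exact ⟨⟨a, b, by rw [← cancel_epi q₁, ← Category.assoc, ha, hb, Category.comp_id],
    by rw [← cancel_epi q₂, ← Category.assoc, hb, ha, Category.comp_id]⟩, ha⟩

theorem range_projMap {T U : Scheme.{u}} (a : U ⟶ T) [IsOpenImmersion a] (z : CohB1.ProjSpaceOver n T) :
    z ∈ Set.range (FGA.projMap n a) ↔ CohB1.ProjSpaceOver.toBase n T z ∈ Set.range a := by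
  let e := (isPullback_projMap (n := n) a).isoPullback
  have he : e.hom ≫ pullback.fst _ _ = FGA.projMap n a := (isPullback_projMap (n := n) a).isoPullback_hom_fst
  have h : Set.range (FGA.projMap n a) = Set.range (pullback.fst (CohB1.ProjSpaceOver.toBase n T) a) := by
    rw [← he]
    refine Set.Subset.antisymm ?_ ?_
    · rintro _ ⟨x, rfl⟩; exact ⟨_, (Scheme.Hom.comp_apply _ _ x).symm⟩
    · rintro _ ⟨y, rfl⟩
      refine ⟨e.inv y, ?_⟩
      rw [← Scheme.Hom.comp_apply, Iso.inv_hom_id_assoc]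
  rw [h, Scheme.Pullback.range_fst]
  rfl

instance {T U : Scheme.{u}} (a : U ⟶ T) [IsOpenImmersion a] : IsOpenImmersion (FGA.projMap n a) :=
  MorphismProperty.of_isPullback (isPullback_projMap a).flip inferInstance

variable {S : Scheme.{u}} {G : (CohB1.ProjSpaceOver n S).Modules}

/-- The restriction of a family to an open subscheme. -/
theorem exists_restrict {T U : Scheme.{u}} (a : U ⟶ T) {g : T ⟶ S} {F : (CohB1.ProjSpaceOver n T).Modules}
    (hF : Coh.IsCoh F) (hfl : FlatMod.IsFlatOver (CohB1.ProjSpaceOver.toBase n T) F)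
    (φ : pb (FGA.projMap n g) G ⟶ F) [Epi φ] :
    Coh.IsCoh (pb (FGA.projMap n a) F) ∧
      FlatMod.IsFlatOver (CohB1.ProjSpaceOver.toBase n U) (pb (FGA.projMap n a) F) ∧
      Epi (Grass.quotBC (projMap_comp a g) φ) := by
  haveI := hF.1
  exact ⟨ConsLib.isCoh_pullback _ hF, RGFlatLib.isFlatOver_pullback_of_isPullback (isPullback_projMap a) F hfl,
    epi_quotBC _ φ⟩

variable {Q : Scheme.{u}} {gQ : Q ⟶ S} {FQ : (CohB1.ProjSpaceOver n Q).Modules}
  {φQ : pb (FGA.projMap n gQ) G ⟶ FQ}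

theorem polyX_restrict {T U : Scheme.{u}} (b : U ⟶ T) (g : T ⟶ S) {F : (CohB1.ProjSpaceOver n T).Modules}
    (hF : Coh.IsCoh F) (Ψ : Polynomial ℚ) (hb : ∀ z, polyAt g hF (b z) = Ψ) :
    PolyX (isPullback_projMap (b ≫ g)) (pb (FGA.projMap n b) F) Ψ :=
  polyX_square ((isPullback_projMap b).paste_horiz (isPullback_projMap g)) _ (projMap_comp b g) rfl fun z m => by
    rw [chi_fJ_paste (isPullback_projMap g) (isPullback_projMap b) F hF z m, polyAt_spec g hF, hb]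

theorem isPullback_of_classifies {U P₀ : Scheme.{u}} {g₀ : P₀ ⟶ S} {g₁ : U ⟶ S} {l : U ⟶ P₀}
    {z : CohB1.ProjSpaceOver n U ⟶ CohB1.ProjSpaceOver n P₀} (hl : l ≫ g₀ = g₁)
    (hz : z ≫ FGA.projMap n g₀ = FGA.projMap n g₁)
    (hw : z ≫ CohB1.ProjSpaceOver.toBase n P₀ = CohB1.ProjSpaceOver.toBase n U ≫ l) :
    IsPullback z (CohB1.ProjSpaceOver.toBase n U) (CohB1.ProjSpaceOver.toBase n P₀) l :=
  IsPullback.of_right (by rw [hz, hl]; exact isPullback_projMap g₁) hw (isPullback_projMap g₀)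

/-- A family with polynomial `Ψ` is sent where the universal family has polynomial `Ψ`. -/
theorem polyX_of_classifies {U P₀ : Scheme.{u}} {g₀ : P₀ ⟶ S} {g₁ : U ⟶ S}
    {F₀ : (CohB1.ProjSpaceOver n P₀).Modules} (hF₀ : Coh.IsCoh F₀) {φ₀ : pb (FGA.projMap n g₀) G ⟶ F₀}
    {Φ : Polynomial ℚ} (hP : PolyX (isPullback_projMap g₀) F₀ Φ) {F : (CohB1.ProjSpaceOver n U).Modules}
    {φ : pb (FGA.projMap n g₁) G ⟶ F} {l : U ⟶ P₀}
    (h : Classifies φ₀ g₁ (FGA.projMap n g₁) (CohB1.ProjSpaceOver.toBase n U) φ l) :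
    PolyX (isPullback_projMap g₁) F Φ := by
  obtain ⟨hl, z, hz, hw, e, -⟩ := h
  exact polyX_congr _ e (polyX_square ((isPullback_of_classifies hl hz hw).paste_horiz (isPullback_projMap g₀)) _ hz hl
    (polyX_pullback (isPullback_projMap g₀) (isPullback_of_classifies hl hz hw) hF₀ hP))

/-- Classifying morphisms factor through a piece of the universal family. -/
theorem classifies_lift {U P₀ : Scheme.{u}} {g₀ : P₀ ⟶ S} {F₀ : (CohB1.ProjSpaceOver n P₀).Modules}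
    {φ₀ : pb (FGA.projMap n g₀) G ⟶ F₀} {ι : P₀ ⟶ Q} (hι : ι ≫ gQ = g₀)
    (hjg : FGA.projMap n ι ≫ FGA.projMap n gQ = FGA.projMap n g₀) (eP : pb (FGA.projMap n ι) FQ ≅ F₀)
    (heP : Grass.quotBC hjg φQ ≫ eP.hom = φ₀) {g₁ : U ⟶ S} {F : (CohB1.ProjSpaceOver n U).Modules}
    {φ : pb (FGA.projMap n g₁) G ⟶ F} {l : U ⟶ P₀}
    (h : Classifies φQ g₁ (FGA.projMap n g₁) (CohB1.ProjSpaceOver.toBase n U) φ (l ≫ ι)) :
    Classifies φ₀ g₁ (FGA.projMap n g₁) (CohB1.ProjSpaceOver.toBase n U) φ l := by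
  obtain ⟨hg, z, hz, hzw, e, he⟩ := h
  have hl : l ≫ g₀ = g₁ := by rw [← hι, ← Category.assoc]; exact hg
  let z' := FGA.projMap n l
  have hz' : z' ≫ FGA.projMap n g₀ = FGA.projMap n g₁ := (projMap_comp l g₀).trans (congrArg _ hl)
  have hzz : z' ≫ FGA.projMap n ι = z :=
    (isPullback_projMap gQ).hom_ext (by rw [Category.assoc, hjg, hz', hz])
      (by rw [Category.assoc, (isPullback_projMap ι).w, ← Category.assoc, (isPullback_projMap l).w, Category.assoc, hzw])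
  refine ⟨hl, z', hz', (isPullback_projMap l).w,
    (Scheme.Modules.pullback z').mapIso eP.symm ≪≫ (Scheme.Modules.pullbackComp z' (FGA.projMap n ι)).app FQ ≪≫
      (Scheme.Modules.pullbackCongr hzz).app FQ ≪≫ e, ?_⟩
  rw [← heP, quotBC_iso, Category.assoc, Iso.trans_hom, Functor.mapIso_hom, Iso.symm_hom,
    ← Functor.map_comp_assoc, Iso.hom_inv_id, CategoryTheory.Functor.map_id, Category.id_comp,
    Iso.trans_hom, Iso.trans_hom, Iso.app_hom, Iso.app_hom, ← Category.assoc,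
    quotBC_comp hjg hz' (by rw [Category.assoc, hjg, hz']), ← Category.assoc]
  exact (congrArg (· ≫ e.hom) (quotBC_congr hzz _ hz _)).trans he

/-- The glued classifying morphism classifies. -/
theorem classifies_of_cover [Epi φQ] {T : Scheme.{u}} {g : T ⟶ S} {F : (CohB1.ProjSpaceOver n T).Modules}
    (φ : pb (FGA.projMap n g) G ⟶ F) [Epi φ] {u : T ⟶ Q} (hug : u ≫ gQ = g) {I : Type u} {V : I → Scheme.{u}}
    (inc : ∀ a, V a ⟶ T) [∀ a, IsOpenImmersion (inc a)] (hcov : ∀ t, ∃ a, t ∈ Set.range (inc a))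
    (h : ∀ a, Classifies φQ (inc a ≫ g) (FGA.projMap n (inc a ≫ g)) (CohB1.ProjSpaceOver.toBase n _)
      (Grass.quotBC (projMap_comp (inc a) g) φ) (inc a ≫ u)) :
    Classifies φQ g (FGA.projMap n g) (CohB1.ProjSpaceOver.toBase n T) φ u := by
  let v := FGA.projMap n u
  have hv : v ≫ FGA.projMap n gQ = FGA.projMap n g := (projMap_comp u gQ).trans (congrArg _ hug)
  haveI := epi_quotBC hv φQ
  let k : ∀ a, CohB1.ProjSpaceOver n (V a) ⟶ CohB1.ProjSpaceOver n T := fun a => FGA.projMap n (inc a)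
  have hk : ∀ z, ∃ a, z ∈ Set.range (k a) := fun z =>
    let ⟨a, ha⟩ := hcov (CohB1.ProjSpaceOver.toBase n T z)
    ⟨a, (range_projMap (inc a) z).2 ha⟩
  obtain ⟨e, he⟩ := exists_iso_of_cover k hk (Grass.quotBC hv φQ) φ fun a => by
    obtain ⟨hla, z, hz, hzw, e, he⟩ := h a
    have hz' : z = k a ≫ v :=
      (isPullback_projMap gQ).hom_ext (by rw [hz, Category.assoc, hv, projMap_comp])
        (by rw [hzw, Category.assoc, (isPullback_projMap u).w, ← Category.assoc, ← Category.assoc,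
          (isPullback_projMap (inc a)).w])
    subst hz'
    refine ⟨(Scheme.Modules.pullbackComp (k a) v).app FQ ≪≫ e, ?_⟩
    have h1 := quotBC_comp hv (projMap_comp (inc a) g) hz φQ
    rw [← cancel_epi ((Scheme.Modules.pullbackComp (k a) (FGA.projMap n g)).inv.app G),
      ← cancel_epi ((Scheme.Modules.pullbackCongr (projMap_comp (inc a) g)).inv.app G)]
    refine Eq.trans ?_ he
    rw [← h1]
    simp only [Iso.trans_hom, Iso.app_hom, Category.assoc, Grass.quotBC]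
    rfl
  exact ⟨hug, v, hv, (isPullback_projMap u).w, e, he⟩

omit gQ FQ φQ in
theorem exists_classifier (P : Polynomial ℚ → Scheme.{u}) (gP : ∀ Φ, P Φ ⟶ S)
    (FP : ∀ Φ, (CohB1.ProjSpaceOver n (P Φ)).Modules) (φP : ∀ Φ, pb (FGA.projMap n (gP Φ)) G ⟶ FP Φ)
    (hPU : ∀ Φ, IsUniversalQuot Φ (gP Φ) (FP Φ) (φP Φ)) {Q : Scheme.{u}} {gQ : Q ⟶ S}
    {FQ : (CohB1.ProjSpaceOver n Q).Modules} {φQ : pb (FGA.projMap n gQ) G ⟶ FQ} [Epi φQ]
    (ι : ∀ Φ, P Φ ⟶ Q) [∀ Φ, IsOpenImmersion (ι Φ)] (hι : ∀ Φ, ι Φ ≫ gQ = gP Φ)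
    (hcov : ∀ z : Q, ∃ Φ, z ∈ Set.range (ι Φ))
    (hjg : ∀ Φ, FGA.projMap n (ι Φ) ≫ FGA.projMap n gQ = FGA.projMap n (gP Φ))
    (eP : ∀ Φ, pb (FGA.projMap n (ι Φ)) FQ ≅ FP Φ) (heP : ∀ Φ, Grass.quotBC (hjg Φ) φQ ≫ (eP Φ).hom = φP Φ)
    (T : Scheme.{u}) [IsLocallyNoetherian T] (g : T ⟶ S) (F : (CohB1.ProjSpaceOver n T).Modules) (hF : Coh.IsCoh F)
    (hfl : FlatMod.IsFlatOver (CohB1.ProjSpaceOver.toBase n T) F) (φ : pb (FGA.projMap n g) G ⟶ F) [Epi φ] :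
    ∃! u : T ⟶ Q, Classifies φQ g (FGA.projMap n g) (CohB1.ProjSpaceOver.toBase n T) φ u := by
  have hlc := isLocallyConstant_polyAt g hF hfl
  let TO : ULift.{u} (Polynomial ℚ) → T.Opens := fun a => ⟨polyAt g hF ⁻¹' {a.down}, hlc.isOpen_fiber _⟩
  let inc : ∀ a, (TO a : Scheme.{u}) ⟶ T := fun a => (TO a).ι
  have hTcov : iSup TO = ⊤ := eq_top_iff.2 fun t _ =>
    TopologicalSpace.Opens.mem_iSup.2 ⟨ULift.up (polyAt g hF t), rfl⟩
  have hu : ∀ a, ∃! l : (TO a : Scheme.{u}) ⟶ P a.down, Classifies (φP a.down) (inc a ≫ g)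
      (FGA.projMap n (inc a ≫ g)) (CohB1.ProjSpaceOver.toBase n _) (Grass.quotBC (projMap_comp (inc a) g) φ) l :=
    fun a => by
      haveI : IsLocallyNoetherian (TO a : Scheme.{u}) := isLocallyNoetherian_of_isOpenImmersion (inc a)
      obtain ⟨h1, h2, h3⟩ := exists_restrict (n := n) (inc a) (g := g) hF hfl φ
      exact (hPU a.down).2.2.2.2 _ _ _ _ _ (isPullback_projMap (inc a ≫ g)) _ h1 h2 _ h3
        (polyX_restrict _ g hF _ fun z => z.2)
  choose l hl hlu using hu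
  let 𝒰 := T.openCoverOfIsOpenCover TO hTcov
  let u : T ⟶ Q := 𝒰.glueMorphisms (fun a => l a ≫ ι a.down) fun a b => by
    by_cases hab : a = b
    · subst hab
      have : pullback.fst ((TO a).ι) ((TO a).ι) = pullback.snd _ _ := by
        rw [← cancel_mono (TO a).ι]; exact pullback.condition
      exact congrArg (· ≫ _) this
    · haveI : IsEmpty ↥(pullback ((TO a).ι) ((TO b).ι)) := ⟨fun z => by
        have h1 := (pullback.fst ((TO a).ι) ((TO b).ι) z).2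
        have h2 := (pullback.snd ((TO a).ι) ((TO b).ι) z).2
        have h3 : (TO a).ι (pullback.fst ((TO a).ι) ((TO b).ι) z) = (TO b).ι (pullback.snd ((TO a).ι) ((TO b).ι) z) := by
          rw [← Scheme.Hom.comp_apply, ← Scheme.Hom.comp_apply, pullback.condition]
        refine hab (ULift.down_injective ?_)
        exact (h1.symm.trans (congrArg (polyAt g hF) h3)).trans h2⟩
      exact (isInitialOfIsEmpty (X := pullback ((TO a).ι) ((TO b).ι))).hom_ext _ _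
  have hiu : ∀ a, inc a ≫ u = l a ≫ ι a.down := fun a => 𝒰.ι_glueMorphisms _ _ a
  have hug : u ≫ gQ = g := 𝒰.hom_ext _ _ fun a => by
    show inc a ≫ u ≫ gQ = inc a ≫ g
    rw [← Category.assoc, hiu, Category.assoc, hι]
    exact (hl a).1
  have hcl : ∀ a, Classifies φQ (inc a ≫ g) (FGA.projMap n (inc a ≫ g)) (CohB1.ProjSpaceOver.toBase n _)
      (Grass.quotBC (projMap_comp (inc a) g) φ) (inc a ≫ u) := fun a => by
    obtain ⟨hlg, v, hv, hvw, e, he⟩ := hl a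
    rw [hiu]
    exact classifies_comp (φQ := φQ) (φ := φP a.down)
      ⟨hι a.down, FGA.projMap n (ι a.down), hjg a.down, (isPullback_projMap (ι a.down)).w, eP a.down, heP a.down⟩
      hvw hlg hv _ e he
  refine ⟨u, classifies_of_cover φ hug inc (fun t => ⟨ULift.up (polyAt g hF t), ⟨⟨t, rfl⟩, rfl⟩⟩) hcl,
    fun u' hu' => ?_⟩
  refine 𝒰.hom_ext _ _ fun a => ?_
  show inc a ≫ u' = inc a ≫ u
  rw [hiu]
  have hres : ∀ {U : Scheme.{u}} (b : U ⟶ T), Classifies φQ (b ≫ g) (FGA.projMap n (b ≫ g))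
      (CohB1.ProjSpaceOver.toBase n U) (Grass.quotBC (projMap_comp b g) φ) (b ≫ u') := fun b =>
    classifies_comp hu' (isPullback_projMap b).w rfl (projMap_comp b g) _ (Iso.refl _) (Category.comp_id _)
  have hpt : Set.range (inc a ≫ u') ⊆ Set.range (ι a.down) := by
    rintro _ ⟨t, rfl⟩
    obtain ⟨b, hb⟩ := hcov ((inc a ≫ u') t)
    suffices b = a.down from this ▸ hb
    let V : (TO a : Scheme.{u}).Opens := (inc a ≫ u') ⁻¹ᵁ (ι b).opensRange
    let i' : (V : Scheme.{u}) ⟶ T := V.ι ≫ inc a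
    let l' : (V : Scheme.{u}) ⟶ P b := IsOpenImmersion.lift (ι b) (i' ≫ u') (by
      rintro _ ⟨z, rfl⟩
      rw [show i' ≫ u' = V.ι ≫ inc a ≫ u' from Category.assoc _ _ _]
      exact z.2)
    have hl' : l' ≫ ι b = i' ≫ u' := IsOpenImmersion.lift_fac _ _ _
    have h1 : Classifies (φP b) (i' ≫ g) (FGA.projMap n (i' ≫ g)) (CohB1.ProjSpaceOver.toBase n _)
        (Grass.quotBC (projMap_comp i' g) φ) l' :=
      classifies_lift (hι b) (hjg b) (eP b) (heP b) (hl' ▸ hres i')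
    have hP2 := polyX_of_classifies (hPU b).1 (hPU b).2.2.2.1 h1
    have hP3 := polyX_restrict i' g hF a.down fun z => (V.ι z).2
    have htV : t ∈ V := hb
    exact StratLib.eq_of_eval_int fun m => by rw [← hP2 ⟨t, htV⟩ m, ← hP3 ⟨t, htV⟩ m]
  let l' := IsOpenImmersion.lift (ι a.down) (inc a ≫ u') hpt
  have hl' : l' ≫ ι a.down = inc a ≫ u' := IsOpenImmersion.lift_fac _ _ _
  rw [← hl', hlu a l' (classifies_lift (hι _) (hjg _) (eP _) (heP _) (hl' ▸ hres (inc a)))]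

omit gQ FQ φQ in
theorem exists_universal_all_of (Pr : ∀ {Q : Scheme.{u}}, (Q ⟶ S) → Prop) (h : ∀ Φ : Polynomial ℚ, ∃ (Q : Scheme.{u}) (gQ : Q ⟶ S)
      (FQ : (CohB1.ProjSpaceOver n Q).Modules) (φQ : pb (FGA.projMap n gQ) G ⟶ FQ),
      IsLocallyNoetherian Q ∧
      Pr gQ ∧
      IsUniversalQuot Φ gQ FQ φQ) :
    ∃ (Q : Scheme.{u}) (gQ : Q ⟶ S) (FQ : (CohB1.ProjSpaceOver n Q).Modules)
      (φQ : pb (FGA.projMap n gQ) G ⟶ FQ),
      IsLocallyNoetherian Q ∧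
        (∃ (ι : Type u) (P : ι → Scheme.{u}) (e : (∐ P) ≅ Q), ∀ a, Pr (Limits.Sigma.ι P a ≫ e.hom ≫ gQ)) ∧
        IsUniversalAll G gQ FQ φQ := by
  choose P gP FP φP hPn hPc hPU using h
  let I : Type u := ULift.{u} (Polynomial ℚ)
  let PP : I → Scheme.{u} := fun a => P a.down
  let Q : Scheme.{u} := ∐ PP
  let gQ : Q ⟶ S := Limits.Sigma.desc fun a => gP a.down
  haveI : ∀ a : I, IsLocallyNoetherian (PP a) := fun a => hPn a.down
  haveI : IsLocallyNoetherian Q := by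
    refine (isLocallyNoetherian_iff_openCover (sigmaOpenCover PP)).2 fun a => ?_
    exact hPn _
  let ι : ∀ Φ, P Φ ⟶ Q := fun Φ => Limits.Sigma.ι PP (ULift.up Φ)
  have hι : ∀ Φ, ι Φ ≫ gQ = gP Φ := fun Φ => Limits.Sigma.ι_desc (fun a => gP a.down) (ULift.up Φ)
  have hcov : ∀ z : Q, ∃ Φ, z ∈ Set.range (ι Φ) := fun z =>
    let ⟨a, x, hx⟩ := (sigmaOpenCover PP).exists_eq z
    ⟨a.down, x, hx⟩
  haveI hoi : ∀ Φ, IsOpenImmersion (ι Φ) := fun Φ => inferInstanceAs (IsOpenImmersion (Limits.Sigma.ι PP _))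
  let j : ∀ a : I, CohB1.ProjSpaceOver n (PP a) ⟶ CohB1.ProjSpaceOver n Q := fun a => FGA.projMap n (ι a.down)
  have hjcov : ∀ z, ∃ a, z ∈ Set.range (j a) := fun z =>
    let ⟨Φ, hΦ⟩ := hcov (CohB1.ProjSpaceOver.toBase n Q z)
    ⟨ULift.up Φ, (range_projMap (ι Φ) z).2 hΦ⟩
  have hjdis : ∀ a b : I, a ≠ b → Disjoint (Set.range (j a)) (Set.range (j b)) := fun a b hab =>
    Set.disjoint_left.2 fun z ha hb => by
      have h := disjoint_opensRange_sigmaι PP a b hab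
      have h' : CohB1.ProjSpaceOver.toBase n Q z ∈
          (Limits.Sigma.ι PP a).opensRange ⊓ (Limits.Sigma.ι PP b).opensRange :=
        ⟨(range_projMap (ι a.down) z).1 ha, (range_projMap (ι b.down) z).1 hb⟩
      rw [disjoint_iff.1 h] at h'
      exact h'
  have hjg : ∀ Φ, FGA.projMap n (ι Φ) ≫ FGA.projMap n gQ = FGA.projMap n (gP Φ) := fun Φ =>
    (projMap_comp (ι Φ) gQ).trans (congrArg _ (hι Φ))
  let w : ∀ a : I, pb (j a) (pb (FGA.projMap n gQ) G) ≅ pb (FGA.projMap n (gP a.down)) G := fun a =>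
    (Scheme.Modules.pullbackComp (j a) _).app G ≪≫ (Scheme.Modules.pullbackCongr (hjg a.down)).app G
  obtain ⟨FQ, φQ, hφQ, hres⟩ := exists_glue_disjoint j hjcov hjdis (pb (FGA.projMap n gQ) G) (fun a => FP a.down)
    (fun a => (w a).hom ≫ φP a.down) (fun a => by haveI := (hPU a.down).2.1; exact epi_comp _ _)
  haveI := hφQ
  choose eP heP using hres
  have heP' : ∀ Φ, Grass.quotBC (hjg Φ) φQ ≫ (eP (ULift.up Φ)).hom = φP Φ := fun Φ => by
    have hw : Grass.quotBC (hjg Φ) φQ = (w (ULift.up Φ)).inv ≫ (Scheme.Modules.pullback (j (ULift.up Φ))).map φQ := by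
      simp only [Grass.quotBC, w, j, Iso.trans_inv, Iso.app_inv, Category.assoc]
    rw [hw, Category.assoc, heP, Iso.inv_hom_id_assoc]
  have hFQ : Coh.IsCoh FQ :=
    isCoh_of_openImmersions j hjcov FQ fun a => QCohLib.isCoh_of_iso (eP a).symm (hPU a.down).1
  have hQfl : FlatMod.IsFlatOver (CohB1.ProjSpaceOver.toBase n Q) FQ :=
    isFlatOver_of_openImmersions _ j hjcov FQ fun a x => by
      rw [(isPullback_projMap (ι a.down)).w]
      exact (RichLib.ModFlat.isFlatOverAt_comp_target (CohB1.ProjSpaceOver.toBase n (PP a)) (ι a.down) _ x).2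
        ((RichLib.ModFlat.isFlatOverAt_iso _ (eP a).symm x).1 ((hPU a.down).2.2.1 x))
  refine ⟨Q, gQ, FQ, φQ, inferInstance, ?_, hFQ, hφQ, hQfl, fun T _ g F hF hfl φ hφ =>
    exists_classifier P gP FP φP hPU ι hι hcov hjg (fun Φ => eP (ULift.up Φ)) heP' T g F hF hfl φ⟩
  refine ⟨I, PP, Iso.refl _, fun a => ?_⟩
  rw [Iso.refl_hom, Category.id_comp]
  exact (hι a.down).symm ▸ hPc a.down

omit gQ FQ φQ in
theorem exists_universal_all (h : ∀ Φ : Polynomial ℚ, ∃ (Q : Scheme.{u}) (gQ : Q ⟶ S)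
      (FQ : (CohB1.ProjSpaceOver n Q).Modules) (φQ : pb (FGA.projMap n gQ) G ⟶ FQ),
      IsLocallyNoetherian Q ∧
      (∃ (m : ℕ) (c : Q ⟶ CohB1.ProjSpaceOver m S), IsClosedImmersion c ∧
        c ≫ CohB1.ProjSpaceOver.toBase m S = gQ) ∧
      IsUniversalQuot Φ gQ FQ φQ) :
    ∃ (Q : Scheme.{u}) (gQ : Q ⟶ S) (FQ : (CohB1.ProjSpaceOver n Q).Modules)
      (φQ : pb (FGA.projMap n gQ) G ⟶ FQ),
      IsLocallyNoetherian Q ∧ HasProjPieces gQ ∧ IsUniversalAll G gQ FQ φQ := by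
  obtain ⟨Q, gQ, FQ, φQ, hQ, ⟨I, P, e, hP⟩, hU⟩ := exists_universal_all_of
    (fun {Q} gQ => ∃ (m : ℕ) (c : Q ⟶ CohB1.ProjSpaceOver m S), IsClosedImmersion c ∧
      c ≫ CohB1.ProjSpaceOver.toBase m S = gQ) h
  choose m c hc hcπ using hP
  exact ⟨Q, gQ, FQ, φQ, hQ, ⟨I, P, e, m, c, fun a => ⟨hc a, hcπ a⟩⟩, hU⟩

end QuotSchLib
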