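import Groth.Agent.QuotSchLib.Repr
import Groth.Agent.QuotSchLib.Union

/-!
# Representing all quotients on a closed subscheme of projective space
-/

set_option autoImplicit false
set_option linter.style.haveILetI false
set_option maxHeartbeats 1000000
universe u

open CategoryTheory CategoryTheory.Limits AlgebraicGeometry TopologicalSpace
open KFlatLib (pb)

noncomputable section

namespace QuotSchLib

variable {n : ℕ} {X S : Scheme.{u}} (i : X ⟶ CohB1.ProjSpaceOver n S) [IsClosedImmersion i] (E : X.Modules)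
  [Coh.IsQCoh E]

local notation "fX" => i ≫ CohB1.ProjSpaceOver.toBase n S

/-- A universal family for the direct image represents the quotient functor. -/
theorem repr_of_universalAll {Q : Scheme.{u}} [IsLocallyNoetherian Q] {gQ : Q ⟶ S}
    {FQ : (CohB1.ProjSpaceOver n Q).Modules} {φQ : pb (FGA.projMap n gQ) (iE i E) ⟶ FQ}
    (hU : IsUniversalAll (iE i E) gQ FQ φQ) :
    ∃ K : FGA.QuotSet fX E (Over.mk gQ), FGA.QuotRepresentedBy fX E (Over.mk gQ) K := by
  obtain ⟨hFQ, hφQ, hfl, huniv⟩ := hU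
  haveI := hφQ
  haveI : IsLocallyNoetherian (Over.mk gQ).left := inferInstanceAs (IsLocallyNoetherian Q)
  haveI := epi_toX i E (T := Over.mk gQ) φQ
  obtain ⟨hcX, hflX⟩ := coh_flat_toX i E (T := Over.mk gQ) φQ hFQ hfl
  obtain ⟨eQ, -⟩ := exists_coker_kernelSubobject (toX i E (T := Over.mk gQ) φQ)
  refine ⟨⟨kernelSubobject (toX i E (T := Over.mk gQ) φQ), QCohLib.isCoh_of_iso eQ.symm hcX,
    fun x => (RichLib.ModFlat.isFlatOverAt_iso _ eQ.symm x).1 (hflX x)⟩, inferInstance, fun T _ K' => ?_⟩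
  obtain ⟨φ, hφ, hF, hFfl, a, ha⟩ := exists_fromX i E K'.2.1 K'.2.2 (cokernel.π K'.1.arrow)
  haveI := hφ
  have hK : kernelSubobject (toX i E φ) = K'.1 :=
    (kernelSubobject_comp_mono (toX i E φ) a.hom).symm.trans
      ((by simp only [ha] : kernelSubobject (toX i E φ ≫ a.hom) = kernelSubobject (cokernel.π K'.1.arrow)).trans
        (kernelSubobject_cokernel_π _))
  obtain ⟨w, hw, hwu⟩ := huniv T.left T.hom _ hF hFfl φ hφ
  let g : T ⟶ Over.mk gQ := Over.homMk w hw.1
  refine ⟨g, ?_, fun g' hg' => Over.OverMorphism.ext (hwu _ ?_)⟩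
  · exact ((quotPull_eq_iff i E (Q := Over.mk gQ) φQ φ g).2 hw).trans hK
  · exact (quotPull_eq_iff i E (Q := Over.mk gQ) φQ φ g').1 (hg'.trans hK.symm)

/-- **The Quot scheme of a quotient of a free twisted module, with projective pieces.** -/
theorem exists_quot_scheme [AlgebraicGeometry.IsNoetherian S] (hS : GrassOK S) (hE : Coh.IsCoh E) (p : ℕ) (ν : ℤ)
    (π₀ : srcOver S n p ν ⟶ iE i E) [Epi π₀] :
    ∃ (Q : Over S) (K : FGA.QuotSet fX E Q), FGA.QuotRepresentedBy fX E Q K ∧ HasProjPieces Q.hom := by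
  haveI := isLocallyNoetherian_projSpaceOver n S
  have hiE : Coh.IsCoh (iE i E) := QCohLib.isCoh_push_finite i E hE
  obtain ⟨Q, gQ, FQ, φQ, hQ, hpc, hU⟩ := exists_universal_all (G := iE i E) fun Φ => by
    obtain ⟨Q₁, g₁, F₁, φ₁, hQ₁, ⟨r, c₁, hc₁, hcπ⟩, hU₁⟩ := exists_universal_src (n := n) hS p ν Φ
    haveI := hQ₁
    haveI := hc₁
    obtain ⟨Q', c, FQ, φQ, hc, hU'⟩ := exists_universal_sub (isCoh_srcOver n p ν) hiE.1 π₀ hU₁
    haveI := hc
    exact ⟨Q', c ≫ g₁, FQ, φQ, LocallyOfFiniteType.isLocallyNoetherian c,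
      ⟨r, c ≫ c₁, inferInstance, by rw [Category.assoc, hcπ]⟩, hU'⟩
  haveI := hQ
  obtain ⟨K, hK⟩ := repr_of_universalAll i E hU
  exact ⟨Over.mk gQ, K, hK, hpc⟩

end QuotSchLib
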