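import Groth.Agent.QuotSchLib.Exists
import Groth.Agent.QuotSchLib.DvrExt
import Groth.Agent.CohCmpLib.EulerConst
import Groth.Agent.DvrDom.Criteria
import Groth.Agent.PnCohLib.FlatTensor
import Groth.Agent.SerreVanLib.TwTensor

/-!
# The scheme of quotients is proper
-/

set_option autoImplicit false
set_option linter.style.haveILetI false
set_option maxHeartbeats 1000000
universe u

open CategoryTheory CategoryTheory.Limits AlgebraicGeometry TopologicalSpace
open KFlatLib (pb)

noncomputable section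

namespace QuotSchLib

variable {n : ℕ} {S : Scheme.{u}}

section Const

variable {T X' : Scheme.{u}} {g : T ⟶ S} {g' : X' ⟶ CohB1.ProjSpaceOver n S} {f' : X' ⟶ T}
  (H : IsPullback g' f' (CohB1.ProjSpaceOver.toBase n S) g) {M : X'.Modules}

theorem chi_eq_eulerChar (hM : Coh.IsCoh M) (t : T) (m : ℤ) :
    MumfordLib.chi (T.residueField t) (pb (fJ H t) M) m =
      PerfAux.eulerChar f' (CohB1.tensorMod M (pb g' (Twist.twistOver n S m))) t := by
  let k := T.residueField t
  letI : (f'.fiber t).Over (Spec (CommRingCat.of k)) := ⟨f'.fiberToSpecResidueField t⟩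
  have HZ : IsPullback (f'.fiberι t) (f'.fiber t ↘ Spec (CommRingCat.of k)) f' (T.fromSpecResidueField t) :=
    IsPullback.of_hasPullback _ _
  haveI : IsProper (f'.fiber t ↘ Spec (CommRingCat.of k)) := by
    haveI : IsProper f' := isProper_fam H
    exact MorphismProperty.of_isPullback HZ inferInstance
  have hd : topologicalKrullDim ↥(f'.fiber t) ≤ (n : ℕ) := by
    rw [← IsHomeomorph.topologicalKrullDim_eq _
      ((isPullback_fJ H t).isoIsPullback _ _ HZ).hom.homeomorph.isHomeomorph]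
    exact MumfordLib.dim_le k
  have hθ := KFlatLib.isIso_pullθ (f'.fiberι t) M (pb g' (Twist.twistOver n S m))
  rw [← eulerCharLE_model H t HZ hM (Iso.refl _), HilbPolyLib.eulerCharLE_eq hd]
  exact (CurvLib.euler_congr
    (@asIso _ _ _ _ (KFlatLib.pullθ (f'.fiberι t) M (pb g' (Twist.twistOver n S m))) hθ).symm).trans rfl

/-- **The Hilbert polynomial is constant along specialisations.** -/
theorem polyX_specializes [IsLocallyNoetherian T] (hM : Coh.IsCoh M) (hfl : FlatMod.IsFlatOver f' M) {t₀ t : T}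
    (h : t₀ ⤳ t) (m : ℤ) :
    MumfordLib.chi (T.residueField t₀) (pb (fJ H t₀) M) m = MumfordLib.chi (T.residueField t) (pb (fJ H t) M) m := by
  rw [chi_eq_eulerChar H hM, chi_eq_eulerChar H hM]
  haveI := isProper_fam H
  haveI := lfp_fam H
  haveI := isLocallyNoetherian_fam H
  haveI := hM.1
  have hL := AmpleDevLib.isInvertible_pb g' (PicPnLib.twistOver_inv n S m)
  have hfp := QCohLib.isFP_of_isCoh _ (SerreVanLib.isCoh_tensor hM hL)
  exact ((CohCmpLib.isLocallyConstant_eulerChar hfp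
    (PnCohLib.isFlatOver_tensor f' hfl hL)).exists_open t).elim fun U hU => hU.2.2 t₀ (h.mem_open hU.1 hU.2.1)

end Const

section Comp

variable {G : (CohB1.ProjSpaceOver n S).Modules} {Q : Scheme.{u}} {gQ : Q ⟶ S}
  {FQ : (CohB1.ProjSpaceOver n Q).Modules} {φQ : pb (FGA.projMap n gQ) G ⟶ FQ} {T X' : Scheme.{u}} {g : T ⟶ S}
  {g' : X' ⟶ CohB1.ProjSpaceOver n S} {f' : X' ⟶ T} {F : X'.Modules} {φ : pb g' G ⟶ F} {u : T ⟶ Q}

/-- The classifying morphism of a pulled back family is the composite. -/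
theorem classifies_comp (h : Classifies φQ g g' f' φ u) {U X'' : Scheme.{u}} {a : U ⟶ T} {a' : X'' ⟶ X'}
    {f'' : X'' ⟶ U} (hw : a' ≫ f' = f'' ≫ a) {g₂ : U ⟶ S} (hg : a ≫ g = g₂)
    {g₂' : X'' ⟶ CohB1.ProjSpaceOver n S} (hg' : a' ≫ g' = g₂') {F₂ : X''.Modules} (φ₂ : pb g₂' G ⟶ F₂)
    (e : pb a' F ≅ F₂) (he : Grass.quotBC hg' φ ≫ e.hom = φ₂) : Classifies φQ g₂ g₂' f'' φ₂ (a ≫ u) := by
  obtain ⟨hu, v, hv, hvw, e₀, he₀⟩ := h
  refine ⟨by rw [Category.assoc, hu, hg], a' ≫ v, by rw [Category.assoc, hv, hg'],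
    by rw [Category.assoc, hvw, ← Category.assoc, hw, Category.assoc],
    ((Scheme.Modules.pullbackComp a' v).app FQ).symm ≪≫ (Scheme.Modules.pullback a').mapIso e₀ ≪≫ e, ?_⟩
  rw [← he, ← he₀, quotBC_iso hg', ← quotBC_comp hv hg' (by rw [Category.assoc, hv, hg'])]
  simp only [Iso.trans_hom, Iso.symm_hom, Iso.app_inv, Functor.mapIso_hom, Category.assoc,
    Iso.hom_inv_id_app_assoc]

theorem classifies_self (φQ : pb (FGA.projMap n gQ) G ⟶ FQ) (x : T ⟶ Q) (hg : x ≫ gQ = g)
    (h : FGA.projMap n x ≫ FGA.projMap n gQ = FGA.projMap n g) :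
    Classifies φQ g (FGA.projMap n g) (CohB1.ProjSpaceOver.toBase n T) (Grass.quotBC h φQ) x :=
  ⟨hg, FGA.projMap n x, h, (isPullback_projMap x).w, Iso.refl _, Category.comp_id _⟩

end Comp

section Dvr

variable {A : Type u} [CommRing A] [IsDomain A] [IsDiscreteValuationRing A]

/-- The polynomial of a flat family over a discrete valuation ring is that of its generic fibre. -/
theorem polyX_of_generic {T' : Scheme.{u}} [IsLocallyNoetherian (Spec (CommRingCat.of A))] {y : Spec (CommRingCat.of A) ⟶ S} {X' : Scheme.{u}}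
    {g' : X' ⟶ CohB1.ProjSpaceOver n S} {f' : X' ⟶ Spec (CommRingCat.of A)}
    (H : IsPullback g' f' (CohB1.ProjSpaceOver.toBase n S) y) {u' : T' ⟶ X'}
    {f'' : T' ⟶ Spec (CommRingCat.of (FractionRing A))}
    (H' : IsPullback u' f'' f' (Spec.map (CommRingCat.ofHom (algebraMap A (FractionRing A))))) {F : X'.Modules}
    (hF : Coh.IsCoh F) (hfl : FlatMod.IsFlatOver f' F) {Φ : Polynomial ℚ}
    (hK : PolyX (H'.paste_horiz H) (pb u' F) Φ) : PolyX H F Φ := fun t m => by
  obtain ⟨z⟩ : Nonempty (Spec (CommRingCat.of (FractionRing A))) := inferInstance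
  let sp := Spec.map (CommRingCat.ofHom (algebraMap A (FractionRing A)))
  have hz : sp z ⤳ t := by
    have h0 : z.asIdeal = ⊥ := (Ideal.eq_bot_or_top z.asIdeal).resolve_right z.2.ne_top
    exact (PrimeSpectrum.le_iff_specializes (sp z) t).1 (by
      show (z.asIdeal.comap (algebraMap A (FractionRing A))) ≤ t.asIdeal
      rw [h0, ← RingHom.ker_eq_comap_bot, (RingHom.injective_iff_ker_eq_bot _).1
        (IsFractionRing.injective A (FractionRing A))]
      exact bot_le)
  rw [← polyX_specializes H hF hfl hz, ← chi_fJ_paste H H' F hF z m]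
  exact hK z m

end Dvr

theorem epi_quotBC {A B C : Scheme.{u}} {π : B ⟶ C} {E : C.Modules} {F : B.Modules} {h : A ⟶ B} {g : A ⟶ C}
    (hg : h ≫ π = g) (φ : (Scheme.Modules.pullback π).obj E ⟶ F) [Epi φ] : Epi (Grass.quotBC hg φ) := by
  haveI := Grass.epi_pullback_map h φ
  exact epi_comp' inferInstance (epi_comp' inferInstance this)

/-- The quotient read on a twice pulled back source. -/
theorem exists_read {A B C : Scheme.{u}} {w : A ⟶ B} {a : B ⟶ C} {b : A ⟶ C} (hw : w ≫ a = b) {E : C.Modules}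
    {F : A.Modules} (q : pb b E ⟶ F) [Epi q] :
    ∃ φK : pb w (pb a E) ⟶ F, Epi φK ∧
      ∀ (F' : B.Modules) (φ : pb a E ⟶ F') (e : pb w F' ≅ F),
        (Scheme.Modules.pullback w).map φ ≫ e.hom = φK → Grass.quotBC hw φ ≫ e.hom = q := by
  refine ⟨((Scheme.Modules.pullbackComp w a).app E ≪≫ (Scheme.Modules.pullbackCongr hw).app E).hom ≫ q,
    epi_comp _ _, fun F' φ e he => ?_⟩
  rw [Grass.quotBC, Category.assoc, Category.assoc, he]
  simp only [Iso.trans_hom, Iso.app_hom, Category.assoc]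
  erw [Iso.inv_hom_id_app_assoc, Iso.inv_hom_id_app_assoc]

/-- **The valuative criterion** for a universal family of quotients. -/
theorem dvrExistence_of_universal [IsLocallyNoetherian S] {G : (CohB1.ProjSpaceOver n S).Modules}
    (hG : Coh.IsCoh G) {Φ : Polynomial ℚ} {Q : Scheme.{u}}
    {gQ : Q ⟶ S} {FQ : (CohB1.ProjSpaceOver n Q).Modules}
    {φQ : pb (FGA.projMap n gQ) G ⟶ FQ} (hU : IsUniversalQuot Φ gQ FQ φQ) :
    DvrDomLib.DvrExistence gQ := by
  obtain ⟨hFQ, hφQ, hQfl, hQP, huniv⟩ := hU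
  intro A _ _ _ x y hxy
  let sp := Spec.map (CommRingCat.ofHom (algebraMap A (FractionRing A)))
  haveI : IsLocallyNoetherian (Spec (CommRingCat.of A)) := isLocallyNoetherian_Spec.2 inferInstance
  haveI : IsLocallyNoetherian (Spec (CommRingCat.of (FractionRing A))) := isLocallyNoetherian_Spec.2 inferInstance
  haveI : IsLocallyNoetherian (CohB1.ProjSpaceOver n (Spec (CommRingCat.of A))) :=
    isLocallyNoetherian_fam (isPullback_projMap (n := n) y)
  have hxQ : FGA.projMap n x ≫ FGA.projMap n gQ = FGA.projMap n (sp ≫ y) :=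
    (projMap_comp x gQ).trans (congrArg _ hxy)
  haveI := hφQ
  haveI := epi_quotBC hxQ φQ
  obtain ⟨φK, hφK, hread⟩ := exists_read (projMap_comp (n := n) sp y) (Grass.quotBC hxQ φQ)
  haveI := hφK
  haveI := hFQ.1
  have hFK : Coh.IsCoh (pb (FGA.projMap n x) FQ) := ConsLib.isCoh_pullback _ hFQ
  obtain ⟨F, φ, e, hF, hφ, hfl, he⟩ := exists_flat_extension (CohB1.ProjSpaceOver.toBase n _)
    (isPullback_projMap sp) (ConsLib.isCoh_pullback (FGA.projMap n y) hG) hFK.1 φK
  have HQ := isPullback_projMap (n := n) x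
  have hK : PolyX (isPullback_projMap (sp ≫ y)) (pb (FGA.projMap n x) FQ) Φ :=
    polyX_square (HQ.paste_horiz (isPullback_projMap gQ)) (isPullback_projMap (sp ≫ y)) hxQ hxy
      (polyX_pullback (isPullback_projMap gQ) HQ hFQ hQP)
  have hP : PolyX (isPullback_projMap y) F Φ :=
    polyX_of_generic (isPullback_projMap y) (isPullback_projMap sp) hF hfl
      (polyX_square (isPullback_projMap (sp ≫ y)) _ (projMap_comp sp y).symm rfl (polyX_congr _ e.symm hK))
  obtain ⟨l, hl, -⟩ := huniv _ _ y _ _ (isPullback_projMap y) F hF hfl φ hφ hP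
  refine ⟨l, hl.1, ?_⟩
  have hcl := classifies_comp hl (isPullback_projMap sp).w rfl (projMap_comp (n := n) sp y)
    (Grass.quotBC hxQ φQ) e (hread F φ e he)
  exact (huniv _ _ _ _ _ (isPullback_projMap (sp ≫ y)) _ hFK
    (RGFlatLib.isFlatOver_pullback_of_isPullback HQ FQ hQfl) _ inferInstance hK).unique
    hcl (classifies_self φQ x hxy hxQ)

/-- **The scheme of quotients is closed in a projective space.** -/
theorem exists_core_closed [AlgebraicGeometry.IsNoetherian S] (hS : GrassOK S) {p : ℕ} {ν : ℤ} (hν : 0 ≤ ν)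
    {Φ : Polynomial ℚ} (hst : Stable.{u} n p ν Φ) :
    ∃ (Q : Scheme.{u}) (gQ : Q ⟶ S) (FQ : (CohB1.ProjSpaceOver n Q).Modules)
      (φQ : pb (FGA.projMap n gQ) (srcOver S n p ν) ⟶ FQ),
      AlgebraicGeometry.IsNoetherian Q ∧
      (∃ (m : ℕ) (c : Q ⟶ CohB1.ProjSpaceOver m S), IsClosedImmersion c ∧
        c ≫ CohB1.ProjSpaceOver.toBase m S = gQ) ∧
      IsUniversalQuot Φ gQ FQ φQ := by
  obtain ⟨Q, gQ, FQ, φQ, hQ, ⟨m, c, hc, hcπ⟩, hU⟩ := exists_core (n := n) hS hν hst
  haveI := hc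
  haveI := hQ
  haveI : IsProper (CohB1.ProjSpaceOver.toBase m S) := ChowLib.isProper_toBase m S
  haveI : LocallyOfFiniteType gQ := hcπ ▸ inferInstance
  haveI : QuasiCompact gQ := quasiCompact_of_compactSpace gQ
  haveI : IsSeparated gQ := hcπ ▸ inferInstance
  haveI : UniversallyClosed gQ := DvrDomLib.universallyClosed_of_dvrExistence gQ (dvrExistence_of_universal (isCoh_srcOver n p ν) hU)
  haveI : IsProper c := by
    haveI : IsProper (c ≫ CohB1.ProjSpaceOver.toBase m S) := by rw [hcπ]; exact ⟨⟩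
    exact IsProper.of_comp c (CohB1.ProjSpaceOver.toBase m S)
  exact ⟨Q, gQ, FQ, φQ, hQ, ⟨m, c, IsClosedImmersion.of_isPreimmersion _ (c.isClosedMap.isClosed_range), hcπ⟩, hU⟩

end QuotSchLib
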