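import Groth.Agent.QuotSchLib.Gen
import Groth.Agent.CohCmpLib.PuSec
import Groth.Agent.CohCmpLib.PullOnComp

/-!
# The evaluation is compatible with base change
-/

set_option autoImplicit false
set_option linter.style.haveILetI false
set_option maxHeartbeats 1000000
universe u

open CategoryTheory CategoryTheory.Limits AlgebraicGeometry TopologicalSpace Opposite
open KFlatLib (pb puSec puSecLE)

noncomputable section

namespace QuotSchLib

variable {n : ℕ} {S T X' : Scheme.{u}} {g : T ⟶ S} {g' : X' ⟶ CohB1.ProjSpaceOver n S} {f' : X' ⟶ T}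
  (H : IsPullback g' f' (CohB1.ProjSpaceOver.toBase n S) g) {E : S.Modules} {G : (CohB1.ProjSpaceOver n S).Modules}
  (ev : (Scheme.Modules.pullback (CohB1.ProjSpaceOver.toBase n S)).obj E ⟶ G)

theorem evX_puSec {U : S.Opens} (m : Γ(E, U)) :
    (evX H ev).app (g ⁻¹ᵁ U) (puSec g m) =
      puSecLE g' G (CohCmp.sqLE (CohB1.ProjSpaceOver.toBase n S) g f' g' H.w U)
        (((Scheme.Modules.pullbackPushforwardAdjunction (CohB1.ProjSpaceOver.toBase n S)).homEquiv _ _ ev).app U m) := by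
  rw [evX_eq]
  exact (congrArg _ (KFlatLib.puSec_natural g _ m)).trans (CohCmpLib.bc0_puSec H.w G _)

/-- **Evaluations paste.** -/
theorem evX_paste {T₁ X₁ : Scheme.{u}} {g₁ : T₁ ⟶ S} {g₁' : X₁ ⟶ CohB1.ProjSpaceOver n S} {f₁ : X₁ ⟶ T₁}
    (H₁ : IsPullback g₁' f₁ (CohB1.ProjSpaceOver.toBase n S) g₁) {h : T ⟶ T₁} {v : X' ⟶ X₁}
    (Hh : IsPullback v f' f₁ h) (hg : h ≫ g₁ = g) (hv : v ≫ g₁' = g') :
    (Scheme.Modules.pullback h).map (evX H₁ ev) ≫ CohBC.bc0 f₁ h f' v Hh.w (pb g₁' G) ≫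
        (Scheme.Modules.pushforward f').map
          ((Scheme.Modules.pullbackComp v g₁').hom.app G ≫ (Scheme.Modules.pullbackCongr hv).hom.app G) =
      ((Scheme.Modules.pullbackComp h g₁).hom.app E ≫ (Scheme.Modules.pullbackCongr hg).hom.app E) ≫ evX H ev := by
  subst hg hv
  refine CohCmpLib.hom_ext_puSec₂ _ _ fun U m => ?_
  let χ := (Scheme.Modules.pullbackPushforwardAdjunction (CohB1.ProjSpaceOver.toBase n S)).homEquiv _ _ ev
  have hW₁ := CohCmp.sqLE (CohB1.ProjSpaceOver.toBase n S) g₁ f₁ g₁' H₁.w U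
  have hW₂ := CohCmp.sqLE f₁ h f' v Hh.w (g₁ ⁻¹ᵁ U)
  have l1 : ((Scheme.Modules.pullback h).map (evX H₁ ev)).app (h ⁻¹ᵁ (g₁ ⁻¹ᵁ U)) (puSec h (puSec g₁ m)) =
      puSec h (show Γ((Scheme.Modules.pushforward f₁).obj (pb g₁' G), g₁ ⁻¹ᵁ U) from puSecLE g₁' G hW₁ (χ.app U m)) :=
    (KFlatLib.puSec_natural h _ _).trans (congrArg (puSec h) (evX_puSec H₁ ev m))
  have l2 : (CohBC.bc0 f₁ h f' v Hh.w (pb g₁' G)).app (h ⁻¹ᵁ (g₁ ⁻¹ᵁ U))
      (puSec h (show Γ((Scheme.Modules.pushforward f₁).obj (pb g₁' G), g₁ ⁻¹ᵁ U) from puSecLE g₁' G hW₁ (χ.app U m))) =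
      puSecLE v (pb g₁' G) hW₂ (puSecLE g₁' G hW₁ (χ.app U m)) :=
    CohCmpLib.bc0_puSec Hh.w (pb g₁' G) _
  let cG := (Scheme.Modules.pullbackComp v g₁').hom.app G ≫ (Scheme.Modules.pullbackCongr rfl).hom.app G
  refine (congrArg (fun x => ((Scheme.Modules.pushforward f').map cG).app (h ⁻¹ᵁ (g₁ ⁻¹ᵁ U)) x)
    ((congrArg (fun x => (CohBC.bc0 f₁ h f' v Hh.w (pb g₁' G)).app (h ⁻¹ᵁ (g₁ ⁻¹ᵁ U)) x) l1).trans l2)).trans ?_
  refine Eq.trans ?_ (Eq.symm ((congrArg (fun x => (evX H ev).app ((h ≫ g₁) ⁻¹ᵁ U) x)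
    (CohCmpLib.pullbackComp_puSec h g₁ E m)).trans (evX_puSec H ev (U := U) m)))
  exact CohCmpLib.pullbackComp_puSecLE v g₁' G _ hW₁ hW₂

end QuotSchLib
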