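import Groth.Agent.QuotSchLib.Core
import Groth.Agent.RichLib.ModFlatGlobal

/-!
# The scheme of quotients with stable Hilbert polynomial
-/

set_option autoImplicit false
set_option linter.style.haveILetI false
set_option maxHeartbeats 1000000
universe u

open CategoryTheory CategoryTheory.Limits AlgebraicGeometry TopologicalSpace
open KFlatLib (pb)

noncomputable section

namespace QuotSchLib

variable {n : ℕ} {S : Scheme.{u}}

/-- A universal family of quotients with Hilbert polynomial `Φ`. -/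
def IsUniversalQuot {G : (CohB1.ProjSpaceOver n S).Modules} (Φ : Polynomial ℚ) {Q : Scheme.{u}} (gQ : Q ⟶ S)
    (FQ : (CohB1.ProjSpaceOver n Q).Modules) (φQ : pb (FGA.projMap n gQ) G ⟶ FQ) : Prop :=
  Coh.IsCoh FQ ∧ Epi φQ ∧ FlatMod.IsFlatOver (CohB1.ProjSpaceOver.toBase n Q) FQ ∧
    PolyX (isPullback_projMap gQ) FQ Φ ∧
    ∀ (T X' : Scheme.{u}) [IsLocallyNoetherian T] (g : T ⟶ S) (g' : X' ⟶ CohB1.ProjSpaceOver n S) (f' : X' ⟶ T)
      (H : IsPullback g' f' (CohB1.ProjSpaceOver.toBase n S) g) (F : X'.Modules), Coh.IsCoh F →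
      FlatMod.IsFlatOver f' F → ∀ φ : pb g' G ⟶ F, Epi φ → PolyX H F Φ →
      ∃! u : T ⟶ Q, Classifies φQ g g' f' φ u

/-- `Q` is a locally closed subscheme of a projective space over `S`. -/
def IsQuasiProj {Q : Scheme.{u}} (gQ : Q ⟶ S) : Prop :=
  ∃ (m : ℕ) (c : Q ⟶ CohB1.ProjSpaceOver m S), IsImmersion c ∧ c ≫ CohB1.ProjSpaceOver.toBase m S = gQ

/-- **Existence in the stable range.** -/
theorem exists_core [AlgebraicGeometry.IsNoetherian S] (hS : GrassOK S) {p : ℕ} {ν : ℤ} (hν : 0 ≤ ν)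
    {Φ : Polynomial ℚ} (hst : Stable.{u} n p ν Φ) :
    ∃ (Q : Scheme.{u}) (gQ : Q ⟶ S) (FQ : (CohB1.ProjSpaceOver n Q).Modules)
      (φQ : pb (FGA.projMap n gQ) (srcOver S n p ν) ⟶ FQ),
      AlgebraicGeometry.IsNoetherian Q ∧ IsQuasiProj gQ ∧ IsUniversalQuot Φ gQ FQ φQ := by
  obtain ⟨N, ev, hev⟩ := exists_ev n p ν hν S
  obtain ⟨Gr, πG, Qu, qu, hG, hprop, m, c, hc, hcπ⟩ := hS N ⌊Φ.eval 0⌋.toNat
  haveI := hc
  haveI : IsProper (CohB1.ProjSpaceOver.toBase m S) := ChowLib.isProper_toBase m S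
  haveI : LocallyOfFiniteType πG := inferInstance
  haveI : IsLocallyNoetherian Gr := LocallyOfFiniteType.isLocallyNoetherian πG
  haveI : CompactSpace Gr := QuasiCompact.compactSpace_of_compactSpace πG
  haveI : AlgebraicGeometry.IsNoetherian Gr := ⟨⟩
  haveI := hG.epi
  let C := cokernel (rel (n := n) (p := p) (ν := ν) ev πG qu)
  have hQu : Coh.IsCoh Qu := LocSuppLib.isCoh_of_isFinLocFree fun x => (hG.rank x).imp fun U h => ⟨_, h.1, h.2⟩
  have hK : Coh.IsCoh (kernel qu) := QCohLib.isCoh_kernel qu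
    (ConsLib.isCoh_pullback πG (LocSuppLib.isCoh_of_isFinLocFree fun _ => ⟨⊤, N, trivial,
      ⟨(Scheme.Modules.restrictFunctorIsoPullback _).app _ ≪≫ KFlatLib.pullFreeIso _ N⟩⟩)) hQu.1
  have hC : Coh.IsCoh C := QCohLib.isCoh_cokernel _ (ConsLib.isCoh_pullback _ hK).1
    (isCoh_srcX (isPullback_projMap πG) p ν)
  obtain ⟨Q, eZ, heZ, hZ⟩ := exists_stratum hC Φ
  haveI := heZ
  haveI : IsLocallyNoetherian Q := LocallyOfFiniteType.isLocallyNoetherian eZ
  haveI : AlgebraicGeometry.IsNoetherian Q := by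
    haveI : CompactSpace Q := by
      haveI := (Scheme.Hom.isEmbedding eZ).noetherianSpace
      infer_instance
    exact ⟨⟩
  let gQ := eZ ≫ πG
  let φQ : pb (FGA.projMap n gQ) (srcOver S n p ν) ⟶ pb (FGA.projMap n eZ) C :=
    Grass.quotBC (projMap_comp eZ πG) (cokernel.π _)
  obtain ⟨hQfl, hQP⟩ := (hZ Q eZ).2 ⟨𝟙 Q, Category.id_comp eZ⟩
  have htw : ∀ {T : Scheme.{u}} (a : T ⟶ Gr) (b : T ⟶ S) (d : ℤ),
      Nonempty (pb (FGA.projMap n a) (Twist.twistOver n Gr d) ≅ pb (FGA.projMap n b) (Twist.twistOver n S d)) :=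
    fun a b d => ⟨(nonempty_projMap_twist a d).some ≪≫ (nonempty_projMap_twist b d).some.symm⟩
  refine ⟨Q, gQ, pb (FGA.projMap n eZ) C, φQ, inferInstance, ⟨m, eZ ≫ c, inferInstance, ?_⟩,
    ConsLib.isCoh_pullback _ hC, ?_, hQfl,
    polyX_base (isPullback_projMap eZ) (isPullback_projMap gQ) (htw eZ gQ) (ConsLib.isCoh_pullback _ hC) hQP,
    fun T X' _ g g' f' H F hF hfl φ hφ hP => ?_⟩
  · rw [Category.assoc, hcπ]
  · haveI : Epi ((Scheme.Modules.pullback (FGA.projMap n eZ)).map (cokernel.π (rel (n := n) (p := p) (ν := ν) ev πG qu))) :=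
      Grass.epi_pullback_map _ _
    exact epi_comp' inferInstance (epi_comp' inferInstance this)
  haveI := hφ
  obtain ⟨hN, hNfl, hFreg, hNreg, -⟩ := family_regular H hst hF hfl φ hP
  have hFr := famPush_rank H hF hfl hFreg hP
  haveI : Epi (pushQuot ev H φ) := by
    haveI : Epi ((Scheme.Modules.pushforward f').map φ) :=
      famEpi_push H (S' := ShortComplex.mk (kernel.ι φ) φ (kernel.condition φ))
        (ShortComplex.ShortExact.mk (ShortComplex.exact_kernel φ)) hN hNfl hNreg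
    haveI := hev H
    exact epi_comp _ _
  -- the square over the Grassmannian
  have key : ∀ (h : T ⟶ Gr) (v : X' ⟶ CohB1.ProjSpaceOver n Gr), v ≫ FGA.projMap n πG = g' → h ≫ πG = g →
      v ≫ CohB1.ProjSpaceOver.toBase n Gr = f' ≫ h → IsPullback v f' (CohB1.ProjSpaceOver.toBase n Gr) h :=
    fun h v hv hg hw => IsPullback.of_right (hv.symm ▸ hg.symm ▸ H) hw (isPullback_projMap πG)
  refine existsUnique_of_exists_of_unique ?_ ?_
  · let h := hG.lift g _ hFr (pushQuot ev H φ) inferInstance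
    have hg : h ≫ πG = g := hG.lift_comp _ _ _ _ _
    let b := H.isoIsPullback _ _ (isPullback_projMap (n := n) g)
    have hb1 : b.hom ≫ FGA.projMap n g = g' := IsPullback.isoIsPullback_hom_fst _ _ _ _
    have hb2 : b.hom ≫ CohB1.ProjSpaceOver.toBase n T = f' := IsPullback.isoIsPullback_hom_snd _ _ _ _
    let v := b.hom ≫ FGA.projMap n h
    have hv : v ≫ FGA.projMap n πG = g' := by
      rw [Category.assoc, projMap_comp, hg, hb1]
    have hw : v ≫ CohB1.ProjSpaceOver.toBase n Gr = f' ≫ h := by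
      rw [Category.assoc, (isPullback_projMap h).w, ← Category.assoc, hb2]
    have Hh := key h v hv hg hw
    obtain ⟨e, he⟩ := exists_coker_iso ev πG qu H hg hv Hh hst hF hfl φ hP hG.epi (hev H)
      (hG.liftIso _ _ _ _ _) (hG.quotBC_liftIso _ _ _ _ _)
    have Hb : IsPullback b.inv (CohB1.ProjSpaceOver.toBase n T) f' (𝟙 T) :=
      IsPullback.of_horiz_isIso ⟨by rw [Category.comp_id, ← hb2, Iso.inv_hom_id_assoc]⟩
    let eC : pb b.inv F ≅ pb (FGA.projMap n h) C :=
      (Scheme.Modules.pullback b.inv).mapIso e.symm ≪≫ (Scheme.Modules.pullbackComp b.inv v).app C ≪≫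
        (Scheme.Modules.pullbackCongr (b.inv_hom_id_assoc _)).app C
    have hflat : FlatMod.IsFlatOver (CohB1.ProjSpaceOver.toBase n T) (pb (FGA.projMap n h) C) := by
      haveI := hF.1
      exact fun x => (RichLib.ModFlat.isFlatOverAt_iso _ eC x).1 (RGFlatLib.isFlatOver_pullback_of_isPullback Hb F hfl x)
    have hPh : PolyX (isPullback_projMap h) (pb (FGA.projMap n h) C) Φ := by
      have h1 : PolyX (Hb.paste_horiz H) (pb b.inv F) Φ := polyX_pullback H Hb hF hP
      have h2 : PolyX (isPullback_projMap g) (pb b.inv F) Φ :=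
        polyX_square (Hb.paste_horiz H) (isPullback_projMap g) (by rw [← hb1, Iso.inv_hom_id_assoc])
          (Category.id_comp g) h1
      refine polyX_congr _ eC (polyX_base (isPullback_projMap g) (isPullback_projMap h) (fun d => ?_)
        (ConsLib.isCoh_pullback _ hF) h2)
      exact ⟨(nonempty_projMap_twist g d).some ≪≫ (nonempty_projMap_twist h d).some.symm⟩
    obtain ⟨u, hu⟩ := (hZ T h).1 ⟨hflat, hPh⟩
    let vQ := b.hom ≫ FGA.projMap n u
    have hvv : vQ ≫ FGA.projMap n eZ = v := by rw [Category.assoc, projMap_comp, hu]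
    have hvQ : vQ ≫ FGA.projMap n gQ = g' := by
      rw [Category.assoc, projMap_comp]
      show b.hom ≫ FGA.projMap n (u ≫ eZ ≫ πG) = g'
      rw [← Category.assoc u, hu, hg, hb1]
    refine ⟨u, by rw [← Category.assoc, hu, hg], vQ, hvQ, ?_,
      (Scheme.Modules.pullbackComp vQ (FGA.projMap n eZ)).app C ≪≫
        (Scheme.Modules.pullbackCongr hvv).app C ≪≫ e, ?_⟩
    · rw [Category.assoc, (isPullback_projMap u).w, ← Category.assoc, hb2]
    · have h' : (vQ ≫ FGA.projMap n eZ) ≫ FGA.projMap n πG = g' := by rw [hvv, hv]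
      rw [Iso.trans_hom, Iso.trans_hom, Iso.app_hom, Iso.app_hom, ← Category.assoc, quotBC_comp _ hvQ h', ← he,
        ← Category.assoc]
      congr 1
      exact quotBC_congr hvv h' hv _
  · have uniq : ∀ u : T ⟶ Q, Classifies φQ g g' f' φ u →
        u ≫ eZ = hG.lift g _ hFr (pushQuot ev H φ) inferInstance := by
      rintro u ⟨hu, vQ, hvQ, hvw, e, he⟩
      have hg : (u ≫ eZ) ≫ πG = g := by rw [Category.assoc]; exact hu
      have hv : (vQ ≫ FGA.projMap n eZ) ≫ FGA.projMap n πG = g' := by rw [Category.assoc, projMap_comp]; exact hvQ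
      have hw : (vQ ≫ FGA.projMap n eZ) ≫ CohB1.ProjSpaceOver.toBase n Gr = f' ≫ u ≫ eZ := by
        rw [Category.assoc, (isPullback_projMap eZ).w, ← Category.assoc, hvw, Category.assoc]
      obtain ⟨e0, he0⟩ := exists_grass_iso ev πG qu H hg hv (key _ _ hv hg hw) hst hF hfl φ hP hG.rank hG.epi hFr
        (hev H) (((Scheme.Modules.pullbackComp vQ (FGA.projMap n eZ)).app C).symm ≪≫ e) (by
          rw [Iso.trans_hom, Iso.symm_hom, Iso.app_inv, ← quotBC_comp (projMap_comp eZ πG) hvQ hv, Category.assoc,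
            Iso.hom_inv_id_app_assoc]
          exact he)
      exact hG.lift_unique _ _ _ _ _ _ hg e0 he0
    intro u₁ u₂ h₁ h₂
    rw [← cancel_mono eZ, uniq u₁ h₁, uniq u₂ h₂]

end QuotSchLib
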