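import Groth.Agent.QuotSchLib.Regular
import Groth.Agent.MumfordLib.Main
import Groth.Agent.RDerLib.Delta

/-!
# Families of modules on a base change of projective space, fibre by fibre
-/

set_option autoImplicit false
set_option linter.style.haveILetI false
set_option maxHeartbeats 1000000
universe u

open CategoryTheory CategoryTheory.Limits AlgebraicGeometry TopologicalSpace
open KFlatLib (pb)

noncomputable section

namespace QuotSchLib

variable {n : ℕ} {S T X' : Scheme.{u}} {g : T ⟶ S} {g' : X' ⟶ CohB1.ProjSpaceOver n S} {f' : X' ⟶ T}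
  (H : IsPullback g' f' (CohB1.ProjSpaceOver.toBase n S) g)

/-- Coordinates on the fibre over a point, mapped to projective space over the original base. -/
def jS (n : ℕ) (g : T ⟶ S) (t : T) : CohB1.ProjSpace n (T.residueField t) ⟶ CohB1.ProjSpaceOver n S :=
  (PicPnLib.exists_square n (T.residueField t) (T.fromSpecResidueField t ≫ g)).choose

theorem isPullback_jS (n : ℕ) (g : T ⟶ S) (t : T) :
    IsPullback (jS n g t) (CohB1.ProjSpace.toSpec n (T.residueField t)) (CohB1.ProjSpaceOver.toBase n S)
      (T.fromSpecResidueField t ≫ g) :=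
  (PicPnLib.exists_square n (T.residueField t) (T.fromSpecResidueField t ≫ g)).choose_spec.1

theorem nonempty_jS_twist (n : ℕ) (g : T ⟶ S) (t : T) (d : ℤ) :
    Nonempty (pb (jS n g t) (Twist.twistOver n S d) ≅ Twist.twistProjSpace n (T.residueField t) d) :=
  (PicPnLib.exists_square n (T.residueField t) (T.fromSpecResidueField t ≫ g)).choose_spec.2 d

/-- Coordinates on the fibre of the family over a point. -/
def fJ (t : T) : CohB1.ProjSpace n (T.residueField t) ⟶ X' :=
  H.lift (jS n g t) (CohB1.ProjSpace.toSpec n (T.residueField t) ≫ T.fromSpecResidueField t)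
    ((isPullback_jS n g t).w.trans (Category.assoc _ _ _).symm)

theorem fJ_fst (t : T) : fJ H t ≫ g' = jS n g t := H.lift_fst _ _ _

theorem isPullback_fJ (t : T) :
    IsPullback (fJ H t) (CohB1.ProjSpace.toSpec n (T.residueField t)) f' (T.fromSpecResidueField t) :=
  IsPullback.of_right (h₁₂ := g') (by rw [fJ_fst]; exact isPullback_jS n g t) (H.lift_snd _ _ _) H

theorem nonempty_fJ_twist (t : T) (d : ℤ) :
    Nonempty (pb (fJ H t) (pb g' (Twist.twistOver n S d)) ≅ Twist.twistProjSpace n (T.residueField t) d) := by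
  obtain ⟨e⟩ := nonempty_jS_twist n g t d
  exact ⟨(Scheme.Modules.pullbackComp _ _).app _ ≪≫ (Scheme.Modules.pullbackCongr (fJ_fst H t)).app _ ≪≫ e⟩

theorem subsingleton_fiberH_fJ (t : T) (M : X'.Modules) [Coh.IsQCoh M] (p : ℕ) :
    Subsingleton (CohIII.fiberH f' M t p) ↔
      Subsingleton (Coh.HH (CohB1.ProjSpace n (T.residueField t)) (pb (fJ H t) M) p) := by
  have HF : IsPullback (f'.fiberι t) (f'.fiberToSpecResidueField t) f' (T.fromSpecResidueField t) :=
    IsPullback.of_hasPullback _ _
  let e : CohB1.ProjSpace n (T.residueField t) ≅ f'.fiber t := (isPullback_fJ H t).isoIsPullback _ _ HF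
  have he : e.hom ≫ f'.fiberι t = fJ H t := (isPullback_fJ H t).isoIsPullback_hom_fst _ _ HF
  haveI : Coh.IsQCoh (pb (f'.fiberι t) M) := KFlatLib.isQCoh_pullback _ M
  let i : (Scheme.Modules.pullback e.hom).obj (pb (f'.fiberι t) M) ≅ pb (fJ H t) M :=
    (Scheme.Modules.pullbackComp e.hom _).app M ≪≫ (Scheme.Modules.pullbackCongr he).app M
  show Subsingleton (Coh.HH (f'.fiber t) (pb (f'.fiberι t) M) p) ↔ _
  rw [← subsingleton_HH_pullback_iso e (pb (f'.fiberι t) M) p]
  exact ⟨fun h => SerreVanLib.subsingleton_HH_of_iso i.symm p h,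
    fun h => SerreVanLib.subsingleton_HH_of_iso i p h⟩

/-- Every fibre is `0`-regular. -/
def RegX (M : X'.Modules) : Prop :=
  ∀ t : T, Curv2.IsMRegular (T.residueField t) n (pb (fJ H t) M) 0

/-- Every fibre has Hilbert polynomial `Φ`. -/
def PolyX (M : X'.Modules) (Φ : Polynomial ℚ) : Prop :=
  ∀ (t : T) (m : ℤ), (MumfordLib.chi (T.residueField t) (pb (fJ H t) M) m : ℚ) = Φ.eval (m : ℚ)

include H in
theorem isProper_fam : IsProper f' :=
  haveI : IsProper (CohB1.ProjSpaceOver.toBase n S) := ChowLib.isProper_toBase n S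
  MorphismProperty.of_isPullback H inferInstance

include H in
theorem lfp_fam : LocallyOfFinitePresentation f' :=
  MorphismProperty.of_isPullback H (RichLib.FibreLoci.lfp_toBase n S)

include H in
theorem isLocallyNoetherian_fam [IsLocallyNoetherian T] : IsLocallyNoetherian X' :=
  haveI := isProper_fam H
  LocallyOfFiniteType.isLocallyNoetherian f'

variable [IsLocallyNoetherian T] {M : X'.Modules}

omit [IsLocallyNoetherian T] in
theorem RegX.subsingleton_fiberH [Coh.IsQCoh M] (h : RegX H M) (t : T) (p : ℕ) (hp : 1 ≤ p) :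
    Subsingleton (CohIII.fiberH f' M t p) := by
  rw [subsingleton_fiberH_fJ H]
  obtain ⟨e₀⟩ := PicPnLib.twist_zero n (T.residueField t)
  exact SerreVanLib.subsingleton_HH_of_iso
    ((PicPnLib.unitRight _).symm ≪≫ HilbPolyLib.congrRight _ e₀.symm) p
    (PnCohLib.vanishing_ge _ _ (KFlatLib.isQCoh_pullback (fJ H t) M) 0 (h t) p hp 0 (by omega))

variable (hM : Coh.IsCoh M) (hflat : FlatMod.IsFlatOver f' M) (hreg : RegX H M)

include H hM hflat hreg

/-- The direct image is finite locally free. -/
theorem famPush_finLocFree : FlatMod.IsFinLocFree ((Scheme.Modules.pushforward f').obj M) := by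
  haveI := isProper_fam H
  haveI := lfp_fam H
  haveI := isLocallyNoetherian_fam H
  haveI := hM.1
  exact fun t => CohCmpLib.exists_push_free_of_fibre_one (QCohLib.isFP_of_isCoh _ hM) hflat t
    (hreg.subsingleton_fiberH H t 1 le_rfl)

/-- The first direct image vanishes. -/
theorem famRpush_one : IsZero ((Coh.Rpush f' 1).obj M) := by
  haveI := isProper_fam H
  haveI := lfp_fam H
  haveI := isLocallyNoetherian_fam H
  haveI := hM.1
  haveI : HasInjectiveResolutions X'.Modules := inferInstance
  exact CohCmpLib.isZero_rpush_of_fibre (QCohLib.isFP_of_isCoh _ hM) hflat 1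
    fun t => hreg.subsingleton_fiberH H t 1 le_rfl

/-- The direct image commutes with base change. -/
theorem famIso_bc0 {X'' T' : Scheme.{u}} {u : T' ⟶ T} {f'' : X'' ⟶ T'} {u' : X'' ⟶ X'}
    (H' : IsPullback u' f'' f' u) : IsIso (CohBC.bc0 f' u f'' u' H'.w M) := by
  haveI := isProper_fam H
  haveI := lfp_fam H
  haveI := isLocallyNoetherian_fam H
  haveI := hM.1
  haveI : HasInjectiveResolutions X'.Modules := inferInstance
  exact CohCmpLib.isIso_bc0_of_fibre_one (QCohLib.isFP_of_isCoh _ hM) hflat H'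
    fun z => hreg.subsingleton_fiberH H (u z) 1 le_rfl

/-- The module is generated by its direct image. -/
theorem famEpi_counit : Epi ((Scheme.Modules.pullbackPushforwardAdjunction f').counit.app M) := by
  haveI := isProper_fam H
  haveI := isLocallyNoetherian_fam H
  haveI := hM.1
  have hP := famPush_finLocFree H hM hflat hreg
  haveI : Coh.IsQCoh ((Scheme.Modules.pushforward f' ⋙ Scheme.Modules.pullback f').obj M) :=
    haveI : Coh.IsQCoh ((Scheme.Modules.pushforward f').obj M) := (LocSuppLib.isCoh_of_isFinLocFree hP).1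
    KFlatLib.isQCoh_pullback f' _
  haveI : Coh.IsQCoh ((𝟭 X'.Modules).obj M) := hM.1
  refine CohCmpLib.epi_of_epi_pullbacks hM.2 _ fun x => ?_
  let t := f' x
  obtain ⟨z, hz⟩ : x ∈ Set.range (f'.fiberι t) := by rw [Scheme.Hom.range_fiberι]; rfl
  have HJ := isPullback_fJ H t
  have HF : IsPullback (f'.fiberι t) (f'.fiberToSpecResidueField t) f' (T.fromSpecResidueField t) :=
    IsPullback.of_hasPullback _ _
  let e : CohB1.ProjSpace n (T.residueField t) ≅ f'.fiber t := HJ.isoIsPullback _ _ HF
  have he : e.hom ≫ f'.fiberι t = fJ H t := HJ.isoIsPullback_hom_fst _ _ HF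
  refine ⟨_, fJ H t, e.inv z, ?_, ?_⟩
  · rw [← hz, ← he]
    simp [← Scheme.Hom.comp_apply]
  haveI := famIso_bc0 H hM hflat hreg HJ
  have hgg : Curv2.IsGloballyGenerated (pb (fJ H t) M) := by
    obtain ⟨e₀⟩ := PicPnLib.twist_zero n (T.residueField t)
    obtain ⟨ι, p, hp⟩ := PnCohLib.isGloballyGenerated_of_regular _ _ (KFlatLib.isQCoh_pullback (fJ H t) M) 0 (hreg t)
    exact ⟨ι, p ≫ (HilbPolyLib.congrRight _ e₀ ≪≫ PicPnLib.unitRight _).hom, epi_comp _ _⟩
  have := epi_counit_of_isGloballyGenerated (CohB1.ProjSpace.toSpec n (T.residueField t)) hgg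
  have e' := CohCmpLib.bc0_counit HJ.w M
  have : Epi ((CohCmpLib.sqIso HJ.w).hom.app ((Scheme.Modules.pushforward f').obj M) ≫
      (Scheme.Modules.pullback (fJ H t)).map ((Scheme.Modules.pullbackPushforwardAdjunction f').counit.app M)) := by
    rw [← e']
    exact epi_comp _ _
  exact epi_of_epi ((CohCmpLib.sqIso HJ.w).hom.app _) _

omit hM hflat hreg in
/-- The direct image of a quotient with regular kernel is a quotient. -/
theorem famEpi_push {S' : ShortComplex X'.Modules} (hS : S'.ShortExact) (hN : Coh.IsCoh S'.X₁)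
    (hNfl : FlatMod.IsFlatOver f' S'.X₁) (hNreg : RegX H S'.X₁) :
    Epi ((Scheme.Modules.pushforward f').map S'.g) := by
  haveI := isProper_fam H
  haveI : HasInjectiveResolutions X'.Modules := inferInstance
  let Δ := Groth.Agent.RDerLib.derivedLES (Scheme.Modules.pushforward f')
  have h3 := Δ.exact₃ S' hS 0 1 rfl
  haveI : Epi (((Scheme.Modules.pushforward f').rightDerived 0).map S'.g) :=
    h3.epi_f ((famRpush_one H hN hNfl hNreg).eq_of_tgt _ _)
  have : PreservesFiniteLimits (Scheme.Modules.pushforward f') := CohCmpLib.preservesFiniteLimits_push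
  let η := (Scheme.Modules.pushforward f').rightDerivedZeroIsoSelf
  have hn := η.hom.naturality S'.g
  have he : (Scheme.Modules.pushforward f').map S'.g =
      η.inv.app S'.X₂ ≫ ((Scheme.Modules.pushforward f').rightDerived 0).map S'.g ≫ η.hom.app S'.X₃ := by
    rw [hn, Iso.inv_hom_id_app_assoc]
  rw [he]
  exact epi_comp _ _

end QuotSchLib
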