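import Groth.Agent.QuotSchLib.XT
import Groth.Agent.RGFlatLib.EtaleFlat
import Groth.Agent.ConsLib.ModLoci

/-!
# Vanishing loci of homomorphisms into flat families over a locally Noetherian base
-/

set_option autoImplicit false
set_option linter.style.haveILetI false
set_option maxHeartbeats 1000000
universe u

open CategoryTheory CategoryTheory.Limits AlgebraicGeometry TopologicalSpace
open KFlatLib (pb)

noncomputable section

namespace QuotSchLib

/-- A base change of a closed subscheme of projective space is one again. -/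
theorem exists_closed_baseChange {n : ℕ} {X S X' T : Scheme.{u}} (i : X ⟶ CohB1.ProjSpaceOver n S)
    [IsClosedImmersion i] {g' : X' ⟶ X} {f' : X' ⟶ T} {g : T ⟶ S}
    (H : IsPullback g' f' (i ≫ CohB1.ProjSpaceOver.toBase n S) g) :
    ∃ i' : X' ⟶ CohB1.ProjSpaceOver n T, IsClosedImmersion i' ∧ i' ≫ CohB1.ProjSpaceOver.toBase n T = f' := by
  obtain ⟨bP, hbP⟩ := RichLib.FibreLoci.isPullback_toBase n g
  let i' : X' ⟶ CohB1.ProjSpaceOver n T := hbP.lift (g' ≫ i) f' (by rw [Category.assoc, H.w])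
  have h1 : i' ≫ bP = g' ≫ i := hbP.lift_fst _ _ _
  have h2 : i' ≫ CohB1.ProjSpaceOver.toBase n T = f' := hbP.lift_snd _ _ _
  have H' : IsPullback g' i' i bP := IsPullback.of_bot (by rw [h2]; exact H) h1.symm hbP
  exact ⟨i', MorphismProperty.of_isPullback H' inferInstance, h2⟩

/-- Vanishing does not depend on the choice of the base changed family. -/
theorem map_eq_zero_of_square {X T U X₁ X₂ : Scheme.{u}} {f : X ⟶ T} {u : U ⟶ T} {a₁ : X₁ ⟶ X} {b₁ : X₁ ⟶ U}
    {a₂ : X₂ ⟶ X} {b₂ : X₂ ⟶ U} (H₁ : IsPullback a₁ b₁ f u) (H₂ : IsPullback a₂ b₂ f u) {A B : X.Modules}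
    (ψ : A ⟶ B) (h : (Scheme.Modules.pullback a₁).map ψ = 0) : (Scheme.Modules.pullback a₂).map ψ = 0 := by
  have e : (H₂.isoIsPullback _ _ H₁).hom ≫ a₁ = a₂ := H₂.isoIsPullback_hom_fst _ _ H₁
  rw [← e]
  exact (pullback_comp_map_eq_zero_iff ψ _ a₁).1 (by rw [h, Functor.map_zero])

variable {n : ℕ} {X S : Scheme.{u}}

/-- **The vanishing locus of a homomorphism into a flat family over a locally Noetherian base is closed.** -/
theorem exists_homZero_loc (i : X ⟶ CohB1.ProjSpaceOver n S) [IsClosedImmersion i] {X' T : Scheme.{u}}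
    [IsLocallyNoetherian T] {g' : X' ⟶ X} {f' : X' ⟶ T} {g : T ⟶ S}
    (H : IsPullback g' f' (i ≫ CohB1.ProjSpaceOver.toBase n S) g) {A B : X'.Modules} (hA : Coh.IsCoh A)
    (hB : Coh.IsCoh B) (hfl : FlatMod.IsFlatOver f' B) (ψ : A ⟶ B) :
    ∃ (Z : Scheme.{u}) (c : Z ⟶ T), IsClosedImmersion c ∧
      ∀ {U X'' : Scheme.{u}} (u : U ⟶ T) {u' : X'' ⟶ X'} {f'' : X'' ⟶ U}, IsPullback u' f'' f' u →
        ((Scheme.Modules.pullback u').map ψ = 0 ↔ ∃ l : U ⟶ Z, l ≫ c = u) := by
  let P : ∀ U : Scheme.{u}, (U ⟶ T) → Prop := fun U u => (Scheme.Modules.pullback (pullback.fst f' u)).map ψ = 0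
  haveI : IsProper (CohB1.ProjSpaceOver.toBase n S) := ChowLib.isProper_toBase n S
  haveI : IsProper f' := MorphismProperty.of_isPullback H inferInstance
  haveI : IsLocallyNoetherian X' := LocallyOfFiniteType.isLocallyNoetherian f'
  haveI := hA.1
  haveI := hB.1
  have hlocal : ∀ t : T, ∃ (W : T.Opens) (Zl : Scheme.{u}) (il : Zl ⟶ (W : Scheme.{u})), t ∈ W ∧
      IsClosedImmersion il ∧
      ∀ (U : Scheme.{u}) (u : U ⟶ (W : Scheme.{u})), P U (u ≫ W.ι) ↔ ∃ l : U ⟶ Zl, l ≫ il = u := fun t => by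
    obtain ⟨W, hW, htW, -⟩ := exists_isAffineOpen_mem_and_subset (X := T) (x := t) (U := ⊤) trivial
    haveI : IsAffine (W : Scheme.{u}) := hW
    haveI : CompactSpace (W : Scheme.{u}) := isCompact_iff_compactSpace.mp hW.isCompact
    haveI : AlgebraicGeometry.IsNoetherian (W : Scheme.{u}) := {}
    let p := pullback.fst f' W.ι
    let q := pullback.snd f' W.ι
    have HW : IsPullback p q f' W.ι := IsPullback.of_hasPullback _ _
    obtain ⟨iW, hiW, hiWq⟩ := exists_closed_baseChange i (HW.paste_horiz H)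
    haveI : IsProper (CohB1.ProjSpaceOver.toBase n (W : Scheme.{u})) := ChowLib.isProper_toBase n _
    haveI : IsProper (iW ≫ CohB1.ProjSpaceOver.toBase n (W : Scheme.{u})) := inferInstance
    haveI : IsProper q := hiWq ▸ ‹IsProper (iW ≫ CohB1.ProjSpaceOver.toBase n (W : Scheme.{u}))›
    haveI : LocallyOfFinitePresentation q := RichLib.FibreLoci.lfp_of_isLocallyNoetherian q
    let L := (Scheme.Modules.pullback iW).obj (Twist.twistOver n (W : Scheme.{u}) 1)
    have hL : PicF.IsInvertible L := AmpleDevLib.isInvertible_pb iW (PicPnLib.twistOver_inv n _ 1)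
    have ha : ∀ V : (W : Scheme.{u}).Opens, IsAffineOpen V → CohB1.IsAmple (L.restrict (q ⁻¹ᵁ V).ι) := by
      intro V hV
      have := PnCohLib.isAmple_twist_restrict iW hV
      rwa [hiWq] at this
    haveI : IsIso (𝟙 (pullback f' W.ι)) := inferInstance
    obtain ⟨Z, c, hc, hu⟩ := exists_homZero (f := q) L hL ha
      ((Scheme.Modules.pullback p).obj A) ((Scheme.Modules.pullback p).obj B)
      (ConsLib.isCoh_pullback p hA) (ConsLib.isCoh_pullback p hB)
      (RGFlatLib.isFlatOver_pullback_of_isPullback HW B hfl) (IsPullback.id_horiz q)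
      ((Scheme.Modules.pullback (𝟙 _)).map ((Scheme.Modules.pullback p).map ψ))
    refine ⟨W, Z, c, htW, hc, fun U u => ?_⟩
    have H₂ : IsPullback (pullback.fst q u) (pullback.snd q u) q u := IsPullback.of_hasPullback _ _
    rw [← hu u H₂]
    constructor
    · intro h
      have h' := map_eq_zero_of_square (IsPullback.of_hasPullback f' (u ≫ W.ι)) (H₂.paste_horiz HW) ψ h
      rw [pullback_comp_map_eq_zero_iff _ _ (𝟙 _), Category.comp_id]
      exact (pullback_comp_map_eq_zero_iff ψ _ p).2 h'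
    · intro h
      rw [pullback_comp_map_eq_zero_iff _ _ (𝟙 _), Category.comp_id] at h
      exact map_eq_zero_of_square (H₂.paste_horiz HW) (IsPullback.of_hasPullback f' (u ≫ W.ι)) ψ
        ((pullback_comp_map_eq_zero_iff ψ _ p).1 h)
  obtain ⟨Z, c, hc, hu⟩ := RankLocusLib.exists_immersion_of_local (P := P)
    (fun {U} u V h => by
      refine map_eq_zero_of_square ((IsPullback.of_hasPullback (pullback.snd f' u) V.ι).paste_horiz
        (IsPullback.of_hasPullback f' u)) (IsPullback.of_hasPullback f' (V.ι ≫ u)) ψ ?_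
      exact (pullback_comp_map_eq_zero_iff ψ _ _).1 (by rw [h, Functor.map_zero]))
    (fun {U} u h => eq_zero_of_nhds _ fun z => by
      obtain ⟨V, hV, hP⟩ := h (pullback.snd f' u z)
      refine ⟨pullback.snd f' u ⁻¹ᵁ V, hV, (pullback_comp_map_eq_zero_iff ψ _ _).2 ?_⟩
      exact map_eq_zero_of_square (IsPullback.of_hasPullback f' (V.ι ≫ u))
        ((isPullback_morphismRestrict (pullback.snd f' u) V).flip.paste_horiz (IsPullback.of_hasPullback f' u)) ψ hP)
    (fun t => by
      obtain ⟨W, Zl, il, ht, hil, hul⟩ := hlocal t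
      exact ⟨W, ht, Zl, il, inferInstance, hul⟩)
  refine ⟨Z, c, RankLocusLib.property_of_local (P := P) @IsClosedImmersion c hu fun t => ?_,
    fun {U X''} u {u' f''} H' => ?_⟩
  · obtain ⟨W, Zl, il, ht, hil, hul⟩ := hlocal t
    exact ⟨W, Zl, il, ht, inferInstance, hil, hul⟩
  · rw [hu U u]
    exact ⟨map_eq_zero_of_square H' (IsPullback.of_hasPullback f' u) ψ,
      map_eq_zero_of_square (IsPullback.of_hasPullback f' u) H' ψ⟩

end QuotSchLib
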