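import Groth.Agent.QuotSchLib.Family

/-!
# Hilbert polynomials of the fibres under base change
-/

set_option autoImplicit false
set_option linter.style.haveILetI false
set_option maxHeartbeats 1000000
universe u

open CategoryTheory CategoryTheory.Limits AlgebraicGeometry TopologicalSpace
open KFlatLib (pb)

noncomputable section

namespace QuotSchLib

variable {n : ℕ} {S T X' : Scheme.{u}} {g : T ⟶ S} {g' : X' ⟶ CohB1.ProjSpaceOver n S} {f' : X' ⟶ T}
  (H : IsPullback g' f' (CohB1.ProjSpaceOver.toBase n S) g)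

theorem polyX_congr {M M' : X'.Modules} (e : M ≅ M') {Φ : Polynomial ℚ} (h : PolyX H M Φ) : PolyX H M' Φ :=
  fun t m => by
    rw [← h t m, MumfordLib.chi_congr (T.residueField t) ((Scheme.Modules.pullback (fJ H t)).mapIso e)]

/-- Euler characteristics of fibres are insensitive to base change. -/
theorem chi_fJ_paste {U X'' : Scheme.{u}} {u : U ⟶ T} {f'' : X'' ⟶ U} {u' : X'' ⟶ X'}
    (H' : IsPullback u' f'' f' u) (M : X'.Modules) (hM : Coh.IsCoh M) (z : U) (m : ℤ) :
    MumfordLib.chi (U.residueField z) (pb (fJ (H'.paste_horiz H) z) (pb u' M)) m =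
      MumfordLib.chi (T.residueField (u z)) (pb (fJ H (u z)) M) m := by
  letI : Algebra (T.residueField (u z)) (U.residueField z) := (u.residueFieldMap z).hom.toAlgebra
  let k := T.residueField (u z)
  let K := U.residueField z
  let J := fJ (H'.paste_horiz H) z
  have hsp : Spec.map (CommRingCat.ofHom (algebraMap k K)) ≫ T.fromSpecResidueField (u z) =
      U.fromSpecResidueField z ≫ u := Scheme.Hom.SpecMap_residueFieldMap_fromSpecResidueField u z
  have HK : IsPullback (J ≫ u') (CohB1.ProjSpace.toSpec n K) f' (U.fromSpecResidueField z ≫ u) :=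
    (isPullback_fJ (H'.paste_horiz H) z).paste_horiz H'
  have HT := isPullback_fJ H (u z)
  let G : CohB1.ProjSpace n K ⟶ CohB1.ProjSpace n k :=
    HT.lift (J ≫ u') (CohB1.ProjSpace.toSpec n K ≫ Spec.map (CommRingCat.ofHom (algebraMap k K)))
      (by rw [Category.assoc _ (Spec.map (CommRingCat.ofHom (algebraMap k K))), hsp]; exact HK.w)
  have hGfst : G ≫ fJ H (u z) = J ≫ u' := HT.lift_fst _ _ _
  have hg : IsPullback G (CohB1.ProjSpace.toSpec n K) (CohB1.ProjSpace.toSpec n k)
      (Spec.map (CommRingCat.ofHom (algebraMap k K))) :=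
    IsPullback.of_right (h₁₂ := fJ H (u z)) (by rw [hGfst, hsp]; exact HK) (HT.lift_snd _ _ _) HT
  have hd : ∀ d : ℤ, Nonempty ((Scheme.Modules.pullback G).obj (Twist.twistProjSpace n k d) ≅
      Twist.twistProjSpace n K d) := fun d => by
    obtain ⟨e⟩ := nonempty_fJ_twist H (u z) d
    obtain ⟨e'⟩ := nonempty_fJ_twist (H'.paste_horiz H) z d
    exact ⟨(Scheme.Modules.pullback G).mapIso e.symm ≪≫ (Scheme.Modules.pullbackComp _ _).app _ ≪≫
      (Scheme.Modules.pullbackCongr hGfst).app _ ≪≫ ((Scheme.Modules.pullbackComp J u').app _).symm ≪≫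
      (Scheme.Modules.pullback J).mapIso ((Scheme.Modules.pullbackComp u' g').app _) ≪≫ e'⟩
  have eM : pb G (pb (fJ H (u z)) M) ≅ pb J (pb u' M) :=
    (Scheme.Modules.pullbackComp _ _).app _ ≪≫ (Scheme.Modules.pullbackCongr hGfst).app _ ≪≫
      ((Scheme.Modules.pullbackComp J u').app _).symm
  rw [← MumfordLib.chi_congr K eM m]
  unfold MumfordLib.chi FGA.eulerCharLE
  exact Finset.sum_congr rfl fun j _ => by
    rw [MumfordLib.finrank_field k G hg hd _ (ConsLib.isCoh_pullback _ hM) m j]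

theorem polyX_pullback {U X'' : Scheme.{u}} {u : U ⟶ T} {f'' : X'' ⟶ U} {u' : X'' ⟶ X'}
    (H' : IsPullback u' f'' f' u) {M : X'.Modules} (hM : Coh.IsCoh M) {Φ : Polynomial ℚ} (h : PolyX H M Φ) :
    PolyX (H'.paste_horiz H) (pb u' M) Φ := fun z m => by
  rw [chi_fJ_paste H H' M hM z m, h]

/-- A family over a reindexed square has the same fibre polynomials. -/
theorem polyX_square {g'₂ : X' ⟶ CohB1.ProjSpaceOver n S} {g₂ : T ⟶ S}
    (H₂ : IsPullback g'₂ f' (CohB1.ProjSpaceOver.toBase n S) g₂) (h' : g' = g'₂) (h₂ : g = g₂) {M : X'.Modules}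
    {Φ : Polynomial ℚ} (h : PolyX H M Φ) : PolyX H₂ M Φ := by
  subst h' h₂; exact h

end QuotSchLib

noncomputable section

namespace QuotSchLib

variable {n : ℕ} {S T X' : Scheme.{u}} {g : T ⟶ S} {g' : X' ⟶ CohB1.ProjSpaceOver n S} {f' : X' ⟶ T}
  (H : IsPullback g' f' (CohB1.ProjSpaceOver.toBase n S) g)

/-- Euler characteristics on any model of the fibre. -/
theorem eulerCharLE_model (t : T) {Z : Scheme.{u}} [Z.Over (Spec (CommRingCat.of (T.residueField t)))]
    {a : Z ⟶ X'} (HZ : IsPullback a (Z ↘ Spec (CommRingCat.of (T.residueField t))) f' (T.fromSpecResidueField t))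
    {M : X'.Modules} (hM : Coh.IsCoh M) {L : Z.Modules} {m : ℤ} (hL : L ≅ pb a (pb g' (Twist.twistOver n S m))) :
    FGA.eulerCharLE (T.residueField t) Z (CohB1.tensorMod (pb a M) L) n =
      MumfordLib.chi (T.residueField t) (pb (fJ H t) M) m := by
  let k := T.residueField t
  let e : CohB1.ProjSpace n k ≅ Z := (isPullback_fJ H t).isoIsPullback _ _ HZ
  have he1 : e.hom ≫ a = fJ H t := (isPullback_fJ H t).isoIsPullback_hom_fst _ _ HZ
  have he2 : e.hom ≫ (Z ↘ Spec (CommRingCat.of k)) = CohB1.ProjSpace.toSpec n k :=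
    (isPullback_fJ H t).isoIsPullback_hom_snd _ _ HZ
  haveI := MumfordLib.isProper_projSpace (n := n) k
  haveI : IsProper (CohB1.ProjSpace.toSpec n k) := MumfordLib.isProper_projSpace (n := n) k
  haveI : IsProper (Z ↘ Spec (CommRingCat.of k)) := by
    haveI : IsProper f' := isProper_fam H
    exact MorphismProperty.of_isPullback HZ inferInstance
  haveI : CompactSpace Z := QuasiCompact.compactSpace_of_compactSpace (Z ↘ Spec (CommRingCat.of k))
  haveI : QuasiSeparatedSpace Z := quasiSeparatedSpace_of_quasiSeparated (Z ↘ Spec (CommRingCat.of k))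
  have hg : IsPullback e.hom (CohB1.ProjSpace.toSpec n k) (Z ↘ Spec (CommRingCat.of k))
      (Spec.map (CommRingCat.ofHom (algebraMap k k))) :=
    haveI : IsIso (Spec.map (CommRingCat.ofHom (algebraMap k k))) := by
      rw [show CommRingCat.ofHom (algebraMap k k) = 𝟙 (CommRingCat.of k) from rfl]
      infer_instance
    IsPullback.of_horiz_isIso ⟨by
      rw [he2, show CommRingCat.ofHom (algebraMap k k) = 𝟙 (CommRingCat.of k) from rfl, Spec.map_id, Category.comp_id]⟩
  haveI := hM.1
  haveI hq : Coh.IsQCoh (pb a M) := KFlatLib.isQCoh_pullback a M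
  have hLi : PicF.IsInvertible L := HilbPolyLib.isInvertible_of_iso hL.symm
    (AmpleDevLib.isInvertible_pb a (AmpleDevLib.isInvertible_pb g' (PicPnLib.twistOver_inv n S m)))
  haveI : Coh.IsQCoh (CohB1.tensorMod (pb a M) L) := MiscFlat6.isQCoh_tensor hLi
  obtain ⟨et⟩ := nonempty_fJ_twist H t m
  have hθ := KFlatLib.isIso_pullθ e.hom (pb a M) L
  let eM : (Scheme.Modules.pullback e.hom).obj (CohB1.tensorMod (pb a M) L) ≅
      CohB1.tensorMod (pb (fJ H t) M) (Twist.twistProjSpace n k m) :=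
    @asIso _ _ _ _ (KFlatLib.pullθ e.hom (pb a M) L) hθ ≪≫ PicGrp.tensorModIso
      ((Scheme.Modules.pullbackComp e.hom a).app M ≪≫ (Scheme.Modules.pullbackCongr he1).app M)
      ((Scheme.Modules.pullback e.hom).mapIso hL ≪≫ (Scheme.Modules.pullbackComp e.hom a).app _ ≪≫
        (Scheme.Modules.pullbackCongr he1).app _ ≪≫ et)
  unfold MumfordLib.chi FGA.eulerCharLE
  refine Finset.sum_congr rfl fun j _ => ?_
  obtain ⟨E⟩ := RpushLib.nonempty_affBase_bc (A := k) (B := k) hg (CohB1.tensorMod (pb a M) L) j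
  have h1 := (CurvLib.hIso (k := k) eM j).finrank_eq
  rw [← h1]
  congr 2
  exact (Module.finrank_baseChange (R := k) (S := k) (M' := Coh.HH Z (CohB1.tensorMod (pb a M) L) j)).symm.trans
    E.finrank_eq

end QuotSchLib
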