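import Groth.Agent.QuotSchLib.Fibre
import Groth.Agent.RichLib.FibreProper
import Groth.Agent.RpushLib.Ab
import Groth.Agent.PnCohLib.FlatTensor
import Groth.Agent.SerreVanLib.Rpush
import Groth.Agent.LocSuppLib.LocFree

/-!
# Families of uniformly regular modules on projective space
-/

set_option autoImplicit false
set_option linter.style.haveILetI false
set_option maxHeartbeats 1000000
universe u

open CategoryTheory CategoryTheory.Limits AlgebraicGeometry TopologicalSpace
open KFlatLib (pb)

noncomputable section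

namespace QuotSchLib

/-- A globally generated module receives a surjective counit, over any base. -/
theorem epi_counit_of_isGloballyGenerated {X S : Scheme.{u}} (f : X ⟶ S) {M : X.Modules}
    (h : Curv2.IsGloballyGenerated M) :
    Epi ((Scheme.Modules.pullbackPushforwardAdjunction f).counit.app M) := by
  obtain ⟨ι, p, hp⟩ := h
  let a := Scheme.Modules.pullbackPushforwardAdjunction f
  let q : (Scheme.Modules.pullback f).obj (SheafOfModules.free ι : S.Modules) ⟶ M :=
    (SheafOfModules.pullbackObjFreeIso f.toRingCatSheafHom ι).hom ≫ p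
  have hq : Epi q := @epi_comp _ _ _ _ _ _ inferInstance p hp
  have e : (Scheme.Modules.pullback f).map (a.homEquiv _ _ q) ≫ a.counit.app M = q :=
    (a.homEquiv_counit _ _ _).symm.trans ((a.homEquiv _ _).symm_apply_apply q)
  exact epi_of_epi_fac (f := (Scheme.Modules.pullback f).map (a.homEquiv _ _ q)) e

variable {n : ℕ} {T : Scheme.{u}} [IsLocallyNoetherian T]

theorem isLocallyNoetherian_projSpaceOver (n : ℕ) (T : Scheme.{u}) [IsLocallyNoetherian T] :
    IsLocallyNoetherian (CohB1.ProjSpaceOver n T) :=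
  haveI : IsProper (CohB1.ProjSpaceOver.toBase n T) := ChowLib.isProper_toBase n T
  LocallyOfFiniteType.isLocallyNoetherian (CohB1.ProjSpaceOver.toBase n T)

theorem isFP_twist {Q : (CohB1.ProjSpaceOver n T).Modules} (hQ : Coh.IsCoh Q) (d : ℤ) :
    CohB1.IsFP (CohB1.tensorMod Q (Twist.twistOver n T d)) :=
  haveI := isLocallyNoetherian_projSpaceOver n T
  QCohLib.isFP_of_isCoh _ (SerreVanLib.isCoh_tensor hQ (PicPnLib.twistOver_inv n T d))

omit [IsLocallyNoetherian T] in
theorem isFlatOver_twist {Q : (CohB1.ProjSpaceOver n T).Modules}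
    (hflat : FlatMod.IsFlatOver (CohB1.ProjSpaceOver.toBase n T) Q) (d : ℤ) :
    FlatMod.IsFlatOver (CohB1.ProjSpaceOver.toBase n T) (CohB1.tensorMod Q (Twist.twistOver n T d)) :=
  PnCohLib.isFlatOver_tensor _ hflat (PicPnLib.twistOver_inv n T d)

variable {Q : (CohB1.ProjSpaceOver n T).Modules} (hQ : Coh.IsCoh Q)
  (hflat : FlatMod.IsFlatOver (CohB1.ProjSpaceOver.toBase n T) Q) {m : ℤ} (hreg : RegFam Q m)

include hQ hflat hreg

/-- The direct images of the twists are finite locally free. -/
theorem isFinLocFree_push (d : ℤ) (hd : m - 1 ≤ d) :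
    FlatMod.IsFinLocFree ((Coh.push (CohB1.ProjSpaceOver.toBase n T)).obj
      (CohB1.tensorMod Q (Twist.twistOver n T d))) := by
  haveI : IsProper (CohB1.ProjSpaceOver.toBase n T) := ChowLib.isProper_toBase n T
  haveI := RichLib.FibreLoci.lfp_toBase n T
  haveI := hQ.1
  haveI := isQCoh_twist Q d
  exact fun t => CohCmpLib.exists_push_free_of_fibre_one (isFP_twist hQ d) (isFlatOver_twist hflat d) t
    (hreg.subsingleton_fiberH d hd t 1 le_rfl)

/-- The higher direct images of the twists vanish. -/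
theorem isZero_rpushAb (d : ℤ) (hd : m - 1 ≤ d) (i : ℕ) (hi : 1 ≤ i) :
    IsZero ((Coh.RpushAb (CohB1.ProjSpaceOver.toBase n T) i).obj
      (Coh.toAb (CohB1.tensorMod Q (Twist.twistOver n T d)))) := by
  haveI : IsProper (CohB1.ProjSpaceOver.toBase n T) := ChowLib.isProper_toBase n T
  haveI := RichLib.FibreLoci.lfp_toBase n T
  haveI := hQ.1
  haveI := isQCoh_twist Q d
  haveI : HasInjectiveResolutions (CohB1.ProjSpaceOver n T).Modules := inferInstance
  obtain ⟨e⟩ := RpushLib.nonempty_toAb_rpush_iso (CohB1.ProjSpaceOver.toBase n T)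
    (CohB1.tensorMod Q (Twist.twistOver n T d)) i
  refine IsZero.of_iso ?_ e.symm
  exact (QCohLib.toAbF T).map_isZero (CohCmpLib.isZero_rpush_of_fibre (isFP_twist hQ d) (isFlatOver_twist hflat d) i
    fun t => hreg.subsingleton_fiberH d hd t i hi)

/-- The formation of the direct images of the twists commutes with base change. -/
theorem isIso_bc0 (d : ℤ) (hd : m - 1 ≤ d) {X' T' : Scheme.{u}} {g : T' ⟶ T} {f' : X' ⟶ T'}
    {g' : X' ⟶ CohB1.ProjSpaceOver n T} (H : IsPullback g' f' (CohB1.ProjSpaceOver.toBase n T) g) :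
    IsIso (CohBC.bc0 (CohB1.ProjSpaceOver.toBase n T) g f' g' H.w (CohB1.tensorMod Q (Twist.twistOver n T d))) := by
  haveI : IsProper (CohB1.ProjSpaceOver.toBase n T) := ChowLib.isProper_toBase n T
  haveI := RichLib.FibreLoci.lfp_toBase n T
  haveI := hQ.1
  haveI := isQCoh_twist Q d
  haveI : HasInjectiveResolutions (CohB1.ProjSpaceOver n T).Modules := inferInstance
  exact CohCmpLib.isIso_bc0_of_fibre_one (isFP_twist hQ d) (isFlatOver_twist hflat d) H
    fun z => hreg.subsingleton_fiberH d hd (g z) 1 le_rfl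

/-- The twists are generated by their direct images. -/
theorem epi_counit (d : ℤ) (hd : m ≤ d) :
    Epi ((Scheme.Modules.pullbackPushforwardAdjunction (CohB1.ProjSpaceOver.toBase n T)).counit.app
      (CohB1.tensorMod Q (Twist.twistOver n T d))) := by
  haveI : IsProper (CohB1.ProjSpaceOver.toBase n T) := ChowLib.isProper_toBase n T
  haveI := hQ.1
  haveI := isLocallyNoetherian_projSpaceOver n T
  have hM := SerreVanLib.isCoh_tensor hQ (PicPnLib.twistOver_inv n T d)
  have hP := isFinLocFree_push hQ hflat hreg d (by omega)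
  haveI : Coh.IsQCoh ((Scheme.Modules.pushforward (CohB1.ProjSpaceOver.toBase n T) ⋙
      Scheme.Modules.pullback (CohB1.ProjSpaceOver.toBase n T)).obj (CohB1.tensorMod Q (Twist.twistOver n T d))) :=
    haveI : Coh.IsQCoh ((Scheme.Modules.pushforward (CohB1.ProjSpaceOver.toBase n T)).obj
      (CohB1.tensorMod Q (Twist.twistOver n T d))) := (LocSuppLib.isCoh_of_isFinLocFree hP).1
    KFlatLib.isQCoh_pullback (CohB1.ProjSpaceOver.toBase n T) _
  haveI : Coh.IsQCoh ((𝟭 (CohB1.ProjSpaceOver n T).Modules).obj (CohB1.tensorMod Q (Twist.twistOver n T d))) := hM.1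
  haveI := hM.1
  refine CohCmpLib.epi_of_epi_pullbacks hM.2 _ fun x => ?_
  let t := (CohB1.ProjSpaceOver.toBase n T) x
  obtain ⟨z, hz⟩ : x ∈ Set.range ((CohB1.ProjSpaceOver.toBase n T).fiberι t) := by
    rw [Scheme.Hom.range_fiberι]; rfl
  have H := isPullback_fibJ (n := n) t
  let e : CohB1.ProjSpace n (T.residueField t) ≅ (CohB1.ProjSpaceOver.toBase n T).fiber t :=
    H.isoIsPullback _ _ (IsPullback.of_hasPullback _ _)
  have he : e.hom ≫ (CohB1.ProjSpaceOver.toBase n T).fiberι t = fibJ n T t :=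
    H.isoIsPullback_hom_fst _ _ (IsPullback.of_hasPullback _ _)
  refine ⟨_, fibJ n T t, e.inv z, ?_, ?_⟩
  · rw [← hz, ← he]
    simp [← Scheme.Hom.comp_apply]
  let f' := CohB1.ProjSpace.toSpec n (T.residueField t)
  haveI := isIso_bc0 hQ hflat hreg d (by omega) H
  obtain ⟨et⟩ := nonempty_fibJ_tensor t Q d
  have hgg : Curv2.IsGloballyGenerated (pb (fibJ n T t) (CohB1.tensorMod Q (Twist.twistOver n T d))) := by
    obtain ⟨ι, p, hp⟩ := PnCohLib.isGloballyGenerated_of_regular _ _
      (KFlatLib.isQCoh_pullback (fibJ n T t) Q) d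
      (fun i h1 h2 => PnCohLib.vanishing_ge _ _ (KFlatLib.isQCoh_pullback (fibJ n T t) Q) m (hreg t) i h1 _ (by omega))
    exact ⟨ι, p ≫ et.inv, epi_comp _ _⟩
  have := epi_counit_of_isGloballyGenerated f' hgg
  have e' := CohCmpLib.bc0_counit H.w (CohB1.tensorMod Q (Twist.twistOver n T d))
  have : Epi ((CohCmpLib.sqIso H.w).hom.app ((Scheme.Modules.pushforward (CohB1.ProjSpaceOver.toBase n T)).obj
      (CohB1.tensorMod Q (Twist.twistOver n T d))) ≫ (Scheme.Modules.pullback (fibJ n T t)).map
        ((Scheme.Modules.pullbackPushforwardAdjunction (CohB1.ProjSpaceOver.toBase n T)).counit.app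
          (CohB1.tensorMod Q (Twist.twistOver n T d)))) := by
    rw [← e']
    exact epi_comp _ _
  exact epi_of_epi ((CohCmpLib.sqIso H.w).hom.app _) _

end QuotSchLib
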