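import Groth.Agent.QuotSchLib.Twist

/-!
# Universal quotients of free twisted modules, for any twist and any polynomial
-/

set_option autoImplicit false
set_option linter.style.haveILetI false
set_option maxHeartbeats 1000000
universe u

open CategoryTheory CategoryTheory.Limits AlgebraicGeometry TopologicalSpace Polynomial
open KFlatLib (pb tens)

noncomputable section

namespace QuotSchLib

variable {n : ℕ} {S T X' : Scheme.{u}} {g : T ⟶ S} {g' : X' ⟶ CohB1.ProjSpaceOver n S} {f' : X' ⟶ T}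
  (H : IsPullback g' f' (CohB1.ProjSpaceOver.toBase n S) g)

theorem isCoh_twF {F : X'.Modules} (hF : Coh.IsCoh F) (d : ℤ) :
    Coh.IsCoh (tens (pb g' (Twist.twistOver n S d)) F) :=
  HilbPolyLib.isCoh_tensor (AmpleDevLib.isInvertible_pb g' (PicPnLib.twistOver_inv n S d)) hF

theorem isFlatOver_twF {F : X'.Modules} (hF : FlatMod.IsFlatOver f' F) (d : ℤ) :
    FlatMod.IsFlatOver f' (tens (pb g' (Twist.twistOver n S d)) F) := fun x =>
  (RichLib.ModFlat.isFlatOverAt_iso f' (HilbPolyLib.swapIso F (pb g' (Twist.twistOver n S d))) x).1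
    (PnCohLib.isFlatOver_tensor f' hF (AmpleDevLib.isInvertible_pb g' (PicPnLib.twistOver_inv n S d)) x)

/-- Rearranging three factors. -/
def arrange {Z : Scheme.{u}} {A B B' C D : Z.Modules} (eB : B ≅ B') (ea : CohB1.tensorMod C B' ≅ D) :
    CohB1.tensorMod (tens B A) C ≅ CohB1.tensorMod A D :=
  PicGrp.tensorModIso (HilbPolyLib.swapIso B A) (Iso.refl _) ≪≫ (VBP1Lib.compIso A B).app C ≪≫
    PicGrp.tensorModIso (Iso.refl _) (HilbPolyLib.swapIso B C ≪≫ PicGrp.tensorModIso (Iso.refl _) eB ≪≫ ea)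

/-- Fibre Euler characteristics of a twist. -/
theorem chi_twF (F : X'.Modules) (d : ℤ) (t : T) (m : ℤ) :
    MumfordLib.chi (T.residueField t) (pb (fJ H t) (tens (pb g' (Twist.twistOver n S d)) F)) m =
      MumfordLib.chi (T.residueField t) (pb (fJ H t) F) (m + d) := by
  obtain ⟨et⟩ := nonempty_fJ_twist H t d
  obtain ⟨ea⟩ := PicPnLib.twist_add n (T.residueField t) m d
  let e2 : CohB1.tensorMod (pb (fJ H t) (tens (pb g' (Twist.twistOver n S d)) F))
      (Twist.twistProjSpace n (T.residueField t) m) ≅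
      CohB1.tensorMod (pb (fJ H t) F) (Twist.twistProjSpace n (T.residueField t) (m + d)) :=
    PicGrp.tensorModIso (θI (fJ H t) (pb g' (Twist.twistOver n S d)) F) (Iso.refl _) ≪≫ arrange et ea
  haveI : IsProper (CohB1.ProjSpace n (T.residueField t) ↘ Spec (CommRingCat.of (T.residueField t))) :=
    MumfordLib.isProper_projSpace (n := n) _
  rw [MumfordLib.chi_eq_euler, MumfordLib.chi_eq_euler]
  exact CurvLib.euler_congr (k := T.residueField t) e2

theorem polyX_twF {F : X'.Modules} {Φ : Polynomial ℚ} (h : PolyX H F Φ) (d : ℤ) :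
    PolyX H (tens (pb g' (Twist.twistOver n S d)) F) (Φ.comp (Polynomial.X + Polynomial.C (d : ℚ))) := fun t m => by
  rw [chi_twF H F d t m, h t (m + d)]
  simp

omit H in
/-- A module is the twist of its inverse twist. -/
def untwIso {L L' : (CohB1.ProjSpaceOver n S).Modules} (e : CohB1.tensorMod L L' ≅ Coh.structureModule _)
    (g₀ : X' ⟶ CohB1.ProjSpaceOver n S) (F : X'.Modules) : tens (pb g₀ L) (tens (pb g₀ L') F) ≅ F :=
  ((VBP1Lib.compIso (pb g₀ L) (pb g₀ L')).app F).symm ≪≫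
    PicGrp.tensorModIso ((θI g₀ L L').symm ≪≫ (Scheme.Modules.pullback g₀).mapIso e ≪≫ KFlatLib.pullUnitIso g₀)
      (Iso.refl _) ≪≫ VBP1Lib.unitNatIso.app F

theorem exists_universal_src [AlgebraicGeometry.IsNoetherian S] (hS : GrassOK S) (p : ℕ) (ν : ℤ)
    (Φ : Polynomial ℚ) :
    ∃ (Q : Scheme.{u}) (gQ : Q ⟶ S) (FQ : (CohB1.ProjSpaceOver n Q).Modules)
      (φQ : pb (FGA.projMap n gQ) (srcOver S n p ν) ⟶ FQ),
      AlgebraicGeometry.IsNoetherian Q ∧
      (∃ (m : ℕ) (c : Q ⟶ CohB1.ProjSpaceOver m S), IsClosedImmersion c ∧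
        c ≫ CohB1.ProjSpaceOver.toBase m S = gQ) ∧
      IsUniversalQuot Φ gQ FQ φQ := by
  obtain ⟨d₀, hd₀⟩ := exists_stable.{u} n p ν Φ
  let d := max d₀ (-ν)
  obtain ⟨Q, gQ, F₁, φ₁, hQ, hc, hF₁, hφ₁, hF₁fl, hF₁P, huniv⟩ :=
    exists_core_closed (n := n) hS (show 0 ≤ ν + d by omega) (hd₀ d (le_max_left _ _))
  let L := Twist.twistOver n S d
  let L' := Twist.twistOver n S (-d)
  obtain ⟨eLL⟩ := PicPnLib.twistOver_neg n S d
  obtain ⟨eadd⟩ := PicPnLib.twistOver_add n S d ν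
  let e : srcOver S n p (ν + d) ≅ tens L (srcOver S n p ν) :=
    PicGrp.tensorModIso (eqToIso (by rw [add_comm]) ≪≫ eadd.symm) (Iso.refl _) ≪≫
      (VBP1Lib.compIso L (Twist.twistOver n S ν)).app _
  let pQ := FGA.projMap n gQ
  haveI := isEquivalence_pb eLL pQ
  let FQ := tens (pb pQ L') F₁
  let a : tens (pb pQ L) FQ ≅ F₁ := untwIso eLL pQ F₁
  let φQ : pb pQ (srcOver S n p ν) ⟶ FQ := (CurvLib.tensorLeft' (pb pQ L)).preimage
    ((θI pQ L (srcOver S n p ν)).inv ≫ (Scheme.Modules.pullback pQ).map e.inv ≫ φ₁ ≫ a.inv)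
  have hφ : φ₁ = ((Scheme.Modules.pullback pQ).map e.hom ≫ tw L pQ φQ) ≫ a.hom := by
    rw [tw]
    simp only [φQ, Functor.map_preimage, Iso.hom_inv_id_assoc, ← Functor.map_comp_assoc,
      Category.assoc, Iso.inv_hom_id, Category.comp_id]
    rw [Iso.hom_inv_id, CategoryTheory.Functor.map_id, Category.id_comp]
  haveI := hφ₁
  have hφQ : Epi φQ := (CurvLib.tensorLeft' (pb pQ L)).epi_of_epi_map (by
    rw [Functor.map_preimage]
    exact epi_comp' inferInstance (epi_comp' inferInstance (epi_comp _ _)))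
  have hP : PolyX (isPullback_projMap gQ) FQ Φ := by
    have h := polyX_twF (isPullback_projMap gQ) hF₁P (-d)
    intro t m
    rw [h t m]
    simp
  refine ⟨Q, gQ, FQ, φQ, hQ, hc, isCoh_twF hF₁ (-d), hφQ, isFlatOver_twF hF₁fl (-d), hP,
    fun T X' _ g g' f' H F hF hfl φ hφe hPF => ?_⟩
  haveI := isEquivalence_pb eLL g'
  haveI := hφe
  haveI : Epi (tw L g' φ) := epi_comp _ _
  have hex := huniv T X' g g' f' H (tens (pb g' L) F) (isCoh_twF hF d) (isFlatOver_twF hfl d)
    ((Scheme.Modules.pullback g').map e.hom ≫ tw L g' φ) (epi_comp _ _) (polyX_twF H hPF d)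
  refine (existsUnique_congr fun u => ?_).1 hex
  rw [hφ]
  exact (classifies_target a u).trans ((classifies_congr e u).trans (classifies_tw eLL u))

end QuotSchLib
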