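import Groth.Agent.QuotSchLib.Shift
import Groth.Agent.QuotSchLib.HomZeroLoc

/-!
# Universal quotients of a quotient module
-/

set_option autoImplicit false
set_option linter.style.haveILetI false
set_option maxHeartbeats 1000000
universe u

open CategoryTheory CategoryTheory.Limits AlgebraicGeometry TopologicalSpace
open KFlatLib (pb)

noncomputable section

namespace QuotSchLib

theorem quotBC_pre {A B C : Scheme.{u}} {π : B ⟶ C} {g : A ⟶ C} {v : A ⟶ B} (hv : v ≫ π = g) {E E' : C.Modules}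
    (a : E' ⟶ E) {F : B.Modules} (φ : (Scheme.Modules.pullback π).obj E ⟶ F) :
    Grass.quotBC hv ((Scheme.Modules.pullback π).map a ≫ φ) =
      (Scheme.Modules.pullback g).map a ≫ Grass.quotBC hv φ := by
  subst hv
  simp only [Grass.quotBC, Functor.map_comp]
  erw [Category.id_comp, Category.id_comp]
  rw [← Category.assoc, ← Category.assoc]
  exact congrArg (· ≫ _) ((Scheme.Modules.pullbackComp v π).inv.naturality a).symm

variable {n : ℕ} {S : Scheme.{u}}

/-- A universal family of quotients of `G₁` gives one for every quotient of `G₁`, over a closed subscheme. -/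
theorem exists_universal_sub [IsLocallyNoetherian S] {G₁ G : (CohB1.ProjSpaceOver n S).Modules}
    (hG₁ : Coh.IsCoh G₁) (hG : Coh.IsQCoh G) (π₀ : G₁ ⟶ G) [Epi π₀] {Φ : Polynomial ℚ} {Q : Scheme.{u}}
    {gQ : Q ⟶ S} [IsLocallyNoetherian Q] {FQ : (CohB1.ProjSpaceOver n Q).Modules}
    {φQ : pb (FGA.projMap n gQ) G₁ ⟶ FQ} (hU : IsUniversalQuot Φ gQ FQ φQ) :
    ∃ (Q' : Scheme.{u}) (c : Q' ⟶ Q) (FQ' : (CohB1.ProjSpaceOver n Q').Modules)
      (φQ' : pb (FGA.projMap n (c ≫ gQ)) G ⟶ FQ'),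
      IsClosedImmersion c ∧ IsUniversalQuot Φ (c ≫ gQ) FQ' φQ' := by
  obtain ⟨hFQ, hφQ, hQfl, hQP, huniv⟩ := hU
  haveI := hG
  haveI := hFQ.1
  haveI := isLocallyNoetherian_projSpaceOver n S
  haveI := isLocallyNoetherian_projSpaceOver n Q
  have hN : Coh.IsCoh (kernel π₀) := QCohLib.isCoh_kernel π₀ hG₁ hG
  have HQ : IsPullback (FGA.projMap n gQ) (CohB1.ProjSpaceOver.toBase n Q)
      (𝟙 (CohB1.ProjSpaceOver n S) ≫ CohB1.ProjSpaceOver.toBase n S) gQ := by
    rw [Category.id_comp]; exact isPullback_projMap gQ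
  obtain ⟨Q', c, hc, hcu⟩ := exists_homZero_loc (𝟙 _) HQ (ConsLib.isCoh_pullback _ hN) hFQ hQfl
    ((Scheme.Modules.pullback (FGA.projMap n gQ)).map (kernel.ι π₀) ≫ φQ)
  haveI := hc
  haveI : IsLocallyNoetherian Q' := LocallyOfFiniteType.isLocallyNoetherian c
  let v := FGA.projMap n c
  have hv : v ≫ FGA.projMap n gQ = FGA.projMap n (c ≫ gQ) := projMap_comp c gQ
  have h0 : (Scheme.Modules.pullback (FGA.projMap n (c ≫ gQ))).map (kernel.ι π₀) ≫ Grass.quotBC hv φQ = 0 := by
    rw [← quotBC_pre hv, Grass.quotBC, (hcu c (isPullback_projMap c)).2 ⟨𝟙 _, Category.id_comp c⟩, comp_zero,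
      comp_zero]
  let P := Scheme.Modules.pullback (FGA.projMap n (c ≫ gQ))
  haveI : P.IsLeftAdjoint := ⟨_, ⟨Scheme.Modules.pullbackPushforwardAdjunction _⟩⟩
  have hcok := CokernelCofork.mapIsColimit (CokernelCofork.ofπ π₀ (kernel.condition π₀))
    (ShortComplex.ShortExact.mk (S := ShortComplex.mk (kernel.ι π₀) π₀ (kernel.condition π₀))
      (ShortComplex.exact_kernel π₀)).gIsCokernel P
  let φ' : P.obj G ⟶ pb v FQ := hcok.desc (CokernelCofork.ofπ (Grass.quotBC hv φQ) h0)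
  have hφ' : P.map π₀ ≫ φ' = Grass.quotBC hv φQ := Cofork.IsColimit.π_desc hcok
  haveI := hφQ
  haveI := epi_quotBC hv φQ
  haveI : Epi (P.map π₀ ≫ φ') := by rw [hφ']; infer_instance
  haveI : Epi φ' := epi_of_epi (P.map π₀) φ'
  refine ⟨Q', c, pb v FQ, φ', hc, ConsLib.isCoh_pullback _ hFQ, inferInstance,
    RGFlatLib.isFlatOver_pullback_of_isPullback (isPullback_projMap c) FQ hQfl,
    polyX_square ((isPullback_projMap c).paste_horiz (isPullback_projMap gQ)) _ hv rfl
      (polyX_pullback (isPullback_projMap gQ) (isPullback_projMap c) hFQ hQP),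
    fun T X' _ g g' f' H F hF hfl φ hφe hP => ?_⟩
  haveI := hφe
  let Pg := Scheme.Modules.pullback g'
  haveI : Epi (Pg.map π₀) := Grass.epi_pullback_map g' π₀
  obtain ⟨w, hw, hwu⟩ := huniv T X' g g' f' H F hF hfl (Pg.map π₀ ≫ φ) (epi_comp _ _) hP
  have main : ∀ l : T ⟶ Q', Classifies φ' g g' f' φ l ↔ Classifies φQ g g' f' (Pg.map π₀ ≫ φ) (l ≫ c) := by
    intro l
    constructor
    · rintro ⟨hu, z, hz, hzw, e, he⟩
      refine ⟨by rw [Category.assoc]; exact hu, z ≫ v, by rw [Category.assoc, hv]; exact hz,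
        by rw [Category.assoc, (isPullback_projMap c).w, ← Category.assoc, hzw, Category.assoc],
        ((Scheme.Modules.pullbackComp z v).app FQ).symm ≪≫ e, ?_⟩
      rw [Iso.trans_hom, Iso.symm_hom, Iso.app_inv, ← quotBC_comp hv hz (by rw [Category.assoc, hv]; exact hz),
        Category.assoc, Iso.hom_inv_id_app_assoc, ← hφ', quotBC_pre, Category.assoc, he]
    · rintro ⟨hu, z, hz, hzw, e, he⟩
      have HT : IsPullback z f' (CohB1.ProjSpaceOver.toBase n Q) (l ≫ c) :=
        IsPullback.of_right (hz.symm ▸ hu.symm ▸ H) hzw (isPullback_projMap gQ)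
      let z' := (isPullback_projMap c).lift z (f' ≫ l) (by rw [hzw, Category.assoc])
      have hz1 : z' ≫ v = z := (isPullback_projMap c).lift_fst _ _ _
      have hz2 : z' ≫ CohB1.ProjSpaceOver.toBase n Q' = f' ≫ l := (isPullback_projMap c).lift_snd _ _ _
      have hz' : z' ≫ FGA.projMap n (c ≫ gQ) = g' := by rw [← hv, ← Category.assoc, hz1, hz]
      refine ⟨by rw [← Category.assoc]; exact hu, z', hz', hz2,
        (Scheme.Modules.pullbackComp z' v).app FQ ≪≫ (Scheme.Modules.pullbackCongr hz1).app FQ ≪≫ e, ?_⟩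
      rw [← cancel_epi (Pg.map π₀), ← Category.assoc, ← quotBC_pre, hφ', ← he, Iso.trans_hom, Iso.trans_hom,
        Iso.app_hom, Iso.app_hom, ← Category.assoc, quotBC_comp hv hz' (by rw [hz1, hz]), ← Category.assoc]
      exact congrArg (· ≫ e.hom) (quotBC_congr hz1 _ hz _)
  obtain ⟨hu, z, hz, hzw, e, he⟩ := hw
  have HT : IsPullback z f' (CohB1.ProjSpaceOver.toBase n Q) w :=
    IsPullback.of_right (hz.symm ▸ hu.symm ▸ H) hzw (isPullback_projMap gQ)
  obtain ⟨l, hl⟩ := (hcu w HT).1 (by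
    have h1 : Grass.quotBC hz ((Scheme.Modules.pullback (FGA.projMap n gQ)).map (kernel.ι π₀) ≫ φQ) = 0 := by
      rw [quotBC_pre, ← cancel_mono e.hom, zero_comp, Category.assoc, he, ← Category.assoc, ← Pg.map_comp,
        kernel.condition, Pg.map_zero, zero_comp]
    rw [Grass.quotBC] at h1
    exact (cancel_epi _).1 ((cancel_epi _).1 (h1.trans comp_zero.symm) |>.trans comp_zero.symm))
  refine ⟨l, (main l).2 (hl ▸ ⟨hu, z, hz, hzw, e, he⟩), fun l' hl' => ?_⟩
  rw [← cancel_mono c, hl]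
  exact hwu _ ((main l').1 hl')

end QuotSchLib
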