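import Groth.Agent.QuotSchLib.Closed
import Groth.Agent.VBP1Lib.Tensor

/-!
# Twisting universal families of quotients
-/

set_option autoImplicit false
set_option linter.style.haveILetI false
set_option maxHeartbeats 1000000
universe u

open CategoryTheory CategoryTheory.Limits AlgebraicGeometry TopologicalSpace
open KFlatLib (pb puSec shTm)

noncomputable section

namespace QuotSchLib

local notation "W" => CurvLib.tensorLeft'

open KFlatLib (tens)

/-- The pullback of a tensor product. -/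
def θI {X Y : Scheme.{u}} (f : X ⟶ Y) (L M : Y.Modules) : pb f (tens L M) ≅ tens (pb f L) (pb f M) :=
  @asIso _ _ _ _ (KFlatLib.pullθ f L M) (KFlatLib.isIso_pullθ f L M)

theorem θI_hom {X Y : Scheme.{u}} (f : X ⟶ Y) (L M : Y.Modules) : (θI f L M).hom = KFlatLib.pullθ f L M := rfl

theorem θI_natural {X Y : Scheme.{u}} (f : X ⟶ Y) (L : Y.Modules) {M M' : Y.Modules} (b : M ⟶ M') :
    (Scheme.Modules.pullback f).map ((W L).map b) ≫ (θI f L M').hom =
      (θI f L M).hom ≫ (W (pb f L)).map ((Scheme.Modules.pullback f).map b) :=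
  KFlatLib.pullθ_natural_right f L b

theorem app_comp_apply {X : Scheme.{u}} {A B C : X.Modules} (a : A ⟶ B) (b : B ⟶ C) (U : X.Opens) (s : Γ(A, U)) :
    (a ≫ b).app U s = b.app U (a.app U s) := rfl

theorem comp_inv_puSec {X Y Z : Scheme.{u}} (v : X ⟶ Y) (w : Y ⟶ Z) (N : Z.Modules) {U : Z.Opens} (s : Γ(N, U)) :
    ((Scheme.Modules.pullbackComp v w).inv.app N).app ((v ≫ w) ⁻¹ᵁ U) (puSec (v ≫ w) s) = puSec v (puSec w s) := by
  rw [← CohCmpLib.pullbackComp_puSec v w N s]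
  exact congr(Scheme.Modules.Hom.app $((Scheme.Modules.pullbackComp v w).hom_inv_id_app N)
    ((v ≫ w) ⁻¹ᵁ U) (puSec v (puSec w s)))

/-- The identifications are compatible with composition. -/
theorem θI_comp {X Y Z : Scheme.{u}} (v : X ⟶ Y) (w : Y ⟶ Z) (L M : Z.Modules) :
    (Scheme.Modules.pullbackComp v w).hom.app (tens L M) ≫ (θI (v ≫ w) L M).hom =
      (Scheme.Modules.pullback v).map (θI w L M).hom ≫ (θI v (pb w L) (pb w M)).hom ≫
        ((DCoh.tensorBi (X := X)).map ((Scheme.Modules.pullbackComp v w).hom.app L)).app (pb v (pb w M)) ≫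
          ((DCoh.tensorBi (X := X)).obj (pb (v ≫ w) L)).map ((Scheme.Modules.pullbackComp v w).hom.app M) := by
  rw [← cancel_epi ((Scheme.Modules.pullbackComp v w).inv.app (tens L M)), Iso.inv_hom_id_app_assoc]
  refine KFlatLib.pullTens_hom_ext (v ≫ w) fun U m x => ?_
  simp only [θI_hom]
  refine (KFlatLib.pullθ_puSec (v ≫ w) L M m x).trans (Eq.symm ?_)
  refine (app_comp_apply _ _ _ _).trans ?_
  refine (congrArg _ (comp_inv_puSec v w (tens L M) (shTm m x))).trans ?_
  refine (app_comp_apply _ _ _ _).trans ?_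
  refine (congrArg _ ((KFlatLib.puSec_natural v (KFlatLib.pullθ w L M) (puSec w (shTm m x))).trans
    (congrArg (puSec v) (KFlatLib.pullθ_puSec w L M m x)))).trans ?_
  refine (app_comp_apply _ _ _ _).trans ?_
  refine (congrArg _ (KFlatLib.pullθ_puSec v (pb w L) (pb w M) (puSec w m) (puSec w x))).trans ?_
  refine (app_comp_apply _ _ _ _).trans ?_
  refine (congrArg _ (KFlatLib.tensorBi_map₁_shTm ((Scheme.Modules.pullbackComp v w).hom.app L) _
    (puSec v (puSec w m)) (puSec v (puSec w x)))).trans ?_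
  refine (KFlatLib.tensorBi_map₂_shTm _ _ _ _).trans ?_
  exact congr_arg₂ shTm (CohCmpLib.pullbackComp_puSec v w L m) (CohCmpLib.pullbackComp_puSec v w M x)

variable {n : ℕ} {S : Scheme.{u}}

section Tw

variable (L : (CohB1.ProjSpaceOver n S).Modules) {X' : Scheme.{u}} (g' : X' ⟶ CohB1.ProjSpaceOver n S)
  {G : (CohB1.ProjSpaceOver n S).Modules} {F : X'.Modules}

/-- The twist of a quotient. -/
def tw (φ : pb g' G ⟶ F) : pb g' (tens L G) ⟶ tens (pb g' L) F :=
  (θI g' L G).hom ≫ (W (pb g' L)).map φ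

theorem quotBC_self {A B C : Scheme.{u}} {π : B ⟶ C} (v : A ⟶ B) {E : C.Modules} {E' : B.Modules} (q : pb π E ⟶ E') :
    Grass.quotBC (rfl : v ≫ π = v ≫ π) q =
      (Scheme.Modules.pullbackComp v π).inv.app E ≫ (Scheme.Modules.pullback v).map q :=
  Category.id_comp _

theorem tw_chain {X Y : Scheme.{u}} (v : X ⟶ Y) {L₂ A B : Y.Modules} {P : X.Modules} {L₁ A₁ : X.Modules}
    (s : P ⟶ pb v (tens L₂ A)) (α : pb v L₂ ⟶ L₁) (β : pb v A ⟶ A₁) (γ : A₁ ⟶ pb v A) (hβ : β ≫ γ = 𝟙 _)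
    (t : P ⟶ tens L₁ A₁)
    (ht : t = s ≫ (θI v L₂ A).hom ≫ ((DCoh.tensorBi (X := X)).map α).app (pb v A) ≫
      ((DCoh.tensorBi (X := X)).obj L₁).map β) (q : A ⟶ B) :
    s ≫ (Scheme.Modules.pullback v).map (((DCoh.tensorBi (X := Y)).obj L₂).map q) ≫ (θI v L₂ B).hom ≫
        ((DCoh.tensorBi (X := X)).map α).app (pb v B) =
      t ≫ ((DCoh.tensorBi (X := X)).obj L₁).map (γ ≫ (Scheme.Modules.pullback v).map q) := by
  rw [ht, Category.assoc, Category.assoc, Category.assoc, ← Functor.map_comp, reassoc_of% hβ,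
    ← ((DCoh.tensorBi (X := X)).map α).naturality, ← Category.assoc ((Scheme.Modules.pullback v).map _),
    θI_natural v L₂ q]
  simp only [Category.assoc]

theorem tw_quotBC {Y : Scheme.{u}} {w : Y ⟶ CohB1.ProjSpaceOver n S} {FQ : Y.Modules} (φQ : pb w G ⟶ FQ)
    {v : X' ⟶ Y} (hv : v ≫ w = g') :
    ∃ ε : pb v (tens (pb w L) FQ) ≅ tens (pb g' L) (pb v FQ),
      Grass.quotBC hv (tw L w φQ) ≫ ε.hom = tw L g' (Grass.quotBC hv φQ) := by
  subst hv
  let α : pb v (pb w L) ≅ pb (v ≫ w) L := (Scheme.Modules.pullbackComp v w).app L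
  let e₂ : tens (pb v (pb w L)) (pb v FQ) ≅ tens (pb (v ≫ w) L) (pb v FQ) :=
    ((DCoh.tensorBi (X := X')).mapIso α).app _
  refine ⟨θI v (pb w L) FQ ≪≫ e₂, ?_⟩
  have h := tw_chain v (L₂ := pb w L) (A := pb w G) (B := FQ)
    ((Scheme.Modules.pullbackComp v w).inv.app (tens L G) ≫ (Scheme.Modules.pullback v).map (θI w L G).hom)
    α.hom ((Scheme.Modules.pullbackComp v w).hom.app G) ((Scheme.Modules.pullbackComp v w).inv.app G)
    (Iso.hom_inv_id_app _ _) (θI (v ≫ w) L G).hom (by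
      refine ((Iso.eq_inv_comp ((Scheme.Modules.pullbackComp v w).app (tens L G))).2 (θI_comp v w L G)).trans ?_
      exact (Category.assoc _ _ _).symm) φQ
  simp only [tw, quotBC_self, Functor.map_comp, Category.assoc] at h ⊢
  exact h

end Tw

theorem isEquivalence_pb {L L' : (CohB1.ProjSpaceOver n S).Modules}
    (e : CohB1.tensorMod L L' ≅ Coh.structureModule _) {X' : Scheme.{u}} (g' : X' ⟶ CohB1.ProjSpaceOver n S) :
    (W (pb g' L)).IsEquivalence :=
  VBP1Lib.isEquivalence_tensor ((θI g' L L').symm ≪≫ (Scheme.Modules.pullback g').mapIso e ≪≫ KFlatLib.pullUnitIso g')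

variable {G : (CohB1.ProjSpaceOver n S).Modules} {Q : Scheme.{u}} {gQ : Q ⟶ S}
  {FQ : (CohB1.ProjSpaceOver n Q).Modules} {φQ : pb (FGA.projMap n gQ) G ⟶ FQ} {T X' : Scheme.{u}} {g : T ⟶ S}
  {g' : X' ⟶ CohB1.ProjSpaceOver n S} {f' : X' ⟶ T} {F : X'.Modules} {φ : pb g' G ⟶ F}

/-- Twisting does not change classifying morphisms. -/
theorem classifies_tw {L L' : (CohB1.ProjSpaceOver n S).Modules}
    (e : CohB1.tensorMod L L' ≅ Coh.structureModule _) (u : T ⟶ Q) :
    Classifies (tw L (FGA.projMap n gQ) φQ) g g' f' (tw L g' φ) u ↔ Classifies φQ g g' f' φ u := by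
  haveI := isEquivalence_pb e g'
  constructor
  · rintro ⟨hu, v, hv, hw, a, ha⟩
    obtain ⟨ε, hε⟩ := tw_quotBC L g' φQ hv
    refine ⟨hu, v, hv, hw, (W (pb g' L)).preimageIso (ε.symm ≪≫ a), (W (pb g' L)).map_injective ?_⟩
    rw [Functor.map_comp, Functor.preimageIso_hom, Functor.map_preimage, ← cancel_epi (θI g' L G).hom,
      ← Category.assoc]
    show tw L g' (Grass.quotBC hv φQ) ≫ _ = tw L g' φ
    rw [← hε, Iso.trans_hom, Category.assoc, Iso.symm_hom, Iso.hom_inv_id_assoc, ha]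
  · rintro ⟨hu, v, hv, hw, a, ha⟩
    obtain ⟨ε, hε⟩ := tw_quotBC L g' φQ hv
    refine ⟨hu, v, hv, hw, ε ≪≫ (W (pb g' L)).mapIso a, ?_⟩
    rw [Iso.trans_hom, ← Category.assoc, hε, Functor.mapIso_hom, tw, tw, Category.assoc, ← Functor.map_comp, ha]

/-- Isomorphic quotient maps have the same classifying morphisms. -/
theorem classifies_congr {G₂ : (CohB1.ProjSpaceOver n S).Modules} (e : G₂ ≅ G) (u : T ⟶ Q) :
    Classifies ((Scheme.Modules.pullback (FGA.projMap n gQ)).map e.hom ≫ φQ) g g' f'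
      ((Scheme.Modules.pullback g').map e.hom ≫ φ) u ↔ Classifies φQ g g' f' φ u := by
  have key : ∀ (v : X' ⟶ CohB1.ProjSpaceOver n Q) (hv : v ≫ FGA.projMap n gQ = g'),
      Grass.quotBC hv ((Scheme.Modules.pullback (FGA.projMap n gQ)).map e.hom ≫ φQ) =
        (Scheme.Modules.pullback g').map e.hom ≫ Grass.quotBC hv φQ := by
    rintro v rfl
    simp only [Grass.quotBC, Functor.map_comp]
    erw [Category.id_comp, Category.id_comp]
    rw [← Category.assoc, ← Category.assoc]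
    exact congrArg (· ≫ _) ((Scheme.Modules.pullbackComp v (FGA.projMap n gQ)).inv.naturality e.hom).symm
  constructor
  · rintro ⟨hu, v, hv, hw, a, ha⟩
    refine ⟨hu, v, hv, hw, a, ?_⟩
    rw [key, Category.assoc, cancel_epi] at ha
    exact ha
  · rintro ⟨hu, v, hv, hw, a, ha⟩
    refine ⟨hu, v, hv, hw, a, ?_⟩
    rw [key, Category.assoc, ha]

/-- Changing the target by an isomorphism does not change classifying morphisms. -/
theorem classifies_target {FQ₂ : (CohB1.ProjSpaceOver n Q).Modules} (a : FQ ≅ FQ₂) (u : T ⟶ Q) :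
    Classifies (φQ ≫ a.hom) g g' f' φ u ↔ Classifies φQ g g' f' φ u := by
  constructor
  · rintro ⟨hu, v, hv, hw, b, hb⟩
    refine ⟨hu, v, hv, hw, (Scheme.Modules.pullback v).mapIso a ≪≫ b, ?_⟩
    rw [Iso.trans_hom, Functor.mapIso_hom, ← Category.assoc, ← quotBC_iso, hb]
  · rintro ⟨hu, v, hv, hw, b, hb⟩
    refine ⟨hu, v, hv, hw, (Scheme.Modules.pullback v).mapIso a.symm ≪≫ b, ?_⟩
    rw [Iso.trans_hom, Functor.mapIso_hom, quotBC_iso, Category.assoc, ← Functor.map_comp_assoc, Iso.symm_hom,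
      Iso.hom_inv_id, CategoryTheory.Functor.map_id, Category.id_comp, hb]

end QuotSchLib
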